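import Mathlib
import Cfsg.Agent.Lib.Zsigmondy

/-!
# Choice of the prime power (helper585)

* `select` : either some prime power `r^a ‖ Φ_e(q)` has `d + r^(a-1) < r^a` and `r ∤ f` (`q = p^f`) or `Φ_e(q) ∣ B`;
* `arith_of_list` : the arithmetic of the groups over small fields.
-/

set_option autoImplicit false

namespace Cfsg.Agent.H585.SuSel

theorem dvd_pow_sub_one {q r : ℕ} (hq : 1 ≤ q) (m : ℕ) :
    r ∣ q ^ m - 1 ↔ orderOf (q : ZMod r) ∣ m := by
  rw [← Nat.modEq_iff_dvd' (Nat.one_le_pow _ _ hq), ← ZMod.natCast_eq_natCast_iff, orderOf_dvd_iff_pow_eq_one]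
  push_cast
  exact eq_comm

/-- the order of `x` is `e` -/
theorem orderOf_eq {r e : ℕ} (he : 0 < e) {x : ZMod r} (h1 : x ^ e = 1) (hre : ¬ r ∣ e)
    (h2 : ∀ l : ℕ, l.Prime → l ∣ e → x ^ (e / l) = 1 → (l : ZMod r) = 0) : orderOf x = e := by
  refine orderOf_eq_of_pow_and_pow_div_prime he h1 fun l hl hle h => hre ?_
  exact ((ZMod.natCast_eq_zero_iff _ _).1 (h2 l hl hle h)).trans hle

theorem mod_eq_one {r e q : ℕ} (hr : r.Prime) (he : 2 ≤ e) (h : orderOf (q : ZMod r) = e) : r % e = 1 ∧ e < r := by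
  have : Fact r.Prime := ⟨hr⟩
  have h0 : (q : ZMod r) ≠ 0 := by
    intro h0
    rw [h0] at h
    have h1 := pow_orderOf_eq_one (0 : ZMod r)
    rw [h, zero_pow (by omega)] at h1
    exact zero_ne_one h1
  have h1 : orderOf (q : ZMod r) ∣ r - 1 := ZMod.orderOf_dvd_card_sub_one h0
  rw [h] at h1
  obtain ⟨m, hm⟩ := h1
  have h2 := hr.two_le
  have hm0 : m ≠ 0 := by
    rintro rfl
    omega
  have h3 : r = 1 + e * m := by omega
  refine ⟨?_, ?_⟩
  · rw [h3, Nat.add_mul_mod_self_left]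
    exact Nat.mod_eq_of_lt (by omega)
  · have : e * 1 ≤ e * m := Nat.mul_le_mul_left _ (Nat.pos_of_ne_zero hm0)
    omega

/-- **the choice of the prime power** -/
theorem select {p f q N e d s B : ℕ} (hp : p.Prime) (hf : 0 < f) (hq : q = p ^ f) (he : 3 ≤ e)
    (hed : d < e * (e + 1)) (hN0 : N ≠ 0)
    (h1 : ∀ r : ℕ, r.Prime → r ∣ N → orderOf (q : ZMod r) = e ∨ r = s) (h2 : ¬ s ^ 2 ∣ N)
    (h3 : ∀ r : ℕ, r.Prime → orderOf (q : ZMod r) = e → r ∣ N)
    (hB : ∀ r < d + 2, r.Prime → r % e = 1 → r ∣ B) (hsB : s ∣ B) :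
    (∃ r a : ℕ, r.Prime ∧ 1 ≤ a ∧ orderOf (q : ZMod r) = e ∧ r ^ a ∣ N ∧ ¬ r ^ (a + 1) ∣ N ∧
      d + r ^ (a - 1) < r ^ a ∧ ¬ r ∣ f) ∨ N ∣ B := by
  -- the exact power
  have hexact : ∀ r : ℕ, r.Prime → r ∣ N → ∃ a, 1 ≤ a ∧ r ^ a ∣ N ∧ ¬ r ^ (a + 1) ∣ N := by
    intro r hr hrN
    refine ⟨N.factorization r, ?_, Nat.ordProj_dvd N r, Nat.pow_succ_factorization_not_dvd hN0 hr⟩
    exact (hr.dvd_iff_one_le_factorization hN0).1 hrN
  have hbig : ∀ r a : ℕ, e < r → 2 ≤ a → d + r ^ (a - 1) < r ^ a := by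
    intro r a hr ha
    have e1 : r ^ a = r ^ (a - 1) * r := by rw [← pow_succ]; congr 1; omega
    have e2 : r ^ 1 ≤ r ^ (a - 1) := Nat.pow_le_pow_right (by omega) (by omega)
    rw [pow_one] at e2
    obtain ⟨c, rfl⟩ : ∃ c, r = c + 1 := ⟨r - 1, by omega⟩
    rw [e1, mul_add, mul_one]
    have e3 : e * (e + 1) ≤ (c + 1) ^ (a - 1) * c := by
      calc e * (e + 1) ≤ c * (c + 1) := Nat.mul_le_mul (by omega) (by omega)
        _ = (c + 1) * c := mul_comm _ _
        _ ≤ _ := Nat.mul_le_mul_right _ e2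
    omega
  by_cases hfe : f ≤ e
  · by_contra hcon
    push Not at hcon
    obtain ⟨hc1, hc2⟩ := hcon
    apply hc2
    rw [Nat.dvd_iff_prime_pow_dvd_dvd]
    intro r k hr hk
    rcases Nat.eq_zero_or_pos k with rfl | hk0
    · simp
    have hrN : r ∣ N := (dvd_pow_self r hk0.ne').trans hk
    rcases h1 r hr hrN with ho | rfl
    · obtain ⟨hm, her⟩ := mod_eq_one hr (by omega) ho
      obtain ⟨a, ha1, ha2, ha3⟩ := hexact r hr hrN
      have hrf : ¬ r ∣ f := fun h => by
        have := Nat.le_of_dvd hf h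
        omega
      have ha : a = 1 := by
        by_contra ha
        exact hrf (hc1 r a hr ha1 ho ha2 ha3 (hbig r a her (by omega)))
      subst ha
      have hk1 : k = 1 := by
        by_contra hk1
        exact ha3 ((pow_dvd_pow r (by omega)).trans hk)
      rw [hk1, pow_one]
      refine hB r ?_ hr hm
      by_contra hlt
      refine hrf (hc1 r 1 hr le_rfl ho ha2 ha3 ?_)
      simp only [Nat.sub_self, pow_zero, pow_one]
      omega
    · have hk1 : k = 1 := by
        by_contra hk1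
        exact h2 ((pow_dvd_pow r (by omega)).trans hk)
      rw [hk1, pow_one]
      exact hsB
  · left
    push Not at hfe
    have hef : 2 ≤ f * e := by nlinarith
    obtain ⟨r, hr, ho⟩ := Lib.Zsigmondy.exists_prime_orderOf (a := p) (n := f * e) hp.two_le hef
      (fun h => by nlinarith) (fun h => by nlinarith [h.2])
    have : Fact r.Prime := ⟨hr⟩
    have hoq : orderOf (q : ZMod r) = e := by
      rw [hq, Nat.cast_pow, orderOf_pow' _ hf.ne', ho, Nat.gcd_mul_right_left]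
      exact Nat.mul_div_cancel_left _ hf
    obtain ⟨-, hlt⟩ := mod_eq_one hr hef ho
    obtain ⟨a, ha1, ha2, ha3⟩ := hexact r hr (h3 r hr hoq)
    refine ⟨r, a, hr, ha1, hoq, ha2, ha3, ?_, fun h => ?_⟩
    · rcases Nat.lt_or_ge a 2 with h | h
      · have : a = 1 := by omega
        subst this
        simp only [Nat.sub_self, pow_zero, pow_one]
        have : (e + 1) * e ≤ f * e := Nat.mul_le_mul_right _ hfe
        have e3 : (e + 1) * e = e * (e + 1) := mul_comm _ _
        omega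
      · exact hbig r a (by nlinarith) h
    · have := Nat.le_of_dvd hf h
      nlinarith

/-! ### arithmetic of the small groups -/

/-- the product of prime powers -/
def pp (L : List (ℕ × ℕ)) : ℕ := (L.map fun x => x.1 ^ x.2).prod

/-- the check: no `t^j ≡ 1 mod r`, `j ≤ e_t` -/
def Chk (r p : ℕ) (L : List (ℕ × ℕ)) : Prop :=
  ∀ x ∈ L, x.1 ≠ r → x.1 ≠ p → ∀ j ∈ List.range (x.2 + 1), 1 ≤ j → x.1 ^ j % r ≠ 1

instance (r p : ℕ) (L : List (ℕ × ℕ)) : Decidable (Chk r p L) := by unfold Chk; infer_instance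

theorem arith_of_list {r p n : ℕ} (hr : r.Prime) {L : List (ℕ × ℕ)} (hn : n ∣ pp L) (hprime : ∀ x ∈ L, x.1.Prime)
    (hnd : (L.map Prod.fst).Nodup) (hchk : Chk r p L) :
    ∀ t : ℕ, t.Prime → t ≠ r → t ≠ p → ∀ j, 1 ≤ j → t ^ j ∣ n → ¬ r ∣ t ^ j - 1 := by
  intro t ht htr htp j hj htn
  have key : ∀ L : List (ℕ × ℕ), (∀ x ∈ L, x.1.Prime) → (L.map Prod.fst).Nodup → t ^ j ∣ pp L →
      ∃ x ∈ L, x.1 = t ∧ j ≤ x.2 := by
    intro L
    induction L with
    | nil =>
      intro _ _ h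
      exfalso
      have h1 : t ^ j ∣ 1 := h
      have := Nat.dvd_one.1 h1
      exact (Nat.one_lt_pow (by omega) ht.one_lt).ne' this
    | cons x L ih =>
      intro hpr hnd h
      have hpp : pp (x :: L) = x.1 ^ x.2 * pp L := by simp [pp]
      rw [hpp] at h
      rw [List.map_cons, List.nodup_cons] at hnd
      by_cases hxt : x.1 = t
      · -- `t` is prime to the rest
        have hcop : Nat.Coprime (t ^ j) (pp L) := by
          refine Nat.Coprime.pow_left _ ?_
          rw [Nat.Prime.coprime_iff_not_dvd ht]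
          intro h1
          unfold pp at h1
          rw [Prime.dvd_prod_iff ht.prime] at h1
          obtain ⟨m, hm, h2⟩ := h1
          rw [List.mem_map] at hm
          obtain ⟨z, hz, rfl⟩ := hm
          have h3 := ht.dvd_of_dvd_pow h2
          have h4 := (Nat.prime_dvd_prime_iff_eq ht (hpr z (List.mem_cons_of_mem _ hz))).1 h3
          apply hnd.1
          rw [hxt, h4]
          exact List.mem_map_of_mem hz
        have h5 := hcop.dvd_of_dvd_mul_right h
        rw [hxt] at h5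
        exact ⟨x, List.mem_cons_self, hxt, (Nat.pow_dvd_pow_iff_le_right ht.one_lt).1 h5⟩
      · have hcop : Nat.Coprime (t ^ j) (x.1 ^ x.2) := by
          refine Nat.Coprime.pow _ _ ?_
          exact (Nat.coprime_primes ht (hpr x List.mem_cons_self)).2 (Ne.symm hxt)
        obtain ⟨z, hz, h6⟩ := ih (fun z hz => hpr z (List.mem_cons_of_mem _ hz)) hnd.2 (hcop.dvd_of_dvd_mul_left h)
        exact ⟨z, List.mem_cons_of_mem _ hz, h6⟩
  obtain ⟨x, hx, rfl, hjx⟩ := key L hprime hnd (htn.trans hn)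
  have h1 := hchk x hx htr htp j (List.mem_range.2 (by omega)) hj
  intro h2
  apply h1
  have h3 : x.1 ^ j ≡ 1 [MOD r] := ((Nat.modEq_iff_dvd' (Nat.one_le_pow _ _ ht.pos)).2 h2).symm
  rw [h3]
  exact Nat.mod_eq_of_lt hr.one_lt

end Cfsg.Agent.H585.SuSel
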