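import Mathlib
import Cfsg.Agent.H585.SuSel

/-!
# The values of cyclotomic polynomials (helper585, generated)

For each `e`: `ordE` : a prime divisor `r` of `N = Φ_e(q)` has `orderOf (q : ZMod r) = e` or `r = s`; `dvdE` : the
converse; `sqE` : `¬ s ^ 2 ∣ N`.
-/

set_option autoImplicit false
set_option maxRecDepth 4000

namespace Cfsg.Agent.H585.SuPhi

open Cfsg.Agent.H585.SuSel

theorem zero_of_dvd {N n : ℕ} {z : ℤ} (hN : (N : ℤ) = z) (h : n ∣ N) : ((z : ℤ) : ZMod n) = 0 := by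
  rw [← hN]
  push_cast
  exact (ZMod.natCast_eq_zero_iff N n).2 h

/-! ### `e = 3` -/

theorem val3 {r : ℕ} {x : ZMod r} (h : 1 + x + x ^ 2 = 0) (hre : ¬ r ∣ 3) : orderOf x = 3 := by
  have h1 : x ^ 3 = 1 := by linear_combination (-1 + x) * h
  refine orderOf_eq (by norm_num) h1 hre fun l hl hle hy => ?_
  have hl' : l = 3 := by
    have h2 : l ≤ 3 := Nat.le_of_dvd (by norm_num) hle
    interval_cases l <;> revert hl hle <;> norm_num
  subst hl'
  norm_num at hy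
  push_cast
  linear_combination (1) * h - (2 + x) * hy

theorem conv3 {r : ℕ} (hr : r.Prime) {x : ZMod r} (h : orderOf x = 3) : 1 + x + x ^ 2 = 0 := by
  have : Fact r.Prime := ⟨hr⟩
  have h1 : x ^ 3 = 1 := by rw [← h]; exact pow_orderOf_eq_one x
  have h2 : ∀ m : ℕ, 0 < m → m < 3 → x ^ m - 1 ≠ 0 := by
    intro m hm hme h3
    have h4 : orderOf x ∣ m := orderOf_dvd_of_pow_eq_one (sub_eq_zero.1 h3)
    rw [h] at h4
    have := Nat.le_of_dvd hm h4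
    omega
  have h5 : (1 + x + x ^ 2) * ((x ^ 1 - 1)) = 0 := by linear_combination (1) * h1
  exact (mul_eq_zero.1 h5).resolve_right (h2 1 (by norm_num) (by norm_num))

theorem sq3 {q N : ℕ} (hN : (N : ℤ) = 1 + (q : ℤ) + (q : ℤ) ^ 2) : ¬ 3 ^ 2 ∣ N := by
  intro h
  have h1 := zero_of_dvd hN h
  push_cast at h1
  generalize (q : ZMod (3 ^ 2)) = x at h1
  revert h1; revert x; decide

theorem ord3 {q N : ℕ} (hN : (N : ℤ) = 1 + (q : ℤ) + (q : ℤ) ^ 2) (r : ℕ) (hr : r.Prime) (h : r ∣ N) :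
    orderOf (q : ZMod r) = 3 ∨ r = 3 := by
  have h0 := zero_of_dvd hN h
  push_cast at h0
  by_cases hre : r ∣ 3
  · right
    have h2 : r ≤ 3 := Nat.le_of_dvd (by norm_num) hre
    have h3 : r = 3 := by
      clear h0
      interval_cases r <;> revert hr hre <;> norm_num
    subst h3
    rfl
  · exact Or.inl (val3 h0 hre)

theorem dvd3 {q N : ℕ} (hN : (N : ℤ) = 1 + (q : ℤ) + (q : ℤ) ^ 2) (r : ℕ) (hr : r.Prime) (h : orderOf (q : ZMod r) = 3) :
    r ∣ N := by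
  have h1 := conv3 hr h
  rw [← ZMod.natCast_eq_zero_iff]
  have h2 := congrArg (Int.cast : ℤ → ZMod r) hN
  push_cast at h2
  rw [h2]
  exact h1

/-! ### `e = 6` -/

theorem val6 {r : ℕ} {x : ZMod r} (h : 1 - x + x ^ 2 = 0) (hre : ¬ r ∣ 6) : orderOf x = 6 := by
  have h1 : x ^ 6 = 1 := by linear_combination (-1 - x + x ^ 3 + x ^ 4) * h
  refine orderOf_eq (by norm_num) h1 hre fun l hl hle hy => ?_
  have hl' : l = 2 ∨ l = 3 := by
    have h2 : l ≤ 6 := Nat.le_of_dvd (by norm_num) hle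
    interval_cases l <;> revert hl hle <;> norm_num
  rcases hl' with rfl | rfl
  · norm_num at hy
    push_cast
    linear_combination (1 + x) * h - (1) * hy
  · norm_num at hy
    push_cast
    linear_combination (1 + x + x ^ 2) * h - (2 + x ^ 2) * hy

theorem conv6 {r : ℕ} (hr : r.Prime) {x : ZMod r} (h : orderOf x = 6) : 1 - x + x ^ 2 = 0 := by
  have : Fact r.Prime := ⟨hr⟩
  have h1 : x ^ 6 = 1 := by rw [← h]; exact pow_orderOf_eq_one x
  have h2 : ∀ m : ℕ, 0 < m → m < 6 → x ^ m - 1 ≠ 0 := by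
    intro m hm hme h3
    have h4 : orderOf x ∣ m := orderOf_dvd_of_pow_eq_one (sub_eq_zero.1 h3)
    rw [h] at h4
    have := Nat.le_of_dvd hm h4
    omega
  have h5 : (1 - x + x ^ 2) * ((x ^ 3 - 1) * (x ^ 2 - 1)) = 0 := by linear_combination (-1 + x) * h1
  exact (mul_eq_zero.1 h5).resolve_right (mul_ne_zero (h2 3 (by norm_num) (by norm_num)) (h2 2 (by norm_num) (by norm_num)))

theorem sq6 {q N : ℕ} (hN : (N : ℤ) = 1 - (q : ℤ) + (q : ℤ) ^ 2) : ¬ 3 ^ 2 ∣ N := by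
  intro h
  have h1 := zero_of_dvd hN h
  push_cast at h1
  generalize (q : ZMod (3 ^ 2)) = x at h1
  revert h1; revert x; decide

theorem ord6 {q N : ℕ} (hN : (N : ℤ) = 1 - (q : ℤ) + (q : ℤ) ^ 2) (r : ℕ) (hr : r.Prime) (h : r ∣ N) :
    orderOf (q : ZMod r) = 6 ∨ r = 3 := by
  have h0 := zero_of_dvd hN h
  push_cast at h0
  by_cases hre : r ∣ 6
  · right
    have h2 : r ≤ 6 := Nat.le_of_dvd (by norm_num) hre
    have h3 : r = 2 ∨ r = 3 := by
      clear h0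
      interval_cases r <;> revert hr hre <;> norm_num
    rcases h3 with rfl | rfl
    · exfalso
      generalize (q : ZMod 2) = x at h0
      revert h0; revert x; decide
    · rfl
  · exact Or.inl (val6 h0 hre)

theorem dvd6 {q N : ℕ} (hN : (N : ℤ) = 1 - (q : ℤ) + (q : ℤ) ^ 2) (r : ℕ) (hr : r.Prime) (h : orderOf (q : ZMod r) = 6) :
    r ∣ N := by
  have h1 := conv6 hr h
  rw [← ZMod.natCast_eq_zero_iff]
  have h2 := congrArg (Int.cast : ℤ → ZMod r) hN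
  push_cast at h2
  rw [h2]
  exact h1

/-! ### `e = 8` -/

theorem val8 {r : ℕ} {x : ZMod r} (h : 1 + x ^ 4 = 0) (hre : ¬ r ∣ 8) : orderOf x = 8 := by
  have h1 : x ^ 8 = 1 := by linear_combination (-1 + x ^ 4) * h
  refine orderOf_eq (by norm_num) h1 hre fun l hl hle hy => ?_
  have hl' : l = 2 := by
    have h2 : l ≤ 8 := Nat.le_of_dvd (by norm_num) hle
    interval_cases l <;> revert hl hle <;> norm_num
  subst hl'
  norm_num at hy
  push_cast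
  linear_combination (1) * h - (1) * hy

theorem conv8 {r : ℕ} (hr : r.Prime) {x : ZMod r} (h : orderOf x = 8) : 1 + x ^ 4 = 0 := by
  have : Fact r.Prime := ⟨hr⟩
  have h1 : x ^ 8 = 1 := by rw [← h]; exact pow_orderOf_eq_one x
  have h2 : ∀ m : ℕ, 0 < m → m < 8 → x ^ m - 1 ≠ 0 := by
    intro m hm hme h3
    have h4 : orderOf x ∣ m := orderOf_dvd_of_pow_eq_one (sub_eq_zero.1 h3)
    rw [h] at h4
    have := Nat.le_of_dvd hm h4
    omega
  have h5 : (1 + x ^ 4) * ((x ^ 4 - 1)) = 0 := by linear_combination (1) * h1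
  exact (mul_eq_zero.1 h5).resolve_right (h2 4 (by norm_num) (by norm_num))

theorem sq8 {q N : ℕ} (hN : (N : ℤ) = 1 + (q : ℤ) ^ 4) : ¬ 2 ^ 2 ∣ N := by
  intro h
  have h1 := zero_of_dvd hN h
  push_cast at h1
  generalize (q : ZMod (2 ^ 2)) = x at h1
  revert h1; revert x; decide

theorem ord8 {q N : ℕ} (hN : (N : ℤ) = 1 + (q : ℤ) ^ 4) (r : ℕ) (hr : r.Prime) (h : r ∣ N) :
    orderOf (q : ZMod r) = 8 ∨ r = 2 := by
  have h0 := zero_of_dvd hN h
  push_cast at h0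
  by_cases hre : r ∣ 8
  · right
    have h2 : r ≤ 8 := Nat.le_of_dvd (by norm_num) hre
    have h3 : r = 2 := by
      clear h0
      interval_cases r <;> revert hr hre <;> norm_num
    subst h3
    rfl
  · exact Or.inl (val8 h0 hre)

theorem dvd8 {q N : ℕ} (hN : (N : ℤ) = 1 + (q : ℤ) ^ 4) (r : ℕ) (hr : r.Prime) (h : orderOf (q : ZMod r) = 8) :
    r ∣ N := by
  have h1 := conv8 hr h
  rw [← ZMod.natCast_eq_zero_iff]
  have h2 := congrArg (Int.cast : ℤ → ZMod r) hN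
  push_cast at h2
  rw [h2]
  exact h1

/-! ### `e = 12` -/

theorem val12 {r : ℕ} {x : ZMod r} (h : 1 - x ^ 2 + x ^ 4 = 0) (hre : ¬ r ∣ 12) : orderOf x = 12 := by
  have h1 : x ^ 12 = 1 := by linear_combination (-1 - x ^ 2 + x ^ 6 + x ^ 8) * h
  refine orderOf_eq (by norm_num) h1 hre fun l hl hle hy => ?_
  have hl' : l = 2 ∨ l = 3 := by
    have h2 : l ≤ 12 := Nat.le_of_dvd (by norm_num) hle
    interval_cases l <;> revert hl hle <;> norm_num
  rcases hl' with rfl | rfl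
  · norm_num at hy
    push_cast
    linear_combination (1 + x ^ 2) * h - (1) * hy
  · norm_num at hy
    push_cast
    linear_combination (1 + x ^ 2 + x ^ 4) * h - (2 + x ^ 4) * hy

theorem conv12 {r : ℕ} (hr : r.Prime) {x : ZMod r} (h : orderOf x = 12) : 1 - x ^ 2 + x ^ 4 = 0 := by
  have : Fact r.Prime := ⟨hr⟩
  have h1 : x ^ 12 = 1 := by rw [← h]; exact pow_orderOf_eq_one x
  have h2 : ∀ m : ℕ, 0 < m → m < 12 → x ^ m - 1 ≠ 0 := by
    intro m hm hme h3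
    have h4 : orderOf x ∣ m := orderOf_dvd_of_pow_eq_one (sub_eq_zero.1 h3)
    rw [h] at h4
    have := Nat.le_of_dvd hm h4
    omega
  have h5 : (1 - x ^ 2 + x ^ 4) * ((x ^ 6 - 1) * (x ^ 4 - 1)) = 0 := by linear_combination (-1 + x ^ 2) * h1
  exact (mul_eq_zero.1 h5).resolve_right (mul_ne_zero (h2 6 (by norm_num) (by norm_num)) (h2 4 (by norm_num) (by norm_num)))

theorem sq12 {q N : ℕ} (hN : (N : ℤ) = 1 - (q : ℤ) ^ 2 + (q : ℤ) ^ 4) : ¬ 2 ^ 2 ∣ N := by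
  intro h
  have h1 := zero_of_dvd hN h
  push_cast at h1
  generalize (q : ZMod (2 ^ 2)) = x at h1
  revert h1; revert x; decide

theorem ord12 {q N : ℕ} (hN : (N : ℤ) = 1 - (q : ℤ) ^ 2 + (q : ℤ) ^ 4) (r : ℕ) (hr : r.Prime) (h : r ∣ N) :
    orderOf (q : ZMod r) = 12 ∨ r = 2 := by
  have h0 := zero_of_dvd hN h
  push_cast at h0
  by_cases hre : r ∣ 12
  · right
    have h2 : r ≤ 12 := Nat.le_of_dvd (by norm_num) hre
    have h3 : r = 2 ∨ r = 3 := by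
      clear h0
      interval_cases r <;> revert hr hre <;> norm_num
    rcases h3 with rfl | rfl
    · exfalso
      generalize (q : ZMod 2) = x at h0
      revert h0; revert x; decide
    · exfalso
      generalize (q : ZMod 3) = x at h0
      revert h0; revert x; decide
  · exact Or.inl (val12 h0 hre)

theorem dvd12 {q N : ℕ} (hN : (N : ℤ) = 1 - (q : ℤ) ^ 2 + (q : ℤ) ^ 4) (r : ℕ) (hr : r.Prime) (h : orderOf (q : ZMod r) = 12) :
    r ∣ N := by
  have h1 := conv12 hr h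
  rw [← ZMod.natCast_eq_zero_iff]
  have h2 := congrArg (Int.cast : ℤ → ZMod r) hN
  push_cast at h2
  rw [h2]
  exact h1

/-! ### `e = 9` -/

theorem val9 {r : ℕ} {x : ZMod r} (h : 1 + x ^ 3 + x ^ 6 = 0) (hre : ¬ r ∣ 9) : orderOf x = 9 := by
  have h1 : x ^ 9 = 1 := by linear_combination (-1 + x ^ 3) * h
  refine orderOf_eq (by norm_num) h1 hre fun l hl hle hy => ?_
  have hl' : l = 3 := by
    have h2 : l ≤ 9 := Nat.le_of_dvd (by norm_num) hle
    interval_cases l <;> revert hl hle <;> norm_num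
  subst hl'
  norm_num at hy
  push_cast
  linear_combination (1) * h - (2 + x ^ 3) * hy

theorem conv9 {r : ℕ} (hr : r.Prime) {x : ZMod r} (h : orderOf x = 9) : 1 + x ^ 3 + x ^ 6 = 0 := by
  have : Fact r.Prime := ⟨hr⟩
  have h1 : x ^ 9 = 1 := by rw [← h]; exact pow_orderOf_eq_one x
  have h2 : ∀ m : ℕ, 0 < m → m < 9 → x ^ m - 1 ≠ 0 := by
    intro m hm hme h3
    have h4 : orderOf x ∣ m := orderOf_dvd_of_pow_eq_one (sub_eq_zero.1 h3)
    rw [h] at h4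
    have := Nat.le_of_dvd hm h4
    omega
  have h5 : (1 + x ^ 3 + x ^ 6) * ((x ^ 3 - 1)) = 0 := by linear_combination (1) * h1
  exact (mul_eq_zero.1 h5).resolve_right (h2 3 (by norm_num) (by norm_num))

theorem sq9 {q N : ℕ} (hN : (N : ℤ) = 1 + (q : ℤ) ^ 3 + (q : ℤ) ^ 6) : ¬ 3 ^ 2 ∣ N := by
  intro h
  have h1 := zero_of_dvd hN h
  push_cast at h1
  generalize (q : ZMod (3 ^ 2)) = x at h1
  revert h1; revert x; decide

theorem ord9 {q N : ℕ} (hN : (N : ℤ) = 1 + (q : ℤ) ^ 3 + (q : ℤ) ^ 6) (r : ℕ) (hr : r.Prime) (h : r ∣ N) :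
    orderOf (q : ZMod r) = 9 ∨ r = 3 := by
  have h0 := zero_of_dvd hN h
  push_cast at h0
  by_cases hre : r ∣ 9
  · right
    have h2 : r ≤ 9 := Nat.le_of_dvd (by norm_num) hre
    have h3 : r = 3 := by
      clear h0
      interval_cases r <;> revert hr hre <;> norm_num
    subst h3
    rfl
  · exact Or.inl (val9 h0 hre)

theorem dvd9 {q N : ℕ} (hN : (N : ℤ) = 1 + (q : ℤ) ^ 3 + (q : ℤ) ^ 6) (r : ℕ) (hr : r.Prime) (h : orderOf (q : ZMod r) = 9) :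
    r ∣ N := by
  have h1 := conv9 hr h
  rw [← ZMod.natCast_eq_zero_iff]
  have h2 := congrArg (Int.cast : ℤ → ZMod r) hN
  push_cast at h2
  rw [h2]
  exact h1

/-! ### `e = 18` -/

theorem val18 {r : ℕ} {x : ZMod r} (h : 1 - x ^ 3 + x ^ 6 = 0) (hre : ¬ r ∣ 18) : orderOf x = 18 := by
  have h1 : x ^ 18 = 1 := by linear_combination (-1 - x ^ 3 + x ^ 9 + x ^ 12) * h
  refine orderOf_eq (by norm_num) h1 hre fun l hl hle hy => ?_
  have hl' : l = 2 ∨ l = 3 := by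
    have h2 : l ≤ 18 := Nat.le_of_dvd (by norm_num) hle
    interval_cases l <;> revert hl hle <;> norm_num
  rcases hl' with rfl | rfl
  · norm_num at hy
    push_cast
    linear_combination (1 + x ^ 3) * h - (1) * hy
  · norm_num at hy
    push_cast
    linear_combination (1 + x ^ 3 + x ^ 6) * h - (2 + x ^ 6) * hy

theorem conv18 {r : ℕ} (hr : r.Prime) {x : ZMod r} (h : orderOf x = 18) : 1 - x ^ 3 + x ^ 6 = 0 := by
  have : Fact r.Prime := ⟨hr⟩
  have h1 : x ^ 18 = 1 := by rw [← h]; exact pow_orderOf_eq_one x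
  have h2 : ∀ m : ℕ, 0 < m → m < 18 → x ^ m - 1 ≠ 0 := by
    intro m hm hme h3
    have h4 : orderOf x ∣ m := orderOf_dvd_of_pow_eq_one (sub_eq_zero.1 h3)
    rw [h] at h4
    have := Nat.le_of_dvd hm h4
    omega
  have h5 : (1 - x ^ 3 + x ^ 6) * ((x ^ 9 - 1) * (x ^ 6 - 1)) = 0 := by linear_combination (-1 + x ^ 3) * h1
  exact (mul_eq_zero.1 h5).resolve_right (mul_ne_zero (h2 9 (by norm_num) (by norm_num)) (h2 6 (by norm_num) (by norm_num)))

theorem sq18 {q N : ℕ} (hN : (N : ℤ) = 1 - (q : ℤ) ^ 3 + (q : ℤ) ^ 6) : ¬ 3 ^ 2 ∣ N := by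
  intro h
  have h1 := zero_of_dvd hN h
  push_cast at h1
  generalize (q : ZMod (3 ^ 2)) = x at h1
  revert h1; revert x; decide

theorem ord18 {q N : ℕ} (hN : (N : ℤ) = 1 - (q : ℤ) ^ 3 + (q : ℤ) ^ 6) (r : ℕ) (hr : r.Prime) (h : r ∣ N) :
    orderOf (q : ZMod r) = 18 ∨ r = 3 := by
  have h0 := zero_of_dvd hN h
  push_cast at h0
  by_cases hre : r ∣ 18
  · right
    have h2 : r ≤ 18 := Nat.le_of_dvd (by norm_num) hre
    have h3 : r = 2 ∨ r = 3 := by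
      clear h0
      interval_cases r <;> revert hr hre <;> norm_num
    rcases h3 with rfl | rfl
    · exfalso
      generalize (q : ZMod 2) = x at h0
      revert h0; revert x; decide
    · rfl
  · exact Or.inl (val18 h0 hre)

theorem dvd18 {q N : ℕ} (hN : (N : ℤ) = 1 - (q : ℤ) ^ 3 + (q : ℤ) ^ 6) (r : ℕ) (hr : r.Prime) (h : orderOf (q : ZMod r) = 18) :
    r ∣ N := by
  have h1 := conv18 hr h
  rw [← ZMod.natCast_eq_zero_iff]
  have h2 := congrArg (Int.cast : ℤ → ZMod r) hN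
  push_cast at h2
  rw [h2]
  exact h1

/-! ### `e = 14` -/

theorem val14 {r : ℕ} {x : ZMod r} (h : 1 - x + x ^ 2 - x ^ 3 + x ^ 4 - x ^ 5 + x ^ 6 = 0) (hre : ¬ r ∣ 14) : orderOf x = 14 := by
  have h1 : x ^ 14 = 1 := by linear_combination (-1 - x + x ^ 7 + x ^ 8) * h
  refine orderOf_eq (by norm_num) h1 hre fun l hl hle hy => ?_
  have hl' : l = 2 ∨ l = 7 := by
    have h2 : l ≤ 14 := Nat.le_of_dvd (by norm_num) hle
    interval_cases l <;> revert hl hle <;> norm_num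
  rcases hl' with rfl | rfl
  · norm_num at hy
    push_cast
    linear_combination (1 + x) * h - (1) * hy
  · norm_num at hy
    push_cast
    linear_combination (1 + x + x ^ 2 + x ^ 3 + x ^ 4 + x ^ 5 + x ^ 6) * h - (6 + 5 * x ^ 2 + 4 * x ^ 4 + 3 * x ^ 6 + 2 * x ^ 8 + x ^ 10) * hy

theorem conv14 {r : ℕ} (hr : r.Prime) {x : ZMod r} (h : orderOf x = 14) : 1 - x + x ^ 2 - x ^ 3 + x ^ 4 - x ^ 5 + x ^ 6 = 0 := by
  have : Fact r.Prime := ⟨hr⟩
  have h1 : x ^ 14 = 1 := by rw [← h]; exact pow_orderOf_eq_one x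
  have h2 : ∀ m : ℕ, 0 < m → m < 14 → x ^ m - 1 ≠ 0 := by
    intro m hm hme h3
    have h4 : orderOf x ∣ m := orderOf_dvd_of_pow_eq_one (sub_eq_zero.1 h3)
    rw [h] at h4
    have := Nat.le_of_dvd hm h4
    omega
  have h5 : (1 - x + x ^ 2 - x ^ 3 + x ^ 4 - x ^ 5 + x ^ 6) * ((x ^ 7 - 1) * (x ^ 2 - 1)) = 0 := by linear_combination (-1 + x) * h1
  exact (mul_eq_zero.1 h5).resolve_right (mul_ne_zero (h2 7 (by norm_num) (by norm_num)) (h2 2 (by norm_num) (by norm_num)))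

theorem sq14 {q N : ℕ} (hN : (N : ℤ) = 1 - (q : ℤ) + (q : ℤ) ^ 2 - (q : ℤ) ^ 3 + (q : ℤ) ^ 4 - (q : ℤ) ^ 5 + (q : ℤ) ^ 6) : ¬ 7 ^ 2 ∣ N := by
  intro h
  have h1 := zero_of_dvd hN h
  push_cast at h1
  generalize (q : ZMod (7 ^ 2)) = x at h1
  revert h1; revert x; decide

theorem ord14 {q N : ℕ} (hN : (N : ℤ) = 1 - (q : ℤ) + (q : ℤ) ^ 2 - (q : ℤ) ^ 3 + (q : ℤ) ^ 4 - (q : ℤ) ^ 5 + (q : ℤ) ^ 6) (r : ℕ) (hr : r.Prime) (h : r ∣ N) :
    orderOf (q : ZMod r) = 14 ∨ r = 7 := by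
  have h0 := zero_of_dvd hN h
  push_cast at h0
  by_cases hre : r ∣ 14
  · right
    have h2 : r ≤ 14 := Nat.le_of_dvd (by norm_num) hre
    have h3 : r = 2 ∨ r = 7 := by
      clear h0
      interval_cases r <;> revert hr hre <;> norm_num
    rcases h3 with rfl | rfl
    · exfalso
      generalize (q : ZMod 2) = x at h0
      revert h0; revert x; decide
    · rfl
  · exact Or.inl (val14 h0 hre)

theorem dvd14 {q N : ℕ} (hN : (N : ℤ) = 1 - (q : ℤ) + (q : ℤ) ^ 2 - (q : ℤ) ^ 3 + (q : ℤ) ^ 4 - (q : ℤ) ^ 5 + (q : ℤ) ^ 6) (r : ℕ) (hr : r.Prime) (h : orderOf (q : ZMod r) = 14) :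
    r ∣ N := by
  have h1 := conv14 hr h
  rw [← ZMod.natCast_eq_zero_iff]
  have h2 := congrArg (Int.cast : ℤ → ZMod r) hN
  push_cast at h2
  rw [h2]
  exact h1

/-! ### `e = 7` -/

theorem val7 {r : ℕ} {x : ZMod r} (h : 1 + x + x ^ 2 + x ^ 3 + x ^ 4 + x ^ 5 + x ^ 6 = 0) (hre : ¬ r ∣ 7) : orderOf x = 7 := by
  have h1 : x ^ 7 = 1 := by linear_combination (-1 + x) * h
  refine orderOf_eq (by norm_num) h1 hre fun l hl hle hy => ?_
  have hl' : l = 7 := by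
    have h2 : l ≤ 7 := Nat.le_of_dvd (by norm_num) hle
    interval_cases l <;> revert hl hle <;> norm_num
  subst hl'
  norm_num at hy
  push_cast
  linear_combination (1) * h - (6 + 5 * x + 4 * x ^ 2 + 3 * x ^ 3 + 2 * x ^ 4 + x ^ 5) * hy

theorem conv7 {r : ℕ} (hr : r.Prime) {x : ZMod r} (h : orderOf x = 7) : 1 + x + x ^ 2 + x ^ 3 + x ^ 4 + x ^ 5 + x ^ 6 = 0 := by
  have : Fact r.Prime := ⟨hr⟩
  have h1 : x ^ 7 = 1 := by rw [← h]; exact pow_orderOf_eq_one x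
  have h2 : ∀ m : ℕ, 0 < m → m < 7 → x ^ m - 1 ≠ 0 := by
    intro m hm hme h3
    have h4 : orderOf x ∣ m := orderOf_dvd_of_pow_eq_one (sub_eq_zero.1 h3)
    rw [h] at h4
    have := Nat.le_of_dvd hm h4
    omega
  have h5 : (1 + x + x ^ 2 + x ^ 3 + x ^ 4 + x ^ 5 + x ^ 6) * ((x ^ 1 - 1)) = 0 := by linear_combination (1) * h1
  exact (mul_eq_zero.1 h5).resolve_right (h2 1 (by norm_num) (by norm_num))

theorem sq7 {q N : ℕ} (hN : (N : ℤ) = 1 + (q : ℤ) + (q : ℤ) ^ 2 + (q : ℤ) ^ 3 + (q : ℤ) ^ 4 + (q : ℤ) ^ 5 + (q : ℤ) ^ 6) : ¬ 7 ^ 2 ∣ N := by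
  intro h
  have h1 := zero_of_dvd hN h
  push_cast at h1
  generalize (q : ZMod (7 ^ 2)) = x at h1
  revert h1; revert x; decide

theorem ord7 {q N : ℕ} (hN : (N : ℤ) = 1 + (q : ℤ) + (q : ℤ) ^ 2 + (q : ℤ) ^ 3 + (q : ℤ) ^ 4 + (q : ℤ) ^ 5 + (q : ℤ) ^ 6) (r : ℕ) (hr : r.Prime) (h : r ∣ N) :
    orderOf (q : ZMod r) = 7 ∨ r = 7 := by
  have h0 := zero_of_dvd hN h
  push_cast at h0
  by_cases hre : r ∣ 7
  · right
    have h2 : r ≤ 7 := Nat.le_of_dvd (by norm_num) hre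
    have h3 : r = 7 := by
      clear h0
      interval_cases r <;> revert hr hre <;> norm_num
    subst h3
    rfl
  · exact Or.inl (val7 h0 hre)

theorem dvd7 {q N : ℕ} (hN : (N : ℤ) = 1 + (q : ℤ) + (q : ℤ) ^ 2 + (q : ℤ) ^ 3 + (q : ℤ) ^ 4 + (q : ℤ) ^ 5 + (q : ℤ) ^ 6) (r : ℕ) (hr : r.Prime) (h : orderOf (q : ZMod r) = 7) :
    r ∣ N := by
  have h1 := conv7 hr h
  rw [← ZMod.natCast_eq_zero_iff]
  have h2 := congrArg (Int.cast : ℤ → ZMod r) hN
  push_cast at h2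
  rw [h2]
  exact h1

/-! ### `e = 30` -/

theorem val30 {r : ℕ} {x : ZMod r} (h : 1 + x - x ^ 3 - x ^ 4 - x ^ 5 + x ^ 7 + x ^ 8 = 0) (hre : ¬ r ∣ 30) : orderOf x = 30 := by
  have h1 : x ^ 30 = 1 := by linear_combination (-1 + x - x ^ 2 - x ^ 5 + x ^ 6 - x ^ 7 + x ^ 15 - x ^ 16 + x ^ 17 + x ^ 20 - x ^ 21 + x ^ 22) * h
  refine orderOf_eq (by norm_num) h1 hre fun l hl hle hy => ?_
  have hl' : l = 2 ∨ l = 3 ∨ l = 5 := by
    have h2 : l ≤ 30 := Nat.le_of_dvd (by norm_num) hle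
    interval_cases l <;> revert hl hle <;> norm_num
  rcases hl' with rfl | rfl | rfl
  · norm_num at hy
    push_cast
    linear_combination (1 - x + x ^ 2 + x ^ 5 - x ^ 6 + x ^ 7) * h - (1) * hy
  · norm_num at hy
    push_cast
    linear_combination (1 - x + x ^ 2 + x ^ 5 - x ^ 6 + x ^ 7 + x ^ 10 - x ^ 11 + x ^ 12) * h - (2 + x ^ 10) * hy
  · norm_num at hy
    push_cast
    linear_combination (1 - x + x ^ 2 + x ^ 5 + x ^ 8 + x ^ 11 + x ^ 14 - x ^ 15 + x ^ 16) * h - (4 + 3 * x ^ 6 + 2 * x ^ 12 + x ^ 18) * hy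

theorem conv30 {r : ℕ} (hr : r.Prime) {x : ZMod r} (h : orderOf x = 30) : 1 + x - x ^ 3 - x ^ 4 - x ^ 5 + x ^ 7 + x ^ 8 = 0 := by
  have : Fact r.Prime := ⟨hr⟩
  have h1 : x ^ 30 = 1 := by rw [← h]; exact pow_orderOf_eq_one x
  have h2 : ∀ m : ℕ, 0 < m → m < 30 → x ^ m - 1 ≠ 0 := by
    intro m hm hme h3
    have h4 : orderOf x ∣ m := orderOf_dvd_of_pow_eq_one (sub_eq_zero.1 h3)
    rw [h] at h4
    have := Nat.le_of_dvd hm h4
    omega
  have h5 : (1 + x - x ^ 3 - x ^ 4 - x ^ 5 + x ^ 7 + x ^ 8) * ((x ^ 15 - 1) * (x ^ 10 - 1) * (x ^ 6 - 1)) = 0 := by linear_combination (1 + x - x ^ 3 - x ^ 4 - x ^ 5 - x ^ 6 + x ^ 8 + x ^ 9) * h1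
  exact (mul_eq_zero.1 h5).resolve_right (mul_ne_zero (mul_ne_zero (h2 15 (by norm_num) (by norm_num)) (h2 10 (by norm_num) (by norm_num))) (h2 6 (by norm_num) (by norm_num)))

theorem sq30 {q N : ℕ} (hN : (N : ℤ) = 1 + (q : ℤ) - (q : ℤ) ^ 3 - (q : ℤ) ^ 4 - (q : ℤ) ^ 5 + (q : ℤ) ^ 7 + (q : ℤ) ^ 8) : ¬ 2 ^ 2 ∣ N := by
  intro h
  have h1 := zero_of_dvd hN h
  push_cast at h1
  generalize (q : ZMod (2 ^ 2)) = x at h1
  revert h1; revert x; decide

theorem ord30 {q N : ℕ} (hN : (N : ℤ) = 1 + (q : ℤ) - (q : ℤ) ^ 3 - (q : ℤ) ^ 4 - (q : ℤ) ^ 5 + (q : ℤ) ^ 7 + (q : ℤ) ^ 8) (r : ℕ) (hr : r.Prime) (h : r ∣ N) :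
    orderOf (q : ZMod r) = 30 ∨ r = 2 := by
  have h0 := zero_of_dvd hN h
  push_cast at h0
  by_cases hre : r ∣ 30
  · right
    have h2 : r ≤ 30 := Nat.le_of_dvd (by norm_num) hre
    have h3 : r = 2 ∨ r = 3 ∨ r = 5 := by
      clear h0
      interval_cases r <;> revert hr hre <;> norm_num
    rcases h3 with rfl | rfl | rfl
    · exfalso
      generalize (q : ZMod 2) = x at h0
      revert h0; revert x; decide
    · exfalso
      generalize (q : ZMod 3) = x at h0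
      revert h0; revert x; decide
    · exfalso
      generalize (q : ZMod 5) = x at h0
      revert h0; revert x; decide
  · exact Or.inl (val30 h0 hre)

theorem dvd30 {q N : ℕ} (hN : (N : ℤ) = 1 + (q : ℤ) - (q : ℤ) ^ 3 - (q : ℤ) ^ 4 - (q : ℤ) ^ 5 + (q : ℤ) ^ 7 + (q : ℤ) ^ 8) (r : ℕ) (hr : r.Prime) (h : orderOf (q : ZMod r) = 30) :
    r ∣ N := by
  have h1 := conv30 hr h
  rw [← ZMod.natCast_eq_zero_iff]
  have h2 := congrArg (Int.cast : ℤ → ZMod r) hN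
  push_cast at h2
  rw [h2]
  exact h1

end Cfsg.Agent.H585.SuPhi
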