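import Mathlib
import Cfsg.Agent.KFacts.RgdLieCharP
import Cfsg.Agent.H62.PPIdx

/-!
# Elements normalising no subgroup of own characteristic (helper585)

* `eq_bot_of_normal` : in a finite group with a root group datum of characteristic `p`, if `x` has prime order
  `r`, no element of order `p` commutes with `x` and `r ∤ |V_{I - i}| - 1` for all nodes `i`, then `x` normalises
  no `p`-subgroup `≠ 1`.
-/

set_option autoImplicit false
set_option linter.unusedSectionVars false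

namespace Cfsg.Agent.H585.SuOwn

open CoxeterSystem Cfsg.Agent.ChevalleyStructure.CoxeterGeom Cfsg.Agent.Tits.Roots Cfsg.Agent.Tits.Core
  Cfsg.Agent.Tits.RootComb Cfsg.Agent.Tits.Exchange Cfsg.Agent.Nodes.Reps Cfsg.Agent.Nodes.BNOf
  Cfsg.Agent.Nodes.StabComb Cfsg.Agent.Nodes.Bruhat Cfsg.Agent.Nodes.OppDec Cfsg.Agent.Nodes.LeviDec
  Cfsg.Agent.Nodes.NormX Cfsg.Agent.KFacts.RgdPar Cfsg.Agent.KFacts.RgdCent Cfsg.Agent.KFacts.RgdEx
  Cfsg.Agent.KFacts.RgdVJ Cfsg.Agent.KFacts.RgdCharP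

variable {I W Y : Type*} [Fintype I] [DecidableEq I] [Group W] [Group Y] {M : CoxeterMatrix I}
  {cs : CoxeterSystem M W} {A : I → I → ℤ} {h : IsCartan M A} {p : ℕ} {T : Subgroup Y} {n : I → Y}
  {X : (I → ℤ) → Subgroup Y}

theorem PJ_mono {J J' : Set I} (hJ : J ⊆ J') : PJ cs h T X J ≤ PJ cs h T X J' := by
  refine sup_le ((LJ_mono hJ).trans LJ_le_PJ) (RGD.Sup_le fun x hx => ?_)
  obtain ⟨hr, h0, k, hk, hxk⟩ := hx
  by_cases h1 : ∃ k, k ∉ J' ∧ 0 < x k
  · exact (RGD.le_Sup (S := NotJ cs h J') ⟨hr, h0, h1⟩).trans VJ_le_PJ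
  · push Not at h1
    refine (X_le_LJ (J := J') ⟨hr, fun k hk => ?_⟩).trans LJ_le_PJ
    exact le_antisymm (h1 k hk) (h0 k)

/-- an element of prime order `r` acting on a `p`-group with `r ∤ |V| - 1` commutes with an element of order `p` -/
theorem exists_commute {G : Type*} [Group G] [Finite G] {p r : ℕ} (hp : p.Prime) (hr : r.Prime) {x : G}
    (hx : orderOf x = r) {V : Subgroup G} (hV : IsPGroup p V) (hn : ∀ v ∈ V, x * v * x⁻¹ ∈ V)
    (hcard : ¬ r ∣ Nat.card V - 1) : ∃ v ∈ V, orderOf v = p ∧ x * v = v * x := by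
  have : Fact p.Prime := ⟨hp⟩
  have : Fact r.Prime := ⟨hr⟩
  have hxN : x ∈ Subgroup.normalizer (V : Set G) := by
    rw [Subgroup.mem_normalizer_iff_map_conj_eq]
    refine Subgroup.eq_of_le_of_card_ge ?_ ?_
    · rintro _ ⟨v, hv, rfl⟩
      exact hn v hv
    · exact (Nat.card_congr ((V.equivMapOfInjective (MulAut.conj x).toMonoidHom
        (MulAut.conj x).injective).toEquiv)).le
  -- the action of `⟨x⟩` on `V`
  let Z : Subgroup G := Subgroup.zpowers x
  have hZN : Z ≤ Subgroup.normalizer (V : Set G) := Subgroup.zpowers_le.2 hxN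
  let act : MulAction Z V :=
    { smul := fun z v => ⟨(z : G) * v * (z : G)⁻¹, (Subgroup.mem_normalizer_iff.1 (hZN z.2) _).1 v.2⟩
      one_smul := fun v => Subtype.ext (by show (1 : G) * v * (1 : G)⁻¹ = v; group)
      mul_smul := fun a b v => Subtype.ext (by
        show ((a * b : Z) : G) * v * ((a * b : Z) : G)⁻¹ = a * (b * v * (b : G)⁻¹) * (a : G)⁻¹
        rw [Subgroup.coe_mul]; group) }
  have hZp : IsPGroup r Z := by
    rw [IsPGroup.iff_card]
    exact ⟨1, by rw [Nat.card_zpowers, hx, pow_one]⟩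
  have h1 := hZp.card_modEq_card_fixedPoints V
  -- the fixed points
  by_contra hcon
  push Not at hcon
  have h2 : Nat.card (MulAction.fixedPoints Z V) = 1 := by
    rw [Nat.card_eq_one_iff_unique]
    refine ⟨⟨?_⟩, ⟨⟨1, fun z => Subtype.ext (by show (z : G) * 1 * (z : G)⁻¹ = 1; group)⟩⟩⟩
    have key : ∀ v : MulAction.fixedPoints Z V, (v : V) = 1 := by
      intro v
      by_contra hv1
      have hfix : x * (v : V) = (v : V) * x := by
        have h3 := v.2 ⟨x, Subgroup.mem_zpowers x⟩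
        have h4 := congrArg Subtype.val h3
        change x * ((v : V) : G) * x⁻¹ = ((v : V) : G) at h4
        calc x * ((v : V) : G) = x * ((v : V) : G) * x⁻¹ * x := by group
          _ = _ := by rw [h4]
      obtain ⟨k, hk⟩ := IsPGroup.iff_orderOf.1 hV (v : V)
      have hk1 : 1 ≤ k := by
        rcases Nat.eq_zero_or_pos k with h0 | h0
        · rw [h0, pow_zero, orderOf_eq_one_iff] at hk
          exact absurd hk hv1
        · exact h0
      have hord : orderOf (((v : V) : G) ^ p ^ (k - 1)) = p := by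
        have h5 : orderOf ((v : V) : G) = p ^ k := by rw [Subgroup.orderOf_coe, hk]
        rw [orderOf_pow, h5, Nat.gcd_eq_right (pow_dvd_pow p (by omega)), Nat.pow_div (by omega) hp.pos]
        have : k - (k - 1) = 1 := by omega
        rw [this, pow_one]
      refine hcon _ (V.pow_mem (v : V).2 _) hord ?_
      have hc : Commute x ((v : V) : G) := hfix
      exact (hc.pow_right _)
    intro a b
    exact Subtype.ext ((key a).trans (key b).symm)
  rw [h2] at h1
  apply hcard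
  exact (Nat.modEq_iff_dvd' (Nat.one_le_iff_ne_zero.2 Nat.card_pos.ne')).1 h1.symm

variable (R : RGD cs h p T n X)

include R

/-- `x` normalises no `p`-subgroup `≠ 1` -/
theorem eq_bot_of_normal' [Finite W] [Finite Y] [hp : Fact p.Prime] (hBT : BT cs h p T X) {r : ℕ} (hr : r.Prime)
    {x : Y} (hx : orderOf x = r) (hC : ∀ v : Y, orderOf v = p → x * v ≠ v * x)
    (hV : ∀ i : I, ∃ V : Subgroup Y, IsPGroup p V ∧ PJ cs h T X {i}ᶜ ≤ Subgroup.normalizer (V : Set Y) ∧
      ¬ r ∣ Nat.card V - 1) {K : Subgroup Y} (hK : IsPGroup p K)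
    (hn : ∀ v ∈ K, x * v * x⁻¹ ∈ K) : K = ⊥ := by
  by_contra hK1
  obtain ⟨g, J, hJ, -, hNP⟩ := hBT K hK hK1
  have hxN : x ∈ Subgroup.normalizer (K : Set Y) := by
    rw [Subgroup.mem_normalizer_iff_map_conj_eq]
    refine Subgroup.eq_of_le_of_card_ge ?_ ?_
    · rintro _ ⟨v, hv, rfl⟩
      exact hn v hv
    · exact (Nat.card_congr ((K.equivMapOfInjective (MulAut.conj x).toMonoidHom
        (MulAut.conj x).injective).toEquiv)).le
  obtain ⟨i, hi⟩ := (Set.ne_univ_iff_exists_notMem _).1 hJ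
  have hJi : J ⊆ {i}ᶜ := fun j hj => by
    rw [Set.mem_compl_iff, Set.mem_singleton_iff]
    rintro rfl
    exact hi hj
  have hxP : x ∈ cj g (PJ cs h T X {i}ᶜ) := cj_mono g (PJ_mono hJi) (hNP hxN)
  obtain ⟨V0, hV0, hPV, hVc⟩ := hV i
  set V := cj g V0 with hVdef
  have hVp : IsPGroup p V := by
    rw [hVdef]; unfold cj
    exact hV0.map _
  have hcard : Nat.card V = Nat.card V0 := Cfsg.Agent.Nodes.CardSup.card_cj _
  have hnV : ∀ v ∈ V, x * v * x⁻¹ ∈ V := by
    intro v hv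
    rw [hVdef, mem_cj] at hv ⊢
    rw [mem_cj] at hxP
    have h1 := (Subgroup.mem_normalizer_iff.1 (hPV hxP) _).1 hv
    have h2 : g⁻¹ * x * g * (g⁻¹ * v * g) * (g⁻¹ * x * g)⁻¹ = g⁻¹ * (x * v * x⁻¹) * g := by group
    rwa [h2] at h1
  obtain ⟨v, -, hv, hxv⟩ := exists_commute hp.out hr hx hVp hnV (by rw [hcard]; exact hVc)
  exact hC v hv hxv

theorem eq_bot_of_normal [Finite W] [Finite Y] [hp : Fact p.Prime] (hBT : BT cs h p T X) {r : ℕ} (hr : r.Prime)
    {x : Y} (hx : orderOf x = r) (hC : ∀ v : Y, orderOf v = p → x * v ≠ v * x)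
    (hV : ∀ i, ¬ r ∣ Nat.card (VJ cs h X {i}ᶜ) - 1) {K : Subgroup Y} (hK : IsPGroup p K)
    (hn : ∀ v ∈ K, x * v * x⁻¹ ∈ K) : K = ⊥ :=
  eq_bot_of_normal' R hBT hr hx hC (fun i => ⟨VJ cs h X {i}ᶜ, isPGroup_VJ R _, PJ_le_normalizer_VJ R _, hV i⟩) hK hn

end Cfsg.Agent.H585.SuOwn
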