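import Mathlib
import Cfsg.Agent.H465.SULin

/-!
# Cyclic tori and solvably unique elements (helper585)

* `exists_of_torus` : a cyclic subgroup `T` containing the centralisers of its elements of order `r` contains a
  Sylow `r`-subgroup;
* `exists_SU` : the criterion for groups of matrices.
-/

set_option autoImplicit false
set_option linter.unusedSectionVars false

namespace Cfsg.Agent.H585.SuTor

open Cfsg.Agent.H465.SU

section Torus

variable {G : Type*} [Group G] [Finite G] {T : Subgroup G} {r : ℕ}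

/-- in a cyclic group two elements of order `r` generate the same subgroup -/
theorem zpowers_eq_of_cyclic (hc : IsCyclic ↥T) {x z : G} (hx : x ∈ T) (hz : z ∈ T) (hxr : orderOf x = r)
    (hzr : orderOf z = r) : Subgroup.zpowers x = Subgroup.zpowers z := by
  refine Cfsg.Agent.OddOrderLocal.CyclicSub.eq_of_card_eq_of_le_cyclic hc (Subgroup.zpowers_le.2 hx)
    (Subgroup.zpowers_le.2 hz) ?_
  rw [Nat.card_zpowers, Nat.card_zpowers, hxr, hzr]

theorem sylow_le (hr : r.Prime)
    (hcent : ∀ y ∈ T, orderOf y = r → Subgroup.centralizer {y} ≤ T) {x : G} (hx : x ∈ T) (hxr : orderOf x = r)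
    {P : Subgroup G} (hP : IsPGroup r P) (hxP : x ∈ P) : P ≤ T := by
  have hrf : Fact r.Prime := ⟨hr⟩
  have hne : Nontrivial P := by
    refine ⟨⟨x, hxP⟩, 1, fun h => ?_⟩
    have h1 : x = 1 := congrArg Subtype.val h
    rw [h1, orderOf_one] at hxr
    exact hr.one_lt.ne hxr
  have hZ := hP.center_nontrivial
  have hZp : IsPGroup r (Subgroup.center P) := hP.to_subgroup _
  have hd : r ∣ Nat.card (Subgroup.center P) := by
    rcases hZp.card_eq_or_dvd with h | h
    · exact absurd h (Finite.one_lt_card).ne'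
    · exact h
  obtain ⟨z, hz⟩ := exists_prime_orderOf_dvd_card' r hd
  have hz1 : orderOf ((z : P) : G) = r := by rw [Subgroup.orderOf_coe, Subgroup.orderOf_coe, hz]
  have hzc : ∀ g ∈ P, g * ((z : P) : G) = ((z : P) : G) * g := by
    intro g hg
    have := Subgroup.mem_center_iff.1 z.2 ⟨g, hg⟩
    exact congrArg Subtype.val this
  have hzT : ((z : P) : G) ∈ T := by
    refine hcent x hx hxr ?_
    rw [Subgroup.mem_centralizer_singleton_iff]
    exact (hzc x hxP).symm
  intro g hg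
  refine hcent _ hzT hz1 ?_
  rw [Subgroup.mem_centralizer_singleton_iff]
  exact hzc g hg

/-- **cyclic tori contain Sylow subgroups** -/
theorem exists_of_torus (hr : r.Prime) (hc : IsCyclic ↥T)
    (hcent : ∀ y ∈ T, orderOf y = r → Subgroup.centralizer {y} ≤ T) {N d : ℕ} (h1 : Nat.card ↥T ∣ N)
    (h2 : N ∣ d * Nat.card ↥T) (hrd : ¬ r ∣ d) {a : ℕ} (ha : 1 ≤ a) (haN : r ^ a ∣ N) (haN' : ¬ r ^ (a + 1) ∣ N) :
    ∃ y ∈ T, orderOf y = r ^ a ∧ (∀ P : Sylow r G, IsCyclic P) ∧ ¬ r ^ (a + 1) ∣ Nat.card G ∧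
      Subgroup.centralizer {y ^ r ^ (a - 1)} ≤ T := by
  have hrf : Fact r.Prime := ⟨hr⟩
  have h3 : r ^ a ∣ Nat.card ↥T :=
    Nat.Coprime.dvd_of_dvd_mul_left (Nat.Coprime.pow_left _ ((Nat.Prime.coprime_iff_not_dvd hr).2 hrd))
      (haN.trans h2)
  have h4 : ¬ r ^ (a + 1) ∣ Nat.card ↥T := fun h => haN' (h.trans h1)
  -- the element of order `r ^ a`
  obtain ⟨g, hg⟩ := hc.exists_generator
  have hgo : orderOf g = Nat.card ↥T := orderOf_eq_card_of_forall_mem_zpowers hg
  obtain ⟨m, hm⟩ := h3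
  have hm0 : m ≠ 0 := by
    rintro rfl
    rw [mul_zero] at hm
    exact Nat.card_pos.ne' hm
  have hyo : orderOf (g ^ m) = r ^ a := by
    rw [orderOf_pow, hgo, hm, Nat.gcd_mul_left_left, Nat.mul_div_cancel _ (Nat.pos_of_ne_zero hm0)]
  have hyo' : orderOf ((g ^ m : ↥T) : G) = r ^ a := by rw [Subgroup.orderOf_coe, hyo]
  have hxo : orderOf (((g ^ m : ↥T) : G) ^ r ^ (a - 1)) = r := by
    rw [orderOf_pow, hyo', Nat.gcd_eq_right (pow_dvd_pow r (by omega)), Nat.pow_div (by omega) hr.pos]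
    have : a - (a - 1) = 1 := by omega
    rw [this, pow_one]
  have hxT : ((g ^ m : ↥T) : G) ^ r ^ (a - 1) ∈ T := T.pow_mem (g ^ m).2 _
  -- the Sylow subgroups
  obtain ⟨P, hP⟩ := (IsPGroup.of_card (p := r) (n := 1)
    (by rw [Nat.card_zpowers, hxo, pow_one]) :
      IsPGroup r (Subgroup.zpowers (((g ^ m : ↥T) : G) ^ r ^ (a - 1)))).exists_le_sylow
  have hPT : (P : Subgroup G) ≤ T := sylow_le hr hcent hxT hxo P.isPGroup' (hP (Subgroup.mem_zpowers _))
  have hPc : IsCyclic P := by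
    have : IsCyclic ↥((P : Subgroup G).subgroupOf T) := inferInstance
    exact isCyclic_of_surjective _ (Subgroup.subgroupOfEquivOfLe hPT).surjective
  refine ⟨_, (g ^ m).2, hyo', ?_, ?_, hcent _ hxT hxo⟩
  · intro Q
    exact isCyclic_of_surjective _ (P.equiv Q).surjective
  · intro h5
    apply h4
    have h6 : r ^ (a + 1) ∣ Nat.card P := by
      rw [P.card_eq_multiplicity]
      exact pow_dvd_pow r ((hr.pow_dvd_iff_le_factorization Nat.card_pos.ne').1 h5)
    exact h6.trans (Subgroup.card_dvd_of_le hPT)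

/-- a nontrivial action of an element of prime order `r` on a `t`-group of order `t^m` needs `r ∣ t^j - 1`, `j ≤ m` -/
theorem commute_of_arith (hr : r.Prime) {t : ℕ} (ht : t.Prime) (htr : t ≠ r) {x : G} (hx : orderOf x = r)
    {S : Subgroup G} (hS : IsPGroup t S) (hn : ∀ u ∈ S, x * u * x⁻¹ ∈ S)
    (harith : ∀ j, 1 ≤ j → t ^ j ∣ Nat.card G → ¬ r ∣ t ^ j - 1) : ∀ u ∈ S, x * u = u * x := by
  have : Fact t.Prime := ⟨ht⟩
  have : Fact r.Prime := ⟨hr⟩
  have hxN : x ∈ Subgroup.normalizer (S : Set G) := by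
    rw [Subgroup.mem_normalizer_iff_map_conj_eq]
    refine Subgroup.eq_of_le_of_card_ge ?_ ?_
    · rintro _ ⟨v, hv, rfl⟩
      exact hn v hv
    · exact (Nat.card_congr ((S.equivMapOfInjective (MulAut.conj x).toMonoidHom
        (MulAut.conj x).injective).toEquiv)).le
  let Z : Subgroup G := Subgroup.zpowers x
  have hZN : Z ≤ Subgroup.normalizer (S : Set G) := Subgroup.zpowers_le.2 hxN
  let act : MulAction Z S :=
    { smul := fun z v => ⟨(z : G) * v * (z : G)⁻¹, (Subgroup.mem_normalizer_iff.1 (hZN z.2) _).1 v.2⟩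
      one_smul := fun v => Subtype.ext (by show (1 : G) * v * (1 : G)⁻¹ = v; group)
      mul_smul := fun a b v => Subtype.ext (by
        show ((a * b : Z) : G) * v * ((a * b : Z) : G)⁻¹ = a * (b * v * (b : G)⁻¹) * (a : G)⁻¹
        rw [Subgroup.coe_mul]; group) }
  have hZp : IsPGroup r Z := by
    rw [IsPGroup.iff_card]
    exact ⟨1, by rw [Nat.card_zpowers, hx, pow_one]⟩
  have h1 := hZp.card_modEq_card_fixedPoints S
  -- the fixed points are the elements of the centraliser
  let C : Subgroup G := S ⊓ Subgroup.centralizer {x}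
  have h2 : Nat.card (MulAction.fixedPoints Z S) = Nat.card C := by
    refine Nat.card_congr
      { toFun := fun v => ⟨(v : S), (v : S).2, ?_⟩
        invFun := fun v => ⟨⟨v, v.2.1⟩, ?_⟩
        left_inv := fun v => rfl
        right_inv := fun v => rfl }
    · show ((v : S) : G) ∈ Subgroup.centralizer {x}
      rw [Subgroup.mem_centralizer_singleton_iff]
      have h3 := v.2 ⟨x, Subgroup.mem_zpowers x⟩
      have h4 := congrArg Subtype.val h3
      change x * ((v : S) : G) * x⁻¹ = ((v : S) : G) at h4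
      symm
      calc x * ((v : S) : G) = x * ((v : S) : G) * x⁻¹ * x := by group
        _ = _ := by rw [h4]
    · intro z
      apply Subtype.ext
      show (z : G) * (v : G) * (z : G)⁻¹ = (v : G)
      have hvc : (v : G) ∈ Subgroup.centralizer {x} := v.2.2
      have h3 : Commute x (v : G) := (Subgroup.mem_centralizer_singleton_iff.1 hvc).symm
      obtain ⟨i, hi⟩ := Subgroup.mem_zpowers_iff.1 z.2
      have h4 : Commute (z : G) (v : G) := by
        rw [← hi]
        exact h3.zpow_left i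
      rw [h4.eq, mul_inv_cancel_right]
  rw [h2] at h1
  have hCS : C ≤ S := inf_le_left
  obtain ⟨m, hm⟩ := IsPGroup.iff_card.1 hS
  obtain ⟨c, hc⟩ := IsPGroup.iff_card.1 (hS.to_le hCS)
  have hcm : c ≤ m := by
    have h3 := Subgroup.card_dvd_of_le hCS
    rw [hm, hc] at h3
    exact (Nat.pow_dvd_pow_iff_le_right ht.one_lt).1 h3
  rw [hm, hc] at h1
  rcases hcm.eq_or_lt with h0 | h0
  · -- `C = S`
    have h3 : C = S := Subgroup.eq_of_le_of_card_ge hCS (by rw [hm, hc, h0])
    intro u hu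
    rw [← h3] at hu
    have huc : u ∈ Subgroup.centralizer {x} := hu.2
    exact (Subgroup.mem_centralizer_singleton_iff.1 huc).symm
  · exfalso
    refine harith (m - c) (by omega) ?_ ?_
    · refine (pow_dvd_pow t (Nat.sub_le m c)).trans ?_
      rw [← hm]
      exact Subgroup.card_subgroup_dvd_card S
    · have h3 : r ∣ t ^ m - t ^ c :=
        (Nat.modEq_iff_dvd' (Nat.pow_le_pow_right ht.pos hcm)).1 h1.symm
      have h4 : t ^ m - t ^ c = t ^ c * (t ^ (m - c) - 1) := by
        rw [Nat.mul_sub, mul_one, ← pow_add]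
        congr 2
        omega
      rw [h4] at h3
      rcases (Nat.Prime.dvd_mul hr).1 h3 with h5 | h5
      · exact absurd ((Nat.prime_dvd_prime_iff_eq hr ht).1 (hr.dvd_of_dvd_pow h5)).symm htr
      · exact h5

end Torus

/-! ### the criteria -/

section Crit

variable {G : Type*} [Group G] [Finite G] {T : Subgroup G} {r : ℕ}

/-- the general criterion: large prime powers -/
theorem exists_SU {F V : Type*} [Field F] [AddCommGroup V] [Module F V] [FiniteDimensional F V]
    (ρ : G →* (V ≃ₗ[F] V)) (hinj : Function.Injective ρ) {p : ℕ} [CharP F p]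
    (hr : r.Prime) (hr2 : r ≠ 2) (hc : IsCyclic ↥T)
    (hcent : ∀ y ∈ T, orderOf y = r → Subgroup.centralizer {y} ≤ T) {N d : ℕ} (h1 : Nat.card ↥T ∣ N)
    (h2 : N ∣ d * Nat.card ↥T) (hrd : ¬ r ∣ d) {a : ℕ} (ha : 1 ≤ a) (haN : r ^ a ∣ N) (haN' : ¬ r ^ (a + 1) ∣ N)
    (hpN : ¬ p ∣ N) (hdim : Module.finrank F V + r ^ (a - 1) < r ^ a)
    (hchar : ∀ x : G, orderOf x = r → (∀ v : G, orderOf v = p → x * v ≠ v * x) → ∀ S : Subgroup G, IsPGroup p S →
      (∀ u ∈ S, x * u * x⁻¹ ∈ S) → S = ⊥) :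
    ∃ y : G, orderOf y = r ^ a ∧ ¬ r ^ (a + 1) ∣ Nat.card G ∧ SUel r y := by
  obtain ⟨y, hyT, hy, hcyc, hcard, hcy⟩ := exists_of_torus hr hc hcent h1 h2 hrd ha haN haN'
  refine ⟨y, hy, hcard, SUel.of_linear ρ hinj hr hr2 ha hy hcyc (Or.inl hdim) ?_⟩
  intro t ht htr h0 S hS hyS u hu
  have htp : t = p := by
    have h3 := (CharP.cast_eq_zero_iff F p t).1 h0
    rcases (Nat.dvd_prime ht).1 h3 with h4 | h4
    · exact absurd h4 (CharP.char_ne_one F p)
    · exact h4.symm
  subst htp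
  have hxo : orderOf (y ^ r ^ (a - 1)) = r := by
    rw [orderOf_pow, hy, Nat.gcd_eq_right (pow_dvd_pow r (by omega)), Nat.pow_div (by omega) hr.pos]
    have : a - (a - 1) = 1 := by omega
    rw [this, pow_one]
  have hS1 : S = ⊥ := by
    refine hchar _ hxo (fun v hv hxv => hpN ?_) S hS ?_
    · have hvT : v ∈ T := hcy (by
        rw [Subgroup.mem_centralizer_singleton_iff]
        exact hxv.symm)
      have h3 := orderOf_dvd_natCard (⟨v, hvT⟩ : ↥T)
      rw [Subgroup.orderOf_mk, hv] at h3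
      exact h3.trans h1
    · -- powers of `y` normalise `S`
      have key : ∀ n : ℕ, ∀ u ∈ S, y ^ n * u * (y ^ n)⁻¹ ∈ S := by
        intro n
        induction n with
        | zero => intro u hu; simpa using hu
        | succ n ih =>
          intro u hu
          have e : y ^ (n + 1) * u * (y ^ (n + 1))⁻¹ = y ^ n * (y * u * y⁻¹) * (y ^ n)⁻¹ := by
            rw [pow_succ]; group
          rw [e]
          exact ih _ (hyS u hu)
      exact key _
  rw [hS1, Subgroup.mem_bot] at hu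
  rw [hu, mul_one, one_mul]

/-- the criterion for small groups: `r ‖ |T|` and arithmetic -/
theorem exists_SU_small {p : ℕ} (hr : r.Prime) (hc : IsCyclic ↥T)
    (hcent : ∀ y ∈ T, orderOf y = r → Subgroup.centralizer {y} ≤ T) {N d : ℕ} (h1 : Nat.card ↥T ∣ N)
    (h2 : N ∣ d * Nat.card ↥T) (hrd : ¬ r ∣ d) (haN : r ∣ N) (haN' : ¬ r ^ 2 ∣ N)
    (hpN : ¬ p ∣ N)
    (hchar : ∀ x : G, orderOf x = r → (∀ v : G, orderOf v = p → x * v ≠ v * x) → ∀ S : Subgroup G, IsPGroup p S →
      (∀ u ∈ S, x * u * x⁻¹ ∈ S) → S = ⊥)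
    (harith : ∀ t : ℕ, t.Prime → t ≠ r → t ≠ p → ∀ j, 1 ≤ j → t ^ j ∣ Nat.card G → ¬ r ∣ t ^ j - 1) :
    ∃ y : G, orderOf y = r ^ 1 ∧ ¬ r ^ (1 + 1) ∣ Nat.card G ∧ SUel r y := by
  have : Fact r.Prime := ⟨hr⟩
  obtain ⟨y, hyT, hy, hcyc, hcard, hcy⟩ := exists_of_torus hr hc hcent h1 h2 hrd le_rfl (by rwa [pow_one]) haN'
  have hy' : orderOf y = r := by rw [hy, pow_one]
  have hcy' : Subgroup.centralizer {y} ≤ T := by simpa using hcy
  refine ⟨y, hy, hcard, fun h => ?_, ⟨1, hy⟩, fun M hM hyM A B hA hB hAc hBc => ?_⟩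
  · rw [h, orderOf_one] at hy'
    exact hr.one_lt.ne hy'
  · refine unique_of_centralize hM le_rfl hy hyM hcyc (fun t ht htr S _ hS hyS u hu => ?_) A B hA hB hAc hBc
    have e : y ^ r ^ (1 - 1) = y := by simp
    rw [e]
    by_cases htp : t = p
    · have hS1 : S = ⊥ := by
        refine hchar _ hy' (fun v hv hxv => hpN ?_) S (htp ▸ hS) hyS
        have hvT : v ∈ T := hcy' (by
          rw [Subgroup.mem_centralizer_singleton_iff]
          exact hxv.symm)
        have h3 := orderOf_dvd_natCard (⟨v, hvT⟩ : ↥T)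
        rw [Subgroup.orderOf_mk, hv] at h3
        exact h3.trans h1
      rw [hS1, Subgroup.mem_bot] at hu
      rw [hu, mul_one, one_mul]
    · exact commute_of_arith hr ht htr hy' hS hyS (harith t ht htr htp) u hu

end Crit

end Cfsg.Agent.H585.SuTor
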