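import Mathlib
import Cfsg.Agent.H585.SuOwn
import Cfsg.Agent.H585.SuTor
import Cfsg.Agent.H62.PPChev
import Cfsg.Agent.KFacts.RgdFiltChev

/-!
# Solvably unique elements of the untwisted exceptional groups: the general row (helper585)
-/

set_option autoImplicit false
set_option linter.unusedSectionVars false

namespace Cfsg.Agent.H585.SuUntw

open CoxeterSystem Cfsg.Agent.ChevalleyStructure.CoxeterGeom Cfsg.Agent.Tits.Roots Cfsg.Agent.Tits.Core
  Cfsg.Agent.Nodes.Reps Cfsg.Agent.Nodes.BNOf Cfsg.Agent.Nodes.Bruhat Cfsg.Agent.Nodes.LeviDec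
  Cfsg.Agent.Nodes.StabComb Cfsg.Agent.Nodes.Unique Cfsg.Agent.Nodes.CardSup Cfsg.Agent.Nodes.RGDChev
  Cfsg.Agent.H62.PPIdx Cfsg.Agent.H62.PPChev
open Cfsg.Lie Cfsg.Agent.ChevalleyStructure Cfsg.Agent.ChevalleyStructure.Elts
  Cfsg.Agent.ChevalleyStructure.RootVec Cfsg.Agent.H585.SuOwn Cfsg.Agent.H585.SuTor Cfsg.Agent.H465.SU

universe u

variable {D : ChevalleyDatum} {l : ℕ} {M : CoxeterMatrix (Fin l)} (hp : IsType D l M) {K : Type u} [Field K]
  [Fintype K] {W : Type*} [Group W] (cs : CoxeterSystem M W)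

include hp in
theorem card_VJ [Finite W] (r : ℕ) [Fact r.Prime] [CharP K r] (i : Fin l) :
    Nat.card (VJ cs hp.isCartan (fun x => (XV D l K x).subgroupOf (D.group K)) {i}ᶜ) =
      Fintype.card K ^ num D i := by
  classical
  have R := rgd (K := K) hp cs r
  have hfin : (NotJ cs hp.isCartan {i}ᶜ).Finite :=
    (RGD.finite_roots (cs := cs) (h := hp.isCartan)).subset fun _ hx => hx.1
  set s : Finset (Fin l → ℤ) := hfin.toFinset with hs
  have hsc : (s : Set (Fin l → ℤ)) = NotJ cs hp.isCartan {i}ᶜ := hfin.coe_toFinset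
  have h3 : Nat.card (VJ cs hp.isCartan (fun x => (XV D l K x).subgroupOf (D.group K)) {i}ᶜ) =
      ∏ x ∈ s, Nat.card ↥((XV D l K x).subgroupOf (D.group K)) := by
    have := card_sup R (s := s) (by rw [hsc]; exact fun x hx => ⟨hx.1, hx.2.1⟩) (by rw [hsc]; exact closed_NotJ _)
    rw [← this, hsc]
    rfl
  have h4 : ∏ x ∈ s, Nat.card ↥((XV D l K x).subgroupOf (D.group K)) = Fintype.card K ^ s.card := by
    rw [← Finset.prod_const]
    refine Finset.prod_congr rfl fun x hx => card_X hp cs ?_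
    have hx' : x ∈ NotJ cs hp.isCartan {i}ᶜ := by rw [← hsc]; exact hx
    exact hx'.1
  rw [h3, h4]
  congr 1
  have h5 : num D i = (((List.range D.nroots).filter fun r => 0 < rt D r i).toFinset).card := by
    rw [List.toFinset_card_of_nodup (List.nodup_range.filter _)]
    rfl
  rw [h5]
  symm
  have himg : s = ((List.range D.nroots).filter fun r => 0 < rt D r i).toFinset.image (fun r => vec D l r) := by
    ext x
    rw [← Finset.mem_coe, hsc, Finset.mem_image]
    constructor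
    · rintro ⟨h1, h2, k, hk, hk0⟩
      obtain ⟨r, hr, rfl⟩ := (isRoot_iff hp cs x).1 h1
      have hki : k = i := by simpa using hk
      subst hki
      refine ⟨r, ?_, rfl⟩
      rw [List.mem_toFinset, List.mem_filter, List.mem_range]
      exact ⟨hr, decide_eq_true (show (0 : ℤ) < rt D r k from hk0)⟩
    · rintro ⟨r, hr, rfl⟩
      rw [List.mem_toFinset, List.mem_filter, List.mem_range] at hr
      have hr2 : 0 < rt D r i := by simpa using hr.2
      have h6 := isRoot_vec hp cs hr.1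
      exact ⟨h6, nonneg_of_pos_apply h6 (k := i) hr2, i, by simp, hr2⟩
  rw [himg]
  refine (Finset.card_image_of_injOn ?_).symm
  intro a ha b hb e
  rw [Finset.mem_coe, List.mem_toFinset, List.mem_filter, List.mem_range] at ha hb
  exact vec_inj hp ha.1 hb.1 e

include hp cs in
/-- own characteristic -/
theorem own_char [Finite W] (p : ℕ) [CharP K p] {r : ℕ} (hr : r.Prime)
    (hm : ∀ i : Fin l, ¬ r ∣ Fintype.card K ^ num D i - 1) (x : ↥(D.group K)) (hx : orderOf x = r)
    (hC : ∀ v : ↥(D.group K), orderOf v = p → x * v ≠ v * x) (S : Subgroup ↥(D.group K)) (hS : IsPGroup p S)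
    (hn : ∀ u ∈ S, x * u * x⁻¹ ∈ S) : S = ⊥ := by
  have hfp : Fact p.Prime := ⟨CharP.char_is_prime K p⟩
  have R := rgd (K := K) hp cs p
  have hBT : KFacts.RgdCharP.BT cs hp.isCartan p _ (fun x => (XV D l K x).subgroupOf (D.group K)) :=
    fun K' hK hK1 => KFacts.RgdFilt.borel_tits_of_filt (KFacts.RgdFiltChev.filt hp cs p) (G1_eq_top hp cs) hK hK1
  exact eq_bot_of_normal R hBT hr hx hC (fun i => by rw [card_VJ hp cs p i]; exact hm i) hS hn

/-- the linear group on the adjoint module -/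
noncomputable def rho (D : ChevalleyDatum) (K : Type u) [Field K] : ↥(D.group K) →* ((D.Idx → K) ≃ₗ[K] (D.Idx → K)) :=
  ((LinearMap.GeneralLinearGroup.generalLinearEquiv K (D.Idx → K)).toMonoidHom.comp
    (Matrix.GeneralLinearGroup.toLin (n := D.Idx) (R := K)).toMonoidHom).comp (D.group K).subtype

theorem rho_injective (D : ChevalleyDatum) (K : Type u) [Field K] : Function.Injective (rho D K) := by
  intro a b h
  exact Subtype.ext ((Matrix.GeneralLinearGroup.toLin).injective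
    ((LinearMap.GeneralLinearGroup.generalLinearEquiv K (D.Idx → K)).injective h))

theorem finrank_idx (D : ChevalleyDatum) (K : Type u) [Field K] :
    Module.finrank K (D.Idx → K) = D.rank + D.nroots := by
  rw [Module.finrank_fintype_fun_eq_card]
  show Fintype.card (Fin _ ⊕ Fin _) = _
  simp

include hp cs in
/-- the general row -/
theorem row [Finite W] (p : ℕ) [CharP K p] {T : Subgroup ↥(D.group K)} {r : ℕ} (hr : r.Prime) (hr2 : r ≠ 2)
    (hc : IsCyclic ↥T) (hcent : ∀ y ∈ T, orderOf y = r → Subgroup.centralizer {y} ≤ T) {N d : ℕ}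
    (h1 : Nat.card ↥T ∣ N) (h2 : N ∣ d * Nat.card ↥T) (hrd : ¬ r ∣ d) {a : ℕ} (ha : 1 ≤ a) (haN : r ^ a ∣ N)
    (haN' : ¬ r ^ (a + 1) ∣ N) (hpN : ¬ p ∣ N) (hdim : D.rank + D.nroots + r ^ (a - 1) < r ^ a)
    (hm : ∀ i : Fin l, ¬ r ∣ Fintype.card K ^ num D i - 1) :
    ∃ y : ↥(D.group K), orderOf y = r ^ a ∧ ¬ r ^ (a + 1) ∣ Nat.card ↥(D.group K) ∧ SUel r y :=
  exists_SU (rho D K) (rho_injective D K) hr hr2 hc hcent h1 h2 hrd ha haN haN' hpN
    (by rw [finrank_idx]; exact hdim) (fun x hx hC S hS hn => own_char hp cs p hr hm x hx hC S hS hn)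

include hp cs in
/-- the row for small fields -/
theorem row_small [Finite W] (p : ℕ) [CharP K p] {T : Subgroup ↥(D.group K)} {r : ℕ} (hr : r.Prime)
    (hc : IsCyclic ↥T) (hcent : ∀ y ∈ T, orderOf y = r → Subgroup.centralizer {y} ≤ T) {N d : ℕ}
    (h1 : Nat.card ↥T ∣ N) (h2 : N ∣ d * Nat.card ↥T) (hrd : ¬ r ∣ d) (haN : r ∣ N)
    (haN' : ¬ r ^ 2 ∣ N) (hpN : ¬ p ∣ N)
    (hm : ∀ i : Fin l, ¬ r ∣ Fintype.card K ^ num D i - 1)
    (harith : ∀ t : ℕ, t.Prime → t ≠ r → t ≠ p → ∀ j, 1 ≤ j → t ^ j ∣ Nat.card ↥(D.group K) → ¬ r ∣ t ^ j - 1) :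
    ∃ y : ↥(D.group K), orderOf y = r ^ 1 ∧ ¬ r ^ (1 + 1) ∣ Nat.card ↥(D.group K) ∧ SUel r y :=
  exists_SU_small hr hc hcent h1 h2 hrd haN haN' hpN
    (fun x hx hC S hS hn => own_char hp cs p hr hm x hx hC S hS hn) harith

end Cfsg.Agent.H585.SuUntw
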