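import Mathlib
import Cfsg.Agent.H585.SuUntw
import Cfsg.Agent.H585.SuPhi

/-!
# The form of the rows (helper585)

`Row G q`: a solvably unique element `y` of order `r^a`, `r ≥ 7` prime, `r^(a+1) ∤ |G|`, `r ∤ f` (`q = p^f`).
-/

set_option autoImplicit false
set_option linter.unusedSectionVars false

namespace Cfsg.Agent.H585.SuRow

open Cfsg.Agent.H465.SU Cfsg.Lie Cfsg.Agent.Nodes.RGDChev Cfsg.Agent.H62.PPChev Cfsg.Agent.H585.SuUntw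
  Cfsg.Agent.H585.SuSel

universe u

/-- the row -/
def Row (G : Type*) [Group G] (q : ℕ) : Prop :=
  ∃ (r a : ℕ) (y : G), r.Prime ∧ 7 ≤ r ∧ 1 ≤ a ∧ orderOf y = r ^ a ∧ ¬ r ^ (a + 1) ∣ Nat.card G ∧ SUel r y ∧
    ∃ p f : ℕ, p.Prime ∧ q = p ^ f ∧ ¬ r ∣ f

/-- the row, with `orderOf q = e` modulo `r` unless `y` has prime order -/
def RowE (G : Type*) [Group G] (q e : ℕ) : Prop :=
  ∃ (r a : ℕ) (y : G), r.Prime ∧ 7 ≤ r ∧ 1 ≤ a ∧ orderOf y = r ^ a ∧ ¬ r ^ (a + 1) ∣ Nat.card G ∧ SUel r y ∧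
    (∃ p f : ℕ, p.Prime ∧ q = p ^ f ∧ ¬ r ∣ f) ∧ (a = 1 ∨ orderOf (q : ZMod r) = e)

theorem RowE.row {G : Type*} [Group G] {q e : ℕ} (h : RowE G q e) : Row G q := by
  obtain ⟨r, a, y, hr, h7, ha, hy, hc, hsu, hf, -⟩ := h
  exact ⟨r, a, y, hr, h7, ha, hy, hc, hsu, hf⟩

theorem Row.hasSU {G : Type*} [Group G] {q : ℕ} (h : Row G q) : HasSU G := by
  obtain ⟨r, a, y, hr, h7, -, -, -, hy, -⟩ := h
  exact ⟨r, hr, by omega, y, hy⟩

theorem Row.congr {G H : Type*} [Group G] [Group H] {q : ℕ} (e : G ≃* H) (h : Row G q) : Row H q := by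
  obtain ⟨r, a, y, hr, h7, ha, hy, hc, hsu, hf⟩ := h
  exact ⟨r, a, e y, hr, h7, ha, by rw [MulEquiv.orderOf_eq, hy], by rwa [← Nat.card_congr e.toEquiv], hsu.congr e, hf⟩

/-- the conclusion of `select` -/
def Sel (q e N d B : ℕ) : Prop :=
  (∃ r a : ℕ, r.Prime ∧ 1 ≤ a ∧ orderOf (q : ZMod r) = e ∧ r ^ a ∣ N ∧ ¬ r ^ (a + 1) ∣ N ∧
    d + r ^ (a - 1) < r ^ a ∧ ∃ p f : ℕ, p.Prime ∧ q = p ^ f ∧ ¬ r ∣ f) ∨ N ∣ B

theorem sel_of {F : Type*} [Field F] [Fintype F] {q N e d s B : ℕ} (hF : Fintype.card F = q) (he : 3 ≤ e)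
    (hed : d < e * (e + 1)) (hN0 : N ≠ 0)
    (h1 : ∀ r : ℕ, r.Prime → r ∣ N → orderOf (q : ZMod r) = e ∨ r = s) (h2 : ¬ s ^ 2 ∣ N)
    (h3 : ∀ r : ℕ, r.Prime → orderOf (q : ZMod r) = e → r ∣ N)
    (hB : ∀ r < d + 2, r.Prime → r % e = 1 → r ∣ B) (hsB : s ∣ B) : Sel q e N d B := by
  obtain ⟨p, hpc⟩ := CharP.exists F
  obtain ⟨f, hp, hf⟩ := FiniteField.card F p
  rw [hF] at hf
  rcases select hp f.pos hf he hed hN0 h1 h2 h3 hB hsB with ⟨r, a, hr, ha, ho, h4, h5, h6, h7⟩ | h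
  · exact Or.inl ⟨r, a, hr, ha, ho, h4, h5, h6, p, f, hp, hf, h7⟩
  · exact Or.inr h

/-- an integer prime to `r` -/
theorem not_dvd_int {r : ℕ} {m : ℕ} (hm : 0 < m) (hmr : m < r) : ¬ (r : ℤ) ∣ (m : ℤ) := by
  intro h
  have h1 : r ∣ m := Int.natCast_dvd_natCast.1 h
  have := Nat.le_of_dvd hm h1
  omega

theorem not_dvd_of {r a b c d : ℕ} (hr : r.Prime) (h7 : 7 < r) : ¬ r ∣ 2 ^ a * 3 ^ b * 5 ^ c * 7 ^ d := by
  intro h
  rcases (Nat.Prime.dvd_mul hr).1 h with h | h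
  · rcases (Nat.Prime.dvd_mul hr).1 h with h | h
    · rcases (Nat.Prime.dvd_mul hr).1 h with h | h
      · have := (Nat.prime_dvd_prime_iff_eq hr Nat.prime_two).1 (hr.dvd_of_dvd_pow h)
        omega
      · have := (Nat.prime_dvd_prime_iff_eq hr Nat.prime_three).1 (hr.dvd_of_dvd_pow h)
        omega
    · have := (Nat.prime_dvd_prime_iff_eq hr Nat.prime_five).1 (hr.dvd_of_dvd_pow h)
      omega
  · have := (Nat.prime_dvd_prime_iff_eq hr (by norm_num)).1 (hr.dvd_of_dvd_pow h)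
    omega

theorem not_dvd_three {r a b : ℕ} (hr : r.Prime) (h7 : 7 ≤ r) : ¬ r ∣ 2 ^ a * 3 ^ b := by
  intro h
  rcases (Nat.Prime.dvd_mul hr).1 h with h | h
  · have := (Nat.prime_dvd_prime_iff_eq hr Nat.prime_two).1 (hr.dvd_of_dvd_pow h)
    omega
  · have := (Nat.prime_dvd_prime_iff_eq hr Nat.prime_three).1 (hr.dvd_of_dvd_pow h)
    omega

theorem prime_not_dvd {F : Type*} [Field F] [Fintype F] {q N : ℕ} (hF : Fintype.card F = q) (p : ℕ) [CharP F p]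
    (hqN : q.Coprime N) : ¬ p ∣ N := by
  obtain ⟨f, hp, hf⟩ := FiniteField.card F p
  rw [hF] at hf
  intro h
  have h1 : p ∣ q := by
    rw [hf]
    exact dvd_pow_self p f.pos.ne'
  have h2 : p ∣ 1 := by
    rw [← hqN]
    exact Nat.dvd_gcd h1 h
  exact hp.one_lt.ne' (Nat.dvd_one.1 h2)

section

variable {D : ChevalleyDatum} {l : ℕ} {M : CoxeterMatrix (Fin l)} (hp : IsType D l M) {K : Type u} [Field K]
  [Fintype K]

include hp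

/-- the row from the torus -/
theorem row_of [Finite M.Group] {q e e0 : ℕ} (hF : Fintype.card K = q) {N N' d : ℕ} {r a : ℕ} (hr : r.Prime)
    (h7 : 7 ≤ r) (ha : 1 ≤ a) (h01 : a = 1 ∨ e = e0) (ho : orderOf (q : ZMod r) = e) (haN : r ^ a ∣ N) (haN' : ¬ r ^ (a + 1) ∣ N)
    (hdim : D.rank + D.nroots + r ^ (a - 1) < r ^ a) (hf : ∃ p f : ℕ, p.Prime ∧ q = p ^ f ∧ ¬ r ∣ f)
    {T : Subgroup ↥(D.group K)} (hc : IsCyclic ↥T)
    (hcent : ∀ y ∈ T, orderOf y = r → Subgroup.centralizer {y} ≤ T) (hN' : ¬ r ∣ N')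
    (h1 : Nat.card ↥T ∣ N' * N) (h2 : N' * N ∣ d * Nat.card ↥T) (hrd : ¬ r ∣ d) (hqN : q.Coprime (N' * N))
    (hm : ∀ i : Fin l, ¬ e ∣ num D i) : RowE ↥(D.group K) q e0 := by
  obtain ⟨p, hpc⟩ := CharP.exists K
  have hq1 : 1 ≤ q := by rw [← hF]; exact Fintype.card_pos
  obtain ⟨y, hy1, hy2, hy3⟩ := row hp M.toCoxeterSystem p hr (by omega) hc hcent h1 h2 hrd ha (haN.mul_left _)
    (fun h => haN' (Nat.Coprime.dvd_of_dvd_mul_left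
      (Nat.Coprime.pow_left _ ((Nat.Prime.coprime_iff_not_dvd hr).2 hN')) h))
    (prime_not_dvd hF p hqN) hdim (fun i h => hm i (by
      rw [hF, dvd_pow_sub_one hq1, ho] at h
      exact h))
  exact ⟨r, a, y, hr, h7, ha, hy1, hy2, hy3, hf, h01.imp_right fun h => by rw [ho, h]⟩

/-- the row for small fields -/
theorem row_small_of [Finite M.Group] {q e : ℕ} (e0 : ℕ) (hF : Fintype.card K = q) {N N' d : ℕ} {r : ℕ} (hr : r.Prime)
    (h7 : 7 ≤ r) (ho : orderOf (q : ZMod r) = e) (haN : r ∣ N) (haN' : ¬ r ^ 2 ∣ N)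
    (hf : ∃ p f : ℕ, p.Prime ∧ q = p ^ f ∧ ¬ r ∣ f) {T : Subgroup ↥(D.group K)} (hc : IsCyclic ↥T)
    (hcent : ∀ y ∈ T, orderOf y = r → Subgroup.centralizer {y} ≤ T) (hN' : ¬ r ∣ N')
    (h1 : Nat.card ↥T ∣ N' * N) (h2 : N' * N ∣ d * Nat.card ↥T) (hrd : ¬ r ∣ d) (hqN : q.Coprime (N' * N))
    (hm : ∀ i : Fin l, ¬ e ∣ num D i) {L : List (ℕ × ℕ)} {m : ℕ} (hm0 : m * Nat.card ↥(D.group K) = pp L)
    (hprime : ∀ x ∈ L, x.1.Prime) (hnd : (L.map Prod.fst).Nodup) {p : ℕ} (hp : p.Prime) (hpq : p ∣ q)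
    (hchk : Chk r p L) : RowE ↥(D.group K) q e0 := by
  obtain ⟨p', hpc⟩ := CharP.exists K
  have hpp : p' = p := by
    obtain ⟨f, hp', hf⟩ := FiniteField.card K p'
    rw [hF] at hf
    rw [hf] at hpq
    exact ((Nat.prime_dvd_prime_iff_eq hp hp').1 (hp.dvd_of_dvd_pow hpq)).symm
  subst hpp
  have hq1 : 1 ≤ q := by rw [← hF]; exact Fintype.card_pos
  obtain ⟨y, hy1, hy2, hy3⟩ := row_small ‹IsType D l M› M.toCoxeterSystem p' hr hc hcent h1 h2 hrd (haN.mul_left _)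
    (fun h => haN' (Nat.Coprime.dvd_of_dvd_mul_left
      (Nat.Coprime.pow_left _ ((Nat.Prime.coprime_iff_not_dvd hr).2 hN')) h))
    (prime_not_dvd hF p' hqN) (fun i h => hm i (by
      rw [hF, dvd_pow_sub_one hq1, ho] at h
      exact h)) (arith_of_list hr (hm0 ▸ Dvd.intro_left _ rfl) hprime hnd hchk)
  exact ⟨r, 1, y, hr, h7, le_rfl, hy1, hy2, hy3, hf, Or.inl rfl⟩

end

end Cfsg.Agent.H585.SuRow
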