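import Mathlib
import Cfsg.Agent.H585.SuRow
import Cfsg.Agent.H129.UntwT
import Cfsg.Agent.KFacts.RgdFld.Fld
import Cfsg.Agent.H129.DataE7h
import Cfsg.Agent.H129.DataE7m
import Cfsg.Agent.S1064
import Cfsg.Agent.S1093

/-!
# The row `E7(q)` (helper585)
-/

set_option autoImplicit false
set_option linter.unusedSectionVars false

namespace Cfsg.Agent.H585.SuE7

open Cfsg Cfsg.Lie Cfsg.Agent.H129 Cfsg.Agent.Nodes.RGDChev Cfsg.Agent.H129.TorusTw Cfsg.Agent.H585.SuRow
  Cfsg.Agent.H585.SuSel Cfsg.Agent.H585.SuPhi Cfsg.Agent.H62.PPChev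

universe u

variable {F : Type u} [Field F] [Fintype F]

theorem typ : IsType chevE7 7 CoxeterMatrix.E₇ := by simp

theorem cardW : Nat.card CoxeterMatrix.E₇.Group = 2903040 :=
  Cfsg.Agent.S1093.result (⟨7, CoxeterMatrix.E₇⟩, 2903040) (by simp)

instance : Finite CoxeterMatrix.E₇.Group := Nat.finite_of_card_ne_zero (by rw [cardW]; norm_num)

theorem notW {r : ℕ} (hr : r.Prime) (h7 : 7 < r) : ¬ r ∣ Nat.card CoxeterMatrix.E₇.Group := by
  rw [cardW, show (2903040 : ℕ) = 2 ^ 10 * 3 ^ 4 * 5 ^ 1 * 7 ^ 1 by norm_num]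
  exact not_dvd_of hr h7

theorem dim : chevE7.rank + chevE7.nroots = 133 := by decide +kernel

theorem ndv18 : ∀ i : Fin 7, ¬ 18 ∣ num chevE7 i := by decide +kernel

theorem torus18 {q N : ℕ} (hF : Fintype.card F = q) (hN : (N : ℤ) = 1 - (q : ℤ) ^ 3 + (q : ℤ) ^ 6) {r : ℕ} (hr : r.Prime)
    (h7 : 7 < r) (hrN : r ∣ N) :
    ∃ T : Subgroup ↥(chevE7.group F), IsCyclic ↥T ∧ Nat.card ↥T ∣ (q + 1) * N ∧ (q + 1) * N ∣ 2 * Nat.card ↥T ∧
      q.Coprime ((q + 1) * N) ∧ ∀ y ∈ T, orderOf y = r → Subgroup.centralizer {y} ≤ T := by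
  have hrq : (r : ℤ) ∣ 1 - (q : ℤ) ^ 3 + (q : ℤ) ^ 6 := by rw [← hN]; exact Int.natCast_dvd_natCast.2 hrN
  have hG : ∀ s, ¬ (r : ℤ) ∣ Gq DataE7h.B (q : ℤ) (DataE7h.R s) := by
    intro s hs
    rcases DataE7h.dvd_of_G hrq s hs with h1 | h1
    · exact not_dvd_int (m := 1) (by norm_num) (by omega) h1
    · exact not_dvd_int (m := 3) (by norm_num) (by omega) h1
  have hN' : (((q + 1) * N : ℕ) : ℤ) = 1 + (q : ℤ) - (q : ℤ) ^ 3 - (q : ℤ) ^ 4 + (q : ℤ) ^ 6 + (q : ℤ) ^ 7 := by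
    push_cast
    rw [hN]
    ring
  have hqN : q.Coprime ((q + 1) * N) := UntwData.coprime_of_eq (a := 1 - (q : ℤ) ^ 2 - (q : ℤ) ^ 3 + (q : ℤ) ^ 5 + (q : ℤ) ^ 6) (by rw [hN']; ring)
  obtain ⟨T, h1, h3, h4, h5, -⟩ := UntwT.untw_T typ CoxeterMatrix.E₇.toCoxeterSystem (by norm_num) hF
    TorusChar.invC_E7 (by norm_num) DataE7h.hA DataE7h.chainOK DataE7h.cycOK DataE7h.rootOK (N := (q + 1) * N)
    (by rw [DataE7h.fN_eq, hN']) hqN (d := 2) (Or.inl rfl)
  exact ⟨T, h1, h3, h4, hqN, h5 r hr (notW hr h7) hG⟩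

theorem torus14 {q N : ℕ} (hF : Fintype.card F = q) (hN : (N : ℤ) = 1 - (q : ℤ) + (q : ℤ) ^ 2 - (q : ℤ) ^ 3 + (q : ℤ) ^ 4 - (q : ℤ) ^ 5 + (q : ℤ) ^ 6) {r : ℕ} (hr : r.Prime)
    (h7 : 7 < r) (hrN : r ∣ N) :
    ∃ T : Subgroup ↥(chevE7.group F), IsCyclic ↥T ∧ Nat.card ↥T ∣ (q + 1) * N ∧ (q + 1) * N ∣ 2 * Nat.card ↥T ∧
      q.Coprime ((q + 1) * N) ∧ ∀ y ∈ T, orderOf y = r → Subgroup.centralizer {y} ≤ T := by
  have hrq : (r : ℤ) ∣ 1 - (q : ℤ) + (q : ℤ) ^ 2 - (q : ℤ) ^ 3 + (q : ℤ) ^ 4 - (q : ℤ) ^ 5 + (q : ℤ) ^ 6 := by rw [← hN]; exact Int.natCast_dvd_natCast.2 hrN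
  have hG : ∀ s, ¬ (r : ℤ) ∣ Gq DataE7m.B (q : ℤ) (DataE7m.R s) := by
    intro s hs
    rcases DataE7m.dvd_of_G hrq s hs with h1 | h1 | h1
    · exact not_dvd_int (m := 1) (by norm_num) (by omega) h1
    · exact not_dvd_int (m := 2) (by norm_num) (by omega) h1
    · exact not_dvd_int (m := 7) (by norm_num) (by omega) h1
  have hN' : (((q + 1) * N : ℕ) : ℤ) = 1 + (q : ℤ) ^ 7 := by
    push_cast
    rw [hN]
    ring
  have hqN : q.Coprime ((q + 1) * N) := UntwData.coprime_of_eq (a := (q : ℤ) ^ 6) (by rw [hN']; ring)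
  obtain ⟨T, h1, h3, h4, h5, -⟩ := UntwT.untw_T typ CoxeterMatrix.E₇.toCoxeterSystem (by norm_num) hF
    TorusChar.invC_E7 (by norm_num) DataE7m.hA DataE7m.chainOK DataE7m.cycOK DataE7m.rootOK (N := (q + 1) * N)
    (by rw [DataE7m.fN_eq, hN']) hqN (d := 2) (Or.inl rfl)
  exact ⟨T, h1, h3, h4, hqN, h5 r hr (notW hr h7) hG⟩

/-- the small fields -/
theorem small18 {q N r m : ℕ} {L : List (ℕ × ℕ)} {p : ℕ} (hF : Fintype.card F = q) (hN : (N : ℤ) = 1 - (q : ℤ) ^ 3 + (q : ℤ) ^ 6)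
    (hr : r.Prime) (h7 : 7 < r) (hrN : r ∣ N) (hrN2 : ¬ r ^ 2 ∣ N) (hf : ∃ p f : ℕ, p.Prime ∧ q = p ^ f ∧ ¬ r ∣ f) (hnd : ¬ r ∣ (q + 1)) 
    (hm0 : m * (q ^ 63 * (q ^ 2 - 1) * (q ^ 6 - 1) * (q ^ 8 - 1) * (q ^ 10 - 1) * (q ^ 12 - 1) * (q ^ 14 - 1) * (q ^ 18 - 1)) = pp L)
    (hprime : ∀ x ∈ L, x.1.Prime) (hnodup : (L.map Prod.fst).Nodup) (hp : p.Prime) (hpq : p ∣ q)
    (hchk : Chk r p L) : RowE ↥(chevE7.group F) q 18 := by
  obtain ⟨T, h1, h2, h3, h4, h5⟩ := torus18 hF hN hr h7 hrN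
  have ho : orderOf (q : ZMod r) = 18 := by
    rcases ord18 hN r hr hrN with h | h
    · exact h
    · omega
  refine row_small_of typ 18 hF hr (by omega) ho hrN hrN2 hf h1 h5 hnd h2 h3 (fun h => by have := Nat.le_of_dvd (by norm_num) h; omega) h4 ndv18 (L := L) (m := m * Nat.gcd 2 (q - 1))
    ?_ hprime hnodup hp hpq hchk
  have h := Cfsg.Agent.S1064.result (F := F) hF
  rw [show m * Nat.gcd 2 (q - 1) * Nat.card ↥(chevE7.group F) = m * (Nat.gcd 2 (q - 1) * Nat.card ↥(chevE7.group F)) by ring, h]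
  exact hm0

/-! ### the field of two elements -/

section Two

open CoxeterSystem Cfsg.Agent.ChevalleyStructure.CoxeterGeom Cfsg.Agent.Tits.Roots Cfsg.Agent.Tits.Core
  Cfsg.Agent.Nodes.Reps Cfsg.Agent.Nodes.BNOf Cfsg.Agent.Nodes.Bruhat Cfsg.Agent.Nodes.LeviDec
  Cfsg.Agent.Nodes.StabComb Cfsg.Agent.Nodes.Unique Cfsg.Agent.Nodes.CardSup
  Cfsg.Agent.H62.PPIdx Cfsg.Agent.KFacts.RgdBorelTits Cfsg.Agent.KFacts.RgdFilt Cfsg.Agent.KFacts.RgdFiltChev
  Cfsg.Agent.ChevalleyStructure Cfsg.Agent.ChevalleyStructure.Elts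
  Cfsg.Agent.ChevalleyStructure.RootVec Cfsg.Agent.H585.SuOwn Cfsg.Agent.H585.SuTor Cfsg.Agent.H465.SU
  Cfsg.Agent.H585.SuUntw

variable {D : ChevalleyDatum} {l : ℕ} {M : CoxeterMatrix (Fin l)} (hp : IsType D l M) {K : Type u} [Field K]
  [Fintype K] {W : Type*} [Group W] (cs : CoxeterSystem M W)

/-- the roots with coefficient at least two -/
def Two (i : Fin l) : Set (Fin l → ℤ) := {x | IsRoot cs hp.isCartan x ∧ 2 ≤ x i}

/-- the number of roots with coefficient at least two -/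
def num2 (D : ChevalleyDatum) (i : ℕ) : ℕ := ((List.range D.nroots).filter fun r => 1 < rt D r i).length

theorem two_pos {i : Fin l} : Two hp cs i ⊆ RGD.Pos cs hp.isCartan := fun _ hx =>
  ⟨hx.1, nonneg_of_pos_apply hx.1 (k := i) (lt_of_lt_of_le (by norm_num) hx.2)⟩

theorem closed_two [Finite W] (h4 : ∀ i j, M i j ≠ 4) (h6 : ∀ i j, M i j ≠ 6) (i : Fin l) :
    Closed cs hp.isCartan (Two hp cs i) := by
  intro x hx y hy z hz
  have hs : KFacts.RgdSL.SL cs hp.isCartan := fun _ _ hx hy =>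
    Nodes.SimplyLaced.cpr_symm cs hp.isCartan h4 h6 hx hy
  rcases KFacts.RgdFld.Layer.btwn_pos hs (two_pos hp cs hx) (two_pos hp cs hy) hz with ⟨-, rfl⟩ | ⟨-, -, rfl⟩
  · exact hx
  · refine ⟨hz.1, ?_⟩
    have h1 := hx.2
    have h2 := hy.2
    rw [Pi.add_apply]
    omega

theorem norm_two [Finite W] (p : ℕ) [Fact p.Prime] [CharP K p] (i : Fin l) :
    PJ cs hp.isCartan ((D.diagonalSubgroup K).subgroupOf (D.group K))
      (fun x => (XV D l K x).subgroupOf (D.group K)) {i}ᶜ ≤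
      Subgroup.normalizer (RGD.Sup (fun x => (XV D l K x).subgroupOf (D.group K)) (Two hp cs i) :
        Set ↥(D.group K)) := by
  classical
  let f : Fin l → ℝ := fun j => if j = i then 1 / 2 else 0
  have hf : ∀ j, 0 ≤ f j := fun j => by
    show (0 : ℝ) ≤ if j = i then 1 / 2 else 0
    split_ifs <;> norm_num
  have hJ : JJ f = {i}ᶜ := by
    ext j
    rw [Set.mem_compl_iff, Set.mem_singleton_iff]
    show f j = 0 ↔ _
    by_cases h : j = i
    · simp [f, h]
    · simp [f, h]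
  have hev : ∀ x : Fin l → ℤ, ev f x = (x i : ℝ) / 2 := fun x => by
    rw [ev_apply, Finset.sum_eq_single i]
    · simp [f]; ring
    · intro j _ hj
      simp [f, hj]
    · intro h
      exact absurd (Finset.mem_univ _) h
  have hF := filt (K := K) hp cs p
  have h1 := Pf_le_normalizer hF f
  rw [PS_half_real hf, hJ] at h1
  have h2 : VV cs hp.isCartan (fun x s => (F2 (XV D l K) (XV D l K) x s).subgroupOf (D.group K)) f =
      RGD.Sup (fun x => (XV D l K x).subgroupOf (D.group K)) (Two hp cs i) := by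
    apply le_antisymm
    · refine FS_le fun z hz => ?_
      show (F2 (XV D l K) (XV D l K) z (ev f z)).subgroupOf (D.group K) ≤ _
      by_cases h3 : 2 ≤ z i
      · have h4 : (1 : ℝ) ≤ ev f z := by
          rw [hev]
          have : (2 : ℝ) ≤ (z i : ℝ) := by exact_mod_cast h3
          linarith
        rw [F2_self h4]
        exact RGD.le_Sup (X := fun x => (XV D l K x).subgroupOf (D.group K)) (S := Two hp cs i) ⟨hz, h3⟩
      · have h4 : ev f z < 1 := by
          rw [hev]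
          push Not at h3
          have : (z i : ℝ) < 2 := by exact_mod_cast h3
          linarith
        rw [F2_zero h4]
        simp
    · refine RGD.Sup_le fun z hz => ?_
      have h4 : (1 : ℝ) ≤ ev f z := by
        rw [hev]
        have h5 := hz.2
        have : (2 : ℝ) ≤ (z i : ℝ) := by exact_mod_cast h5
        linarith
      refine le_trans ?_ (le_FS (G := fun z => (fun x s => (F2 (XV D l K) (XV D l K) x s).subgroupOf (D.group K)) z (ev f z))
        (S := {z | IsRoot cs hp.isCartan z}) hz.1)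
      show _ ≤ (F2 (XV D l K) (XV D l K) z (ev f z)).subgroupOf (D.group K)
      rw [F2_self h4]
  rw [h2] at h1
  exact h1

include hp in
theorem card_two [Finite W] (h4 : ∀ i j, M i j ≠ 4) (h6 : ∀ i j, M i j ≠ 6) (r : ℕ) [Fact r.Prime] [CharP K r]
    (i : Fin l) : Nat.card (RGD.Sup (fun x => (XV D l K x).subgroupOf (D.group K)) (Two hp cs i)) =
      Fintype.card K ^ num2 D i := by
  classical
  have R := rgd (K := K) hp cs r
  have hfin : (Two hp cs i).Finite :=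
    (RGD.finite_roots (cs := cs) (h := hp.isCartan)).subset fun _ hx => hx.1
  set s : Finset (Fin l → ℤ) := hfin.toFinset with hs
  have hsc : (s : Set (Fin l → ℤ)) = Two hp cs i := hfin.coe_toFinset
  have h3 : Nat.card (RGD.Sup (fun x => (XV D l K x).subgroupOf (D.group K)) (Two hp cs i)) =
      ∏ x ∈ s, Nat.card ↥((XV D l K x).subgroupOf (D.group K)) := by
    have := card_sup R (s := s) (by rw [hsc]; exact two_pos hp cs) (by rw [hsc]; exact closed_two hp cs h4 h6 i)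
    rw [← this, hsc]
  have h5 : ∏ x ∈ s, Nat.card ↥((XV D l K x).subgroupOf (D.group K)) = Fintype.card K ^ s.card := by
    rw [← Finset.prod_const]
    refine Finset.prod_congr rfl fun x hx => card_X hp cs ?_
    have hx' : x ∈ Two hp cs i := by rw [← hsc]; exact hx
    exact hx'.1
  rw [h3, h5]
  congr 1
  have h7 : num2 D i = (((List.range D.nroots).filter fun r => 1 < rt D r i).toFinset).card := by
    rw [List.toFinset_card_of_nodup (List.nodup_range.filter _)]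
    rfl
  rw [h7]
  symm
  have himg : s = ((List.range D.nroots).filter fun r => 1 < rt D r i).toFinset.image (fun r => vec D l r) := by
    ext x
    rw [← Finset.mem_coe, hsc, Finset.mem_image]
    constructor
    · rintro ⟨h1, h2⟩
      obtain ⟨r, hr, rfl⟩ := (isRoot_iff hp cs x).1 h1
      refine ⟨r, ?_, rfl⟩
      rw [List.mem_toFinset, List.mem_filter, List.mem_range]
      refine ⟨hr, decide_eq_true ?_⟩
      have h2' : 2 ≤ rt D r i := h2
      omega
    · rintro ⟨r, hr, rfl⟩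
      rw [List.mem_toFinset, List.mem_filter, List.mem_range] at hr
      have hr2 : 1 < rt D r i := by simpa using hr.2
      refine ⟨isRoot_vec hp cs hr.1, ?_⟩
      show 2 ≤ rt D r i
      omega
  rw [himg]
  refine (Finset.card_image_of_injOn ?_).symm
  intro a ha b hb e
  rw [Finset.mem_coe, List.mem_toFinset, List.mem_filter, List.mem_range] at ha hb
  exact vec_inj hp ha.1 hb.1 e

include hp cs in
/-- own characteristic, with the second term of the radical -/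
theorem own_char2 [Finite W] (h4 : ∀ i j, M i j ≠ 4) (h6 : ∀ i j, M i j ≠ 6) (p : ℕ) [CharP K p] {r : ℕ}
    (hr : r.Prime) (hm : ∀ i : Fin l, ¬ r ∣ Fintype.card K ^ num D i - 1 ∨ ¬ r ∣ Fintype.card K ^ num2 D i - 1)
    (x : ↥(D.group K)) (hx : orderOf x = r) (hC : ∀ v : ↥(D.group K), orderOf v = p → x * v ≠ v * x)
    (S : Subgroup ↥(D.group K)) (hS : IsPGroup p S) (hn : ∀ u ∈ S, x * u * x⁻¹ ∈ S) : S = ⊥ := by
  have hfp : Fact p.Prime := ⟨CharP.char_is_prime K p⟩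
  have R := rgd (K := K) hp cs p
  have hBT : KFacts.RgdCharP.BT cs hp.isCartan p _ (fun x => (XV D l K x).subgroupOf (D.group K)) :=
    fun K' hK hK1 => KFacts.RgdFilt.borel_tits_of_filt (KFacts.RgdFiltChev.filt hp cs p) (G1_eq_top hp cs) hK hK1
  refine eq_bot_of_normal' R hBT hr hx hC (fun i => ?_) hS hn
  rcases hm i with h1 | h1
  · exact ⟨_, KFacts.RgdCharP.isPGroup_VJ R _, PJ_le_normalizer_VJ R _, by rw [card_VJ hp cs p i]; exact h1⟩
  · exact ⟨_, R.isPGroup_of_pos (S := Two hp cs i) (two_pos hp cs), norm_two hp cs p i, by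
      rw [card_two hp cs h4 h6 p i]; exact h1⟩

end Two

theorem h4_E7 : ∀ i j, CoxeterMatrix.E₇ i j ≠ 4 := by intro i; fin_cases i <;> decide

theorem h6_E7 : ∀ i j, CoxeterMatrix.E₇ i j ≠ 6 := by intro i; fin_cases i <;> decide

/-- `E₇(2)` -/
theorem row_two (hF : Fintype.card F = 2) : RowE ↥(chevE7.group F) 2 18 := by
  obtain ⟨p', hpc⟩ := CharP.exists F
  have hpp : p' = 2 := by
    obtain ⟨f, hp', hf⟩ := FiniteField.card F p'
    rw [hF] at hf
    have h2 : 2 ∣ p' ^ (f : ℕ) := by rw [← hf]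
    exact ((Nat.prime_dvd_prime_iff_eq Nat.prime_two hp').1 (Nat.prime_two.dvd_of_dvd_pow h2)).symm
  subst hpp
  have hr : Nat.Prime 43 := by norm_num
  obtain ⟨T, h1, h2, h3, h4, h5⟩ := torus14 (q := 2) (N := 43) hF (by norm_num) hr (by norm_num) dvd_rfl
  have hcard : Nat.card ↥(chevE7.group F) ∣ pp [(2, 63), (3, 11), (5, 2), (7, 3), (11, 1), (13, 1), (17, 1), (19, 1), (31, 1), (43, 1), (73, 1), (127, 1)] := by
    have h := Cfsg.Agent.S1064.result (F := F) hF
    refine Dvd.intro_left (Nat.gcd 2 (2 - 1)) ?_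
    rw [h]
    decide +kernel
  obtain ⟨y, hy1, hy2, hy3⟩ := SuTor.exists_SU_small (p := 2) hr h1 h5 h2 h3 (by norm_num)
    (Dvd.intro_left 3 (by norm_num) : 43 ∣ (2 + 1) * 43) (by norm_num) (by norm_num)
    (fun x hx hC S hS hn => own_char2 typ CoxeterMatrix.E₇.toCoxeterSystem h4_E7 h6_E7 2 hr
      (fun i => by
        rw [hF]
        have key : ∀ i : Fin 7, ¬ 43 ∣ 2 ^ num chevE7 i - 1 ∨ ¬ 43 ∣ 2 ^ num2 chevE7 i - 1 := by decide +kernel
        exact key i) x hx hC S hS hn)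
    (arith_of_list hr hcard (by norm_num) (by decide) (by decide +kernel))
  exact ⟨43, 1, y, hr, by norm_num, le_rfl, hy1, hy2, hy3, ⟨2, 1, by norm_num, by norm_num, by norm_num⟩, Or.inl rfl⟩

theorem resultE : RowE ↥(chevE7.group F) (Fintype.card F) 18 := by
  obtain ⟨q, hF⟩ : ∃ q, Fintype.card F = q := ⟨_, rfl⟩
  have hq2 : 2 ≤ q := by rw [← hF]; exact Fintype.one_lt_card
  rw [hF]
  have hle : q ^ 3 ≤ q ^ 6 := Nat.pow_le_pow_right (by omega) (by norm_num)
  obtain ⟨N, hNdef⟩ : ∃ N, N = q ^ 6 - q ^ 3 + 1 := ⟨_, rfl⟩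
  have hN : (N : ℤ) = 1 - (q : ℤ) ^ 3 + (q : ℤ) ^ 6 := by rw [hNdef]; push_cast [Nat.cast_sub hle]; ring
  rcases sel_of (F := F) (d := 133) (B := 2131226751) hF (by norm_num) (by norm_num) (by omega) (ord18 hN) (sq18 hN) (dvd18 hN)
    (by decide +kernel) (by norm_num) with ⟨r, a, hr, ha, ho, haN, haN', hd, hf⟩ | hB
  · obtain ⟨hmod, h6⟩ := mod_eq_one hr (by norm_num) ho
    obtain ⟨T, h1, h2, h3, h4, h5⟩ := torus18 hF hN hr (by omega) (dvd18 hN r hr ho)
    exact row_of typ hF hr (by omega) ha (Or.inr rfl) ho haN haN' (by rw [dim]; exact hd) hf h1 h5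
      (fun h => by
        have h1 := ho
        have h2 : r ∣ q ^ 2 - 1 := by
          have e1 : q ^ 2 - 1 = (q + 1) * (q - 1) := by
            have := Nat.sq_sub_sq q 1
            simpa using this
          rw [e1]
          exact h.mul_right _
        rw [dvd_pow_sub_one (by omega), h1] at h2
        revert h2
        norm_num) h2 h3 (fun h => by have := Nat.le_of_dvd (by norm_num) h; omega) h4 ndv18
  · have hq4 : q ≤ 35 := by
      have := Nat.le_of_dvd (by norm_num) hB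
      by_contra h
      push Not at h
      have h2 : 36 ^ 3 * q ^ 3 ≤ q ^ 3 * q ^ 3 := Nat.mul_le_mul_right _ (Nat.pow_le_pow_left h 3)
      have h3 : 36 ^ 3 ≤ q ^ 3 := Nat.pow_le_pow_left h 3
      have h4 : q ^ 6 = q ^ 3 * q ^ 3 := by ring
      omega
    subst hNdef
    have hcases : q = 2 ∨ q = 3 ∨ q = 4 := by
      clear hN hF hle
      interval_cases q <;> revert hB <;> norm_num
    rcases hcases with rfl | rfl | rfl
    · exact row_two hF
    · exact small18 (r := 37) (m := 1) (L := [(2, 24), (3, 63), (5, 2), (7, 3), (11, 2), (13, 3), (19, 1), (37, 1), (41, 1), (61, 1), (73, 1), (547, 1), (757, 1), (1093, 1)]) (p := 3) hF hN (by norm_num) (by norm_num)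
        (by norm_num) (by norm_num) ⟨3, 1, by norm_num, by norm_num, by norm_num⟩ (by norm_num) (by decide +kernel) (by norm_num)
        (by decide) (by norm_num) (by norm_num) (by decide +kernel)
    · exact small18 (r := 109) (m := 1) (L := [(2, 126), (3, 11), (5, 8), (7, 3), (11, 1), (13, 3), (17, 2), (19, 1), (29, 1), (31, 1), (37, 1), (41, 1), (43, 1), (73, 1), (109, 1), (113, 1), (127, 1), (241, 1), (257, 1)]) (p := 2) hF hN (by norm_num) (by norm_num)
        (by norm_num) (by norm_num) ⟨2, 2, by norm_num, by norm_num, by norm_num⟩ (by norm_num) (by decide +kernel) (by norm_num)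
        (by decide) (by norm_num) (by norm_num) (by decide +kernel)

theorem result : Row ↥(chevE7.group F) (Fintype.card F) := (resultE).row

end Cfsg.Agent.H585.SuE7
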