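import Mathlib

/-!
# Solvable permutation groups containing a long cycle of prime order (helper585, for S4384)

`card_of_solvable` : a transitive solvable permutation group of degree `d < 2 r` containing an element of prime order `r`
has `d = r`, or `d = r + 1` is a prime power.
-/

set_option autoImplicit false
set_option linter.unusedSectionVars false

namespace Cfsg.Agent.H585.AltSolv

open Equiv Subgroup

/-- a nontrivial normal elementary abelian subgroup -/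
theorem exists_elementary {G : Type*} [Group G] [Finite G] (hs : Group.IsSolvable G) (hnt : Nontrivial G) :
    ∃ (A : Subgroup G) (p : ℕ), p.Prime ∧ A.Normal ∧ A ≠ ⊥ ∧ (∀ a ∈ A, ∀ b ∈ A, a * b = b * a) ∧
      ∀ a ∈ A, a ^ p = 1 := by
  classical
  have hex := hs.solvable
  set n := Nat.find hex with hn
  have hn0 : derivedSeries G n = ⊥ := Nat.find_spec hex
  have hnpos : n ≠ 0 := by
    intro h
    rw [h, derivedSeries_zero] at hn0
    exact top_ne_bot hn0
  obtain ⟨m, hm⟩ : ∃ m, n = m + 1 := ⟨n - 1, by omega⟩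
  set D := derivedSeries G m with hD
  have hDne : D ≠ ⊥ := Nat.find_min hex (by omega)
  have hDn : D.Normal := derivedSeries_normal G m
  have hDc : ∀ a ∈ D, ∀ b ∈ D, a * b = b * a := by
    rw [hm, derivedSeries_succ, commutator_eq_bot_iff_le_centralizer] at hn0
    intro a ha b hb
    exact (mem_centralizer_iff.1 (hn0 ha) b hb).symm
  have hDc1 : Nat.card D ≠ 1 := fun h => hDne (Subgroup.card_eq_one.1 h)
  obtain ⟨p, hp, hpd⟩ := Nat.exists_prime_and_dvd hDc1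
  have : Fact p.Prime := ⟨hp⟩
  let A : Subgroup G :=
    { carrier := {x | x ∈ D ∧ x ^ p = 1}
      one_mem' := ⟨one_mem _, one_pow _⟩
      mul_mem' := by
        rintro x y ⟨hx, hx'⟩ ⟨hy, hy'⟩
        have hc : Commute x y := hDc x hx y hy
        exact ⟨mul_mem hx hy, by rw [hc.mul_pow, hx', hy', one_mul]⟩
      inv_mem' := by
        rintro x ⟨hx, hx'⟩
        exact ⟨inv_mem hx, by rw [inv_pow, hx', inv_one]⟩ }
  refine ⟨A, p, hp, ⟨?_⟩, ?_, fun a ha b hb => hDc a ha.1 b hb.1, fun a ha => ha.2⟩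
  · rintro x ⟨hx, hx'⟩ g
    exact ⟨hDn.conj_mem x hx g, by rw [conj_pow, hx', mul_one, mul_inv_cancel]⟩
  · obtain ⟨x, hx⟩ := exists_prime_orderOf_dvd_card' (G := D) p hpd
    intro h
    have h1 : (x : G) ∈ A := ⟨x.2, by rw [← hx, ← orderOf_coe, pow_orderOf_eq_one]⟩
    rw [h, mem_bot] at h1
    have h2 : x = 1 := Subtype.ext h1
    rw [h2, orderOf_one] at hx
    exact hp.one_lt.ne hx

variable {Δ : Type*} [Fintype Δ] [DecidableEq Δ]

theorem inv_app (e : Perm Δ) (x : Δ) : e⁻¹ (e x) = x := e.symm_apply_apply x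

theorem app_inv (e : Perm Δ) (x : Δ) : e (e⁻¹ x) = x := e.apply_symm_apply x

/-- an elementary abelian subgroup of `Perm Δ` normal in `H` -/
theorem exists_A {H : Subgroup (Perm Δ)} (hs : Group.IsSolvable H) (hnt : Nontrivial H) :
    ∃ (A : Subgroup (Perm Δ)) (p : ℕ), p.Prime ∧ A ≤ H ∧ (∀ h ∈ H, ∀ a ∈ A, h * a * h⁻¹ ∈ A) ∧ (∃ a ∈ A, a ≠ 1) ∧
      (∀ a ∈ A, ∀ b ∈ A, a * b = b * a) ∧ ∀ a ∈ A, a ^ p = 1 := by
  obtain ⟨A₀, p, hp, hA₀n, hA₀, hA₀c, hA₀p⟩ := exists_elementary hs hnt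
  refine ⟨A₀.map H.subtype, p, hp, map_subtype_le _, ?_, ?_, ?_, ?_⟩
  · rintro h hh _ ⟨a, ha, rfl⟩
    exact ⟨_, hA₀n.conj_mem a ha ⟨h, hh⟩, rfl⟩
  · by_contra hcon
    push Not at hcon
    apply hA₀
    rw [eq_bot_iff]
    intro a ha
    rw [mem_bot]
    exact Subtype.ext (hcon _ ⟨a, ha, rfl⟩)
  · rintro _ ⟨a, ha, rfl⟩ _ ⟨b, hb, rfl⟩
    exact congrArg Subtype.val (hA₀c a ha b hb)
  · rintro _ ⟨a, ha, rfl⟩
    exact congrArg Subtype.val (hA₀p a ha)

section Blocks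

variable {H A : Subgroup (Perm Δ)} (hAn : ∀ h ∈ H, ∀ a ∈ A, h * a * h⁻¹ ∈ A) {x₀ : Δ}
include hAn

theorem block {g : Perm Δ} (hg : g ∈ H) {b : Δ} (h1 : ∃ a ∈ A, a x₀ = b) (h2 : ∃ a ∈ A, a x₀ = g b) :
    ∃ a ∈ A, a x₀ = g x₀ := by
  obtain ⟨a, ha, rfl⟩ := h1
  obtain ⟨a', ha', h⟩ := h2
  refine ⟨g * a⁻¹ * g⁻¹ * a', mul_mem (hAn g hg _ (inv_mem ha)) ha', ?_⟩
  show g (a⁻¹ (g⁻¹ (a' x₀))) = g x₀
  rw [h, inv_app, inv_app]

theorem block' {g : Perm Δ} (hg : g ∈ H) (h1 : ∃ a ∈ A, a x₀ = g x₀) {b : Δ} (h2 : ∃ a ∈ A, a x₀ = b) :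
    ∃ a ∈ A, a x₀ = g b := by
  obtain ⟨a, ha, h⟩ := h1
  obtain ⟨a', ha', rfl⟩ := h2
  refine ⟨g * a' * g⁻¹ * a, mul_mem (hAn g hg _ ha') ha, ?_⟩
  show g (a' (g⁻¹ (a x₀))) = g (a' x₀)
  rw [h, inv_app]

theorem block_pow {g : Perm Δ} (hg : g ∈ H) (h1 : ∃ a ∈ A, a x₀ = g x₀) (k : ℕ) : ∃ a ∈ A, a x₀ = (g ^ k) x₀ := by
  induction k with
  | zero => exact ⟨1, one_mem _, rfl⟩
  | succ k ih =>
    rw [pow_succ']
    exact block' hAn hg h1 ih

/-- `A` moves every point -/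
theorem exists_moved (htr : ∀ x y : Δ, ∃ h ∈ H, h x = y) (hA1 : ∃ a ∈ A, a ≠ 1) : ∃ a ∈ A, a x₀ ≠ x₀ := by
  obtain ⟨a₀, ha₀, ha₀1⟩ := hA1
  by_contra hcon
  push Not at hcon
  apply ha₀1
  ext y
  obtain ⟨h, hh, rfl⟩ := htr x₀ y
  have h1 := hcon (h⁻¹ * a₀ * h) (by
    have := hAn h⁻¹ (inv_mem hh) a₀ ha₀
    rwa [inv_inv] at this)
  have h2 : h⁻¹ (a₀ (h x₀)) = x₀ := h1
  rw [Perm.one_apply]
  calc a₀ (h x₀) = h (h⁻¹ (a₀ (h x₀))) := (app_inv h _).symm
    _ = h x₀ := by rw [h2]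

/-- `z` preserves the block of `x₀` -/
theorem z_block (htr : ∀ x y : Δ, ∃ h ∈ H, h x = y) (hA1 : ∃ a ∈ A, a ≠ 1) {z : Perm Δ} (hz : z ∈ H) {r : ℕ}
    (hr : r.Prime) (hzo : orderOf z = r) (hlt : Fintype.card Δ < 2 * r) : ∃ a ∈ A, a x₀ = z x₀ := by
  obtain ⟨a₁, ha₁, hx₁⟩ := exists_moved (x₀ := x₀) hAn htr hA1
  by_contra hcon
  -- no smaller power preserves it
  have hpow : ∀ j, 0 < j → j < r → ¬ ∃ a ∈ A, a x₀ = (z ^ j) x₀ := by
    intro j hj hjr h
    apply hcon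
    have hcop : Nat.Coprime r j := Nat.coprime_of_lt_prime hj.ne' hjr hr
    obtain ⟨k, hk⟩ := Nat.exists_mul_mod_eq_one_of_coprime hcop.symm hr.one_lt
    have h2 := block_pow hAn (pow_mem hz j) h k
    rwa [← pow_mul, ← pow_mod_orderOf, hzo, hk.2, pow_one] at h2
  have key : ∀ i j : ℕ, i ≤ j → j < r → ∀ x y, (∃ a ∈ A, a x₀ = x) → (∃ a ∈ A, a x₀ = y) →
      (z ^ i) x = (z ^ j) y → i = j ∧ x = y := by
    intro i j hij hj x y hx hy h
    have h1 : (z ^ (j - i)) y = x := by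
      have h2 : (z ^ j) y = (z ^ i) ((z ^ (j - i)) y) := by
        rw [← Perm.mul_apply, ← pow_add, Nat.add_sub_cancel' hij]
      rw [h2] at h
      exact ((z ^ i).injective h).symm
    rcases Nat.eq_zero_or_pos (j - i) with h0 | h0
    · have h3 : i = j := by omega
      subst h3
      refine ⟨rfl, ?_⟩
      rw [Nat.sub_self, pow_zero, Perm.one_apply] at h1
      exact h1.symm
    · exfalso
      exact hpow (j - i) h0 (by omega) (block hAn (pow_mem hz _) hy (by rw [h1]; exact hx))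
  let pt : Bool → Δ := fun b => if b then a₁ x₀ else x₀
  have hpt : Function.Injective pt := by
    intro b c hbc
    cases b <;> cases c
    · rfl
    · exact absurd hbc.symm hx₁
    · exact absurd hbc hx₁
    · rfl
  have hB : ∀ b : Bool, ∃ a ∈ A, a x₀ = pt b := by
    intro b
    cases b
    · exact ⟨1, one_mem _, rfl⟩
    · exact ⟨a₁, ha₁, rfl⟩
  have hinj : Function.Injective (fun x : Fin r × Bool => (z ^ (x.1 : ℕ)) (pt x.2)) := by
    rintro ⟨i, b⟩ ⟨j, c⟩ h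
    have h' : (z ^ (i : ℕ)) (pt b) = (z ^ (j : ℕ)) (pt c) := h
    have h2 : (i : ℕ) = j ∧ pt b = pt c := by
      rcases le_total (i : ℕ) j with hij | hij
      · exact key i j hij j.2 _ _ (hB b) (hB c) h'
      · obtain ⟨h3, h4⟩ := key j i hij i.2 _ _ (hB c) (hB b) h'.symm
        exact ⟨h3.symm, h4.symm⟩
    exact Prod.ext (Fin.ext h2.1) (hpt h2.2)
  have h1 := Fintype.card_le_of_injective _ hinj
  rw [Fintype.card_prod, Fintype.card_fin, Fintype.card_bool] at h1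
  omega

end Blocks

section Trans

variable {H A : Subgroup (Perm Δ)} (hAn : ∀ h ∈ H, ∀ a ∈ A, h * a * h⁻¹ ∈ A)
  (htr : ∀ x y : Δ, ∃ h ∈ H, h x = y) (hA1 : ∃ a ∈ A, a ≠ 1) {z : Perm Δ} (hz : z ∈ H) {r : ℕ}
  (hr : r.Prime) (hzo : orderOf z = r) (hlt : Fintype.card Δ < 2 * r)
include hAn htr hA1 hz hr hzo hlt

theorem trans_A : ∀ x y, ∃ a ∈ A, a x = y := by
  have hcyc : z.IsCycle := Perm.isCycle_of_prime_order' (by rw [hzo]; exact hr) (by rw [hzo]; exact hlt)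
  have hcz : z.support.card = r := by rw [← hcyc.orderOf, hzo]
  obtain ⟨x₀, hx₀, hcx⟩ := hcyc
  have hzb := z_block (x₀ := x₀) hAn htr hA1 hz hr hzo hlt
  have hsupp : ∀ x, z x ≠ x → ∃ a ∈ A, a x₀ = x := by
    intro x hx
    obtain ⟨i, hi⟩ := hcx hx
    obtain ⟨k, hk⟩ : ∃ k : ℕ, z ^ k = z ^ i := by
      obtain ⟨k, hk⟩ := (isOfFinOrder_of_finite z).mem_powers_iff_mem_zpowers.2 (⟨i, rfl⟩ : z ^ i ∈ zpowers z)
      exact ⟨k, hk⟩
    have h2 := block_pow hAn hz hzb k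
    rwa [hk, hi] at h2
  have hAtr : ∀ y, ∃ a ∈ A, a x₀ = y := by
    intro y
    by_contra hcon
    obtain ⟨h, hh, rfl⟩ := htr x₀ y
    have h1 : Disjoint (z.support.map h.toEmbedding) z.support := by
      rw [Finset.disjoint_left]
      intro x hx hx'
      obtain ⟨x'', hx'', rfl⟩ := Finset.mem_map.1 hx
      rw [Perm.mem_support] at hx'' hx'
      exact hcon (block hAn hh (hsupp x'' hx'') (hsupp _ hx'))
    have h2 := Finset.card_union_of_disjoint h1
    rw [Finset.card_map, hcz] at h2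
    have h3 := Finset.card_le_univ (z.support.map h.toEmbedding ∪ z.support)
    omega
  intro x y
  obtain ⟨b, hb, hbx⟩ := hAtr x
  obtain ⟨c, hc, hcy⟩ := hAtr y
  refine ⟨c * b⁻¹, mul_mem hc (inv_mem hb), ?_⟩
  show c (b⁻¹ x) = y
  rw [← hbx, inv_app, hcy]

end Trans

section Reg

variable {A : Subgroup (Perm Δ)} (hAc : ∀ a ∈ A, ∀ b ∈ A, a * b = b * a) (hAt : ∀ x y : Δ, ∃ a ∈ A, a x = y)
include hAc hAt

theorem reg {a : Perm Δ} (ha : a ∈ A) {x : Δ} (hx : a x = x) : a = 1 := by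
  ext y
  obtain ⟨c, hc, hcy⟩ := hAt x y
  have h2 := hAc a ha c hc
  rw [Perm.one_apply]
  calc a y = (a * c) x := by rw [Perm.mul_apply, hcy]
    _ = c (a x) := by rw [h2]; rfl
    _ = y := by rw [hx, hcy]

theorem eval_bij (α : Δ) : Function.Bijective (fun a : A => (a : Perm Δ) α) := by
  constructor
  · intro a b hab
    have h1 : ((b : Perm Δ)⁻¹ * a) α = α := by
      show (b : Perm Δ)⁻¹ ((a : Perm Δ) α) = α
      have hab' : (a : Perm Δ) α = (b : Perm Δ) α := hab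
      rw [hab', inv_app]
    have h2 := reg hAc hAt (mul_mem (inv_mem b.2) a.2) h1
    exact Subtype.ext (inv_mul_eq_one.1 h2).symm
  · intro y
    obtain ⟨c, hc, hcy⟩ := hAt α y
    exact ⟨⟨c, hc⟩, hcy⟩

theorem card_A [Nonempty Δ] : Nat.card A = Fintype.card Δ := by
  rw [← Nat.card_eq_fintype_card]
  exact Nat.card_congr (Equiv.ofBijective _ (eval_bij hAc hAt (Classical.arbitrary Δ)))

/-- the number of fixed points of a normalising element with a fixed point divides the degree -/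
theorem fixed_dvd {z : Perm Δ} (hz : ∀ a ∈ A, z * a * z⁻¹ ∈ A) {α : Δ} (hα : z α = α) :
    (Finset.univ.filter fun x => z x = x).card ∣ Fintype.card Δ := by
  have : Nonempty Δ := ⟨α⟩
  let C : Subgroup A :=
    { carrier := {a | z * a * z⁻¹ = a}
      one_mem' := by show z * 1 * z⁻¹ = 1; group
      mul_mem' := by
        intro a b ha hb
        have ha' : z * a * z⁻¹ = a := ha
        have hb' : z * b * z⁻¹ = b := hb
        show z * (a * b) * z⁻¹ = a * b
        calc z * ((a : Perm Δ) * b) * z⁻¹ = (z * a * z⁻¹) * (z * b * z⁻¹) := by group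
          _ = a * b := by rw [ha', hb']
      inv_mem' := by
        intro a ha
        have ha' : z * a * z⁻¹ = a := ha
        show z * (a : Perm Δ)⁻¹ * z⁻¹ = (a : Perm Δ)⁻¹
        calc z * (a : Perm Δ)⁻¹ * z⁻¹ = (z * a * z⁻¹)⁻¹ := by group
          _ = (a : Perm Δ)⁻¹ := by rw [ha'] }
  have hCmem : ∀ a : A, a ∈ C ↔ z ((a : Perm Δ) α) = (a : Perm Δ) α := by
    intro a
    have hzα : z⁻¹ α = α := by
      conv_lhs => rw [← hα]
      rw [inv_app]
    constructor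
    · intro h
      have h' : z * a * z⁻¹ = a := h
      have h1 : (z * a * z⁻¹) α = z ((a : Perm Δ) (z⁻¹ α)) := rfl
      rw [h', hzα] at h1
      exact h1.symm
    · intro h
      show z * a * z⁻¹ = a
      have h1 : ((a : Perm Δ)⁻¹ * (z * a * z⁻¹)) α = α := by
        show (a : Perm Δ)⁻¹ (z ((a : Perm Δ) (z⁻¹ α))) = α
        rw [hzα, h, inv_app]
      have h2 := reg hAc hAt (mul_mem (inv_mem a.2) (hz _ a.2)) h1
      exact (inv_mul_eq_one.1 h2).symm
  have hcardC : Nat.card C = (Finset.univ.filter fun x => z x = x).card := by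
    rw [← Fintype.card_subtype, ← Nat.card_eq_fintype_card]
    refine Nat.card_congr (Equiv.ofBijective
      (fun a : C => (⟨((a : A) : Perm Δ) α, (hCmem a).1 a.2⟩ : {x // z x = x})) ⟨?_, ?_⟩)
    · intro a b hab
      have h1 : ((a : A) : Perm Δ) α = ((b : A) : Perm Δ) α := congrArg Subtype.val hab
      exact Subtype.ext ((eval_bij hAc hAt α).1 h1)
    · rintro ⟨x, hx⟩
      obtain ⟨a, ha⟩ := (eval_bij hAc hAt α).2 x
      have ha' : (a : Perm Δ) α = x := ha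
      exact ⟨⟨a, (hCmem a).2 (by rw [ha', hx])⟩, Subtype.ext ha'⟩
  rw [← hcardC, ← card_A hAc hAt]
  exact Subgroup.card_subgroup_dvd_card C

end Reg

/-- **degrees of solvable groups with a long cycle** -/
theorem card_of_solvable {H : Subgroup (Perm Δ)} (hs : Group.IsSolvable H) (htr : ∀ x y : Δ, ∃ h ∈ H, h x = y)
    {z : Perm Δ} (hz : z ∈ H) {r : ℕ} (hr : r.Prime) (hzo : orderOf z = r) (hlt : Fintype.card Δ < 2 * r) :
    Fintype.card Δ = r ∨ (Fintype.card Δ = r + 1 ∧ ∃ p k, p.Prime ∧ Fintype.card Δ = p ^ k) := by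
  have hz1 : z ≠ 1 := by
    rintro rfl
    rw [orderOf_one] at hzo
    exact hr.one_lt.ne hzo
  have hnt : Nontrivial H := ⟨⟨⟨z, hz⟩, 1, fun h => hz1 (congrArg Subtype.val h)⟩⟩
  obtain ⟨A, p, hp, hAH, hAn, hA1, hAc, hAp⟩ := exists_A hs hnt
  have hAt := trans_A hAn htr hA1 hz hr hzo hlt
  have hcyc : z.IsCycle := Perm.isCycle_of_prime_order' (by rw [hzo]; exact hr) (by rw [hzo]; exact hlt)
  have hcz : z.support.card = r := by rw [← hcyc.orderOf, hzo]
  have hsum : z.support.card + (Finset.univ.filter fun x => z x = x).card = Fintype.card Δ := by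
    have h1 := Finset.card_filter_add_card_filter_not (s := (Finset.univ : Finset Δ)) (fun x => z x = x)
    rw [Finset.card_univ] at h1
    have h2 : z.support = Finset.univ.filter fun x => ¬ z x = x := by
      ext x
      simp [Perm.mem_support]
    rw [h2]
    omega
  by_cases hfix : ∃ α, z α = α
  swap
  · left
    have h1 : (Finset.univ.filter fun x => z x = x) = ∅ := by
      rw [Finset.filter_eq_empty_iff]
      intro x _ hx
      exact hfix ⟨x, hx⟩
    rw [h1, Finset.card_empty, add_zero, hcz] at hsum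
    exact hsum.symm
  right
  obtain ⟨α, hα⟩ := hfix
  have : Nonempty Δ := ⟨α⟩
  have hdvd := fixed_dvd hAc hAt (fun a ha => hAn z hz a ha) hα
  set f := (Finset.univ.filter fun x => z x = x).card with hf
  have hdvd' : f ∣ r := by
    rw [← hsum, hcz] at hdvd
    exact (Nat.dvd_add_left (dvd_refl f)).1 hdvd
  have hC1 : f = 1 := by
    rcases (Nat.dvd_prime hr).1 hdvd' with h | h
    · exact h
    · omega
  refine ⟨by omega, p, ?_⟩
  have : Fact p.Prime := ⟨hp⟩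
  have hAg : IsPGroup p A := fun a => ⟨1, Subtype.ext (by rw [pow_one]; exact hAp a a.2)⟩
  obtain ⟨k, hk⟩ := IsPGroup.iff_card.1 hAg
  exact ⟨k, hp, by rw [← card_A hAc hAt, hk]⟩

end Cfsg.Agent.H585.AltSolv
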