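import Mathlib
import Cfsg.Agent.H585.SuTw
import Cfsg.Agent.H129.TwT
import Cfsg.Agent.H129.DataTE6n
import Cfsg.Agent.GpExc.TwNode
import Cfsg.Agent.S1066

/-!
# The row `²E₆(q)` (helper585)
-/

set_option autoImplicit false
set_option linter.unusedSectionVars false

namespace Cfsg.Agent.H585.SuTE6

open CoxeterSystem Cfsg.Lie Cfsg.Agent.ChevalleyStructure Cfsg.Agent.ChevalleyStructure.CoxeterGeom
  Cfsg.Agent.ChevalleyStructure.CoxeterGeomTypes
  Cfsg.Agent.Tits.Roots Cfsg.Agent.Tits.Core Cfsg.Agent.Nodes.Reps Cfsg.Agent.Nodes.BNOf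
  Cfsg.Agent.Nodes.RGDChev
  Cfsg.Agent.Nodes.StabComb Cfsg.Agent.Nodes.Bruhat Cfsg.Agent.Nodes.LeviDec
  Cfsg.Agent.ParSys.RootCount Cfsg.Agent.ParSys.RootExc
open Cfsg.Agent.Nodes.RGDFold hiding refl
open Cfsg.Agent.H465.SU Cfsg.Agent.H585.SuOwn Cfsg.Agent.H585.SuTor Cfsg.Agent.H585.SuSel Cfsg.Agent.H585.SuRow
  Cfsg.Agent.H585.SuTw Cfsg.Agent.H585.SuPhi
open Cfsg.Agent.Nodes.RGDTwE6 Cfsg.Agent.GpExc
open Cfsg.Agent.ChevalleyStructure.TwE6Basic (exists_frob)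

/-- the simple root groups -/
theorem card_simple {K : Type} [Field K] [Fintype K] {q : ℕ} {φ : K →+* K} (hφ : ∀ x, φ x = x ^ q)
    (hqq : ∀ t : K, (t ^ q) ^ q = t) (hq : 1 < q) (hK : Fintype.card K = q ^ 2) (i : Fin 4) :
    Nat.card (X φ q (sr i)) = q ^ (if i = 0 ∨ i = 1 then 1 else 2) := by
  have h1 : Nat.card (X φ q (sr i)) =
      Nat.card {x : GL chevE6.Idx K // x ∈ TwE6BN.rs K (TwE6Basic.posE i) ∧ x ∈ twistedE6 K q} := by
    refine Nat.card_congr ⟨fun g => ⟨(g.1 : GL chevE6.Idx K), ((TwNode.mem_X_pos i g.1).1 g.2).1, g.1.2⟩,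
      fun x => ⟨⟨x.1, x.2.2⟩, (TwNode.mem_X_pos i _).2 ⟨x.2.1, TwE6Basic.twisted_le_fix φ hφ hqq x.2.2⟩⟩,
      fun g => rfl, fun x => rfl⟩
  rw [h1]
  fin_cases i
  · exact (TwE6Card.card_single φ hφ hqq hq hK TwE6BN.single0).trans (pow_one q).symm
  · exact (TwE6Card.card_single φ hφ hqq hq hK TwE6BN.single1).trans (pow_one q).symm
  · exact TwE6Card.card_pair φ hφ hqq hK TwE6BN.pair2
  · exact TwE6Card.card_pair φ hφ hqq hK TwE6BN.pair3

/-- exponents of the orders -/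
def w (v : Fin 4 → ℤ) : ℕ := if v 2 % 2 = 0 ∧ v 3 % 2 = 0 then 1 else 2

theorem w_refl : ∀ i, ∀ v ∈ LF4, v ≠ Pi.single i 1 → w (refl A i v) = w v := by decide +kernel

theorem nodup_LF4 : LF4.Nodup := by decide +kernel

theorem own {K : Type} [Field K] [Fintype K] {q : ℕ} (hq : IsPrimePow q) (hK : Fintype.card K = q ^ 2) {r : ℕ}
    (hr : r.Prime) (ho : orderOf (q : ZMod r) = 18) (p : ℕ) [CharP K p] : Own ↥(twistedE6 K q) p r := by
  obtain ⟨φ, hφ, hqq⟩ := exists_frob hq hK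
  have hfp : Fact p.Prime := ⟨CharP.char_is_prime K p⟩
  let cs := CoxeterMatrix.F₄.toCoxeterSystem
  have hW : Finite CoxeterMatrix.F₄.Group := Cfsg.Agent.Nodes.RGDFold.finite_W
    (hp := Cfsg.Agent.Nodes.RGDTwE6.hp) cs isCartan foldData
  have R := rgd cs hφ hqq p
  have cX := card_simple hφ hqq hq.one_lt hK
  have hcV := fun i => SuTw.card_VJ R (L := LF4) posRoots_F4 nodup_LF4 (q := q) w w_refl
    (by
      intro i
      rw [cX i]
      congr 1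
      revert i
      decide +kernel) i
  have hBT : KFacts.RgdCharP.BT cs isCartan p _ (X φ q) :=
    fun K' hK' hK1 => KFacts.RgdFilt.borel_tits_of_filt
      (KFacts.RgdFiltTwAll.filt_fold cs isCartan foldData (foldGrp hφ hqq) p) (G1_eq_top cs hφ hqq) hK' hK1
  intro x hx hC S hS hn
  refine eq_bot_of_normal R hBT hr hx hC (fun i => ?_) hS hn
  rw [hcV i, dvd_pow_sub_one (by have := hq.two_le; omega), ho]
  exact (by decide +kernel : ∀ i : Fin 4, ¬ 18 ∣ ((LF4.filter fun v => 0 < v i).map w).sum) i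

theorem torus {K : Type} [Field K] [Fintype K] {q N : ℕ} (hq : IsPrimePow q) (hK : Fintype.card K = q ^ 2)
    (hN : (N : ℤ) = 1 - (q : ℤ) ^ 3 + (q : ℤ) ^ 6) {r : ℕ} (hr : r.Prime)
    (h7 : 7 < r) (hrN : r ∣ N) :
    ∃ T : Subgroup ↥(twistedE6 K q), IsCyclic ↥T ∧ Nat.card ↥T ∣ 1 * N ∧ 1 * N ∣ Nat.gcd 3 (q + 1) * Nat.card ↥T ∧
      q.Coprime (1 * N) ∧ ∀ y ∈ T, orderOf y = r → Subgroup.centralizer {y} ≤ T := by
  have hrq : (r : ℤ) ∣ 1 - (q : ℤ) ^ 3 + (q : ℤ) ^ 6 := by rw [← hN]; exact Int.natCast_dvd_natCast.2 hrN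
  have hrW : ¬ r ∣ Nat.card CoxeterMatrix.E₆.Group := by
    rw [H129.TwT.card_W6, show (51840 : ℕ) = 2 ^ 7 * 3 ^ 4 * 5 ^ 1 * 7 ^ 0 by norm_num]
    exact not_dvd_of hr h7
  have hG : ∀ s, ¬ (r : ℤ) ∣ H129.TorusTw.Gq H129.DataTE6n.B (q : ℤ) (H129.DataTE6n.R s) := by
    intro s hs
    rcases H129.DataTE6n.dvd_of_G hrq s hs with h1 | h1
    · exact not_dvd_int (m := 1) (by norm_num) (by omega) h1
    · exact not_dvd_int (m := 3) (by norm_num) (by omega) h1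
  have hqN : q.Coprime N := H129.UntwData.coprime_of_eq (a := -(q : ℤ) ^ 2 + (q : ℤ) ^ 5) (by rw [hN]; ring)
  obtain ⟨T, h1, h3, h4, h5, -⟩ := H129.TwT.flip_T hq hK H129.DataTE6n.hA H129.DataTE6n.chainOK H129.DataTE6n.hd_pi
    H129.DataTE6n.cycOK H129.DataTE6n.rootOK H129.DataTE6n.chain2OK H129.DataTE6n.hd2_eq (N := N)
    (by rw [H129.DataTE6n.fN_eq, hN]) hqN
  exact ⟨T, h1, by rwa [one_mul], by rwa [one_mul], by rwa [one_mul], h5 r hr hrW hG⟩

theorem dim : Fintype.card chevE6.Idx = 78 := by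
  show Fintype.card (Fin _ ⊕ Fin _) = 78
  rw [Fintype.card_sum, Fintype.card_fin, Fintype.card_fin]
  decide +kernel

theorem not_dvd_gcd {r q : ℕ} (h7 : 7 < r) : ¬ r ∣ Nat.gcd 3 (q + 1) := fun h => by
  have h1 := Nat.le_of_dvd (Nat.gcd_pos_of_pos_left _ (by norm_num)) h
  have h2 := Nat.le_of_dvd (by norm_num) (Nat.gcd_dvd_left 3 (q + 1))
  omega

/-- the small fields -/
theorem small {K : Type} [Field K] [Fintype K] {q N r m : ℕ} {L : List (ℕ × ℕ)} {p : ℕ} (hq : IsPrimePow q)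
    (hK : Fintype.card K = q ^ 2) (hN : (N : ℤ) = 1 - (q : ℤ) ^ 3 + (q : ℤ) ^ 6)
    (hr : r.Prime) (h7 : 7 < r) (hrN : r ∣ N) (hrN2 : ¬ r ^ 2 ∣ N) (hf : ∃ p f : ℕ, p.Prime ∧ q = p ^ f ∧ ¬ r ∣ f)
    (hm0 : m * (q ^ 36 * (q ^ 2 - 1) * (q ^ 5 + 1) * (q ^ 6 - 1) * (q ^ 8 - 1) * (q ^ 9 + 1) * (q ^ 12 - 1)) = pp L)
    (hprime : ∀ x ∈ L, x.1.Prime) (hnodup : (L.map Prod.fst).Nodup) (hp : p.Prime) (hpq : p ∣ q)
    (hchk : Chk r p L) : RowE ↥(twistedE6 K q) q 18 := by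
  obtain ⟨T, h1, h2, h3, h4, h5⟩ := torus hq hK hN hr h7 hrN
  have ho : orderOf (q : ZMod r) = 18 := by
    rcases ord18 hN r hr hrN with h | h
    · exact h
    · omega
  refine SuTw.row_small_of 18 hK hr (by omega) hrN hrN2 hf h1 h5 (fun h => hr.one_lt.ne' (Nat.dvd_one.1 h)) h2 h3
    (not_dvd_gcd h7) h4 (fun p _ => own hq hK hr ho p) (L := L) (m := m * Nat.gcd 3 (q + 1))
    ?_ hprime hnodup hp hpq hchk
  have h := Cfsg.Agent.S1066.result hq hK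
  rw [show m * Nat.gcd 3 (q + 1) * Nat.card ↥(twistedE6 K q) = m * (Nat.gcd 3 (q + 1) * Nat.card ↥(twistedE6 K q)) by ring, h]
  exact hm0

theorem resultE {K : Type} [Field K] [Fintype K] {q : ℕ} (hq : IsPrimePow q) (hK : Fintype.card K = q ^ 2) :
    RowE ↥(twistedE6 K q) q 18 := by
  have hq2 : 2 ≤ q := hq.two_le
  have hle : q ^ 3 ≤ q ^ 6 := Nat.pow_le_pow_right (by omega) (by norm_num)
  obtain ⟨N, hNdef⟩ : ∃ N, N = q ^ 6 - q ^ 3 + 1 := ⟨_, rfl⟩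
  have hN : (N : ℤ) = 1 - (q : ℤ) ^ 3 + (q : ℤ) ^ 6 := by rw [hNdef]; push_cast [Nat.cast_sub hle]; ring
  rcases sel_pp (d := 78) (B := 153957) hq (by norm_num) (by norm_num) (by omega) (ord18 hN) (sq18 hN) (dvd18 hN)
    (by decide +kernel) (by norm_num) with ⟨r, a, hr, ha, ho, haN, haN', hd, hf⟩ | hB
  · obtain ⟨hmod, h6⟩ := mod_eq_one hr (by norm_num) ho
    obtain ⟨T, h1, h2, h3, h4, h5⟩ := torus hq hK hN hr (by omega) (dvd18 hN r hr ho)
    exact SuTw.row_of hK hr (by omega) ha ho haN haN' (by rw [dim]; exact hd) hf h1 h5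
      (fun h => hr.one_lt.ne' (Nat.dvd_one.1 h)) h2 h3 (not_dvd_gcd (by omega)) h4
      (fun p _ => own hq hK hr ho p)
  · have hq4 : q ≤ 7 := by
      have := Nat.le_of_dvd (by norm_num) hB
      by_contra h
      push Not at h
      have h2 : 8 ^ 3 * q ^ 3 ≤ q ^ 3 * q ^ 3 := Nat.mul_le_mul_right _ (Nat.pow_le_pow_left h 3)
      have h3 : 8 ^ 3 ≤ q ^ 3 := Nat.pow_le_pow_left h 3
      have h4 : q ^ 6 = q ^ 3 * q ^ 3 := by ring
      omega
    subst hNdef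
    have hcases : q = 2 ∨ q = 3 := by
      clear hN hK hle hq
      interval_cases q <;> revert hB <;> norm_num
    rcases hcases with rfl | rfl
    · exact small (r := 19) (m := 1) (L := [(2, 36), (3, 10), (5, 2), (7, 2), (11, 1), (13, 1), (17, 1), (19, 1)]) (p := 2) hq hK hN (by norm_num) (by norm_num)
        (by norm_num) (by norm_num) ⟨2, 1, by norm_num, by norm_num, by norm_num⟩ (by decide +kernel) (by norm_num)
        (by decide) (by norm_num) (by norm_num) (by decide +kernel)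
    · exact small (r := 37) (m := 1) (L := [(2, 19), (3, 36), (5, 2), (7, 3), (13, 2), (19, 1), (37, 1), (41, 1), (61, 1), (73, 1)]) (p := 3) hq hK hN (by norm_num) (by norm_num)
        (by norm_num) (by norm_num) ⟨3, 1, by norm_num, by norm_num, by norm_num⟩ (by decide +kernel) (by norm_num)
        (by decide) (by norm_num) (by norm_num) (by decide +kernel)

theorem result {K : Type} [Field K] [Fintype K] {q : ℕ} (hq : IsPrimePow q) (hK : Fintype.card K = q ^ 2) :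
    Row ↥(twistedE6 K q) q := (resultE hq hK).row

end Cfsg.Agent.H585.SuTE6
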