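import Mathlib
import Cfsg.Prelude.Def_KGroupFacts
import Cfsg.Agent.H465.SU

/-!
# The data at one prime used for S4384 (helper585)

* `InnAt K r` : every automorphism of `r`-power order is inner; `InnAt.of_out`, `InnAt.congr`;
* `Wit K r x` : some element of prime power order `p^k`, `p ≠ r`, generates with `x` a non-solvable subgroup;
* `GoodAt K r a y`, `HasGood K`, `HasGood.congr`, `Wit.of_one` (automatic if `y` has prime order).
-/

set_option autoImplicit false
set_option linter.unusedSectionVars false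

namespace Cfsg.Agent.H585.Good

open Cfsg.Agent.H465.SU

/-- every automorphism of `r`-power order is inner -/
def InnAt (K : Type*) [Group K] (r : ℕ) : Prop :=
  ∀ β : MulAut K, (∃ k, orderOf β = r ^ k) → β ∈ (MulAut.conj : K →* MulAut K).range

/-- a partner of `x` of prime power order prime to `r` -/
def Wit (K : Type*) [Group K] (r : ℕ) (x : K) : Prop :=
  ∃ (p : ℕ) (c : K), p.Prime ∧ p ≠ r ∧ (∃ k, orderOf c = p ^ k) ∧
    ¬ Group.IsSolvable (Subgroup.closure ({x, c} : Set K))

/-- the data at the prime `r` -/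
structure GoodAt (K : Type*) [Group K] (r a : ℕ) (y : K) : Prop where
  prime : r.Prime
  odd : r ≠ 2
  pos : 1 ≤ a
  ord : orderOf y = r ^ a
  syl : ¬ r ^ (a + 1) ∣ Nat.card K
  su : SUel r y
  inn : InnAt K r
  wit : Wit K r (y ^ r ^ (a - 1))

/-- there is a good prime -/
def HasGood (K : Type*) [Group K] : Prop := ∃ (r a : ℕ) (y : K), GoodAt K r a y

section

variable {K : Type*} [Group K] {L : Type*} [Group L]

theorem InnAt.congr {r : ℕ} (h : InnAt K r) (e : K ≃* L) : InnAt L r := by
  rintro β ⟨k, hk⟩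
  have hb : orderOf (MulAut.congr e.symm β) = r ^ k := by rw [MulEquiv.orderOf_eq, hk]
  obtain ⟨g, hg⟩ := h _ ⟨k, hb⟩
  refine ⟨e g, ?_⟩
  ext l
  have h1 := DFunLike.congr_fun hg (e.symm l)
  have h2 : g * e.symm l * g⁻¹ = e.symm (β (e (e.symm l))) := h1
  rw [e.apply_symm_apply] at h2
  show e g * l * (e g)⁻¹ = β l
  have h3 := congrArg e h2
  rw [map_mul, map_mul, map_inv, e.apply_symm_apply, e.apply_symm_apply] at h3
  exact h3

/-- `r ∤ |Out K|` -/
theorem InnAt.of_out [Finite K] {r : ℕ} (hr : r.Prime) (h : ¬ r ∣ Nat.card (Cfsg.Out K)) : InnAt K r := by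
  rintro β ⟨k, hk⟩
  have h1 : orderOf (QuotientGroup.mk' (Cfsg.Inn K) β) = 1 := by
    have h2 : orderOf (QuotientGroup.mk' (Cfsg.Inn K) β) ∣ r ^ k := by
      rw [← hk]
      exact orderOf_map_dvd _ _
    have h3 : orderOf (QuotientGroup.mk' (Cfsg.Inn K) β) ∣ Nat.card (Cfsg.Out K) := orderOf_dvd_natCard _
    have h4 : Nat.Coprime (r ^ k) (Nat.card (Cfsg.Out K)) :=
      Nat.Coprime.pow_left _ ((Nat.Prime.coprime_iff_not_dvd hr).2 h)
    exact Nat.dvd_one.1 (h4 ▸ Nat.dvd_gcd h2 h3)
  rw [orderOf_eq_one_iff, QuotientGroup.mk'_apply, QuotientGroup.eq_one_iff] at h1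
  exact h1

theorem Wit.congr {r : ℕ} {x : K} (h : Wit K r x) (e : K ≃* L) : Wit L r (e x) := by
  obtain ⟨p, c, hp, hpr, ⟨k, hk⟩, hns⟩ := h
  refine ⟨p, e c, hp, hpr, ⟨k, by rw [MulEquiv.orderOf_eq, hk]⟩, fun hs => hns ?_⟩
  have h1 : (Subgroup.closure ({x, c} : Set K)).map e.toMonoidHom = Subgroup.closure ({e x, e c} : Set L) := by
    rw [MonoidHom.map_closure, Set.image_pair]; rfl
  have e1 := (Subgroup.closure ({x, c} : Set K)).equivMapOfInjective e.toMonoidHom e.injective
  rw [h1] at e1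
  exact Group.isSolvable_of_isSolvable_injective (f := e1.toMonoidHom) e1.injective

theorem GoodAt.congr {r a : ℕ} {y : K} (h : GoodAt K r a y) (e : K ≃* L) : GoodAt L r a (e y) where
  prime := h.prime
  odd := h.odd
  pos := h.pos
  ord := by rw [MulEquiv.orderOf_eq, h.ord]
  syl := by rw [← Nat.card_congr e.toEquiv]; exact h.syl
  su := h.su.congr e
  inn := h.inn.congr e
  wit := by rw [← map_pow]; exact h.wit.congr e

theorem HasGood.congr (h : HasGood K) (e : K ≃* L) : HasGood L := by
  obtain ⟨r, a, y, hy⟩ := h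
  exact ⟨r, a, e y, hy.congr e⟩

/-- the partner exists if the solvably unique element has prime order -/
theorem Wit.of_one [Finite K] [IsSimpleGroup K] {r : ℕ} (hr : r.Prime) {y : K} (hy : orderOf y = r)
    (hsu : SUel r y) (hK : ¬ IsMulCommutative K) : Wit K r y := by
  classical
  by_contra hcon
  have hall : ∀ (p : ℕ) (c : K), p.Prime → p ≠ r → (∃ k, orderOf c = p ^ k) →
      Group.IsSolvable (Subgroup.closure ({y, c} : Set K)) := by
    intro p c hp hpr hc
    by_contra hns
    exact hcon ⟨p, c, hp, hpr, hc, hns⟩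
  -- such elements normalise `⟨y⟩`
  have hcard : Nat.card (Subgroup.zpowers y) = r := by rw [Nat.card_zpowers, hy]
  have hnorm : ∀ (p : ℕ) (c : K), p.Prime → p ≠ r → (∃ k, orderOf c = p ^ k) →
      c ∈ Subgroup.normalizer (Subgroup.zpowers y : Set K) := by
    intro p c hp hpr hc
    have hs := hall p c hp hpr hc
    have hyM : y ∈ Subgroup.closure ({y, c} : Set K) := Subgroup.subset_closure (by simp)
    have hcM : c ∈ Subgroup.closure ({y, c} : Set K) := Subgroup.subset_closure (by simp)
    have h1 : (Subgroup.zpowers y).map (MulAut.conj c).toMonoidHom ≤ Subgroup.closure ({y, c} : Set K) := by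
      rw [MonoidHom.map_zpowers, Subgroup.zpowers_le]
      exact mul_mem (mul_mem hcM hyM) (inv_mem hcM)
    have h2 := hsu.2.2 _ hs hyM _ _ h1 (Subgroup.zpowers_le.2 hyM)
      (by rw [Subgroup.card_map_of_injective (f := (MulAut.conj c).toMonoidHom) (MulAut.conj c).injective, hcard]) hcard
    rw [Subgroup.mem_normalizer_iff_map_conj_eq]
    exact h2
  -- the group generated by them
  let S : Set K := {c | ∃ p, p.Prime ∧ p ≠ r ∧ ∃ k, orderOf c = p ^ k}
  have hNn : Subgroup.normalClosure S ≤ Subgroup.normalizer (Subgroup.zpowers y : Set K) := by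
    refine (Subgroup.closure_le _).2 ?_
    intro c hc
    obtain ⟨b, ⟨p, hp, hpr, k, hk⟩, hbc⟩ := Group.mem_conjugatesOfSet_iff.1 hc
    refine hnorm p c hp hpr ⟨k, ?_⟩
    obtain ⟨g, rfl⟩ := isConj_iff.1 hbc
    have e : g * b * g⁻¹ = MulAut.conj g b := rfl
    rw [e, MulEquiv.orderOf_eq, hk]
  have hyne : y ≠ 1 := hsu.1
  have hcomm : ∀ {M : Subgroup K}, M = ⊤ → (∀ a ∈ M, ∀ b ∈ M, a * b = b * a) → False := by
    intro M hM h1
    apply hK
    subst hM
    exact ⟨⟨fun a b => h1 a trivial b trivial⟩⟩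
  rcases (Subgroup.normalClosure_normal (s := S)).eq_bot_or_eq_top with h1 | h1
  · -- `K` is an `r`-group
    have hrf : Fact r.Prime := ⟨hr⟩
    have hKr : IsPGroup r K := by
      intro g
      refine ⟨(Nat.card K).primeFactorsList.length, ?_⟩
      have h2 : Nat.card K = r ^ (Nat.card K).primeFactorsList.length := by
        refine Nat.eq_prime_pow_of_unique_prime_dvd Nat.card_pos.ne' ?_
        intro p hp hpK
        by_contra hpr
        have : Fact p.Prime := ⟨hp⟩
        obtain ⟨c, hc⟩ := exists_prime_orderOf_dvd_card' p hpK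
        have h3 : c ∈ Subgroup.normalClosure S :=
          Subgroup.subset_normalClosure ⟨p, hp, hpr, 1, by rw [hc, pow_one]⟩
        rw [h1, Subgroup.mem_bot] at h3
        rw [h3, orderOf_one] at hc
        exact hp.one_lt.ne hc
      rw [← h2]
      exact pow_card_eq_one'
    have hnt := hKr.center_nontrivial
    rcases (inferInstance : (Subgroup.center K).Normal).eq_bot_or_eq_top with h2 | h2
    · rw [h2] at hnt
      exact not_nontrivial _ hnt
    · exact hcomm h2 fun a _ b hb => (Subgroup.mem_center_iff.1 hb a)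
  · rw [h1, top_le_iff, Subgroup.normalizer_eq_top_iff] at hNn
    rcases hNn.eq_bot_or_eq_top with h2 | h2
    · exact hyne (Subgroup.zpowers_eq_bot.1 h2)
    · refine hcomm h2 fun a ha b hb => ?_
      obtain ⟨i, rfl⟩ := Subgroup.mem_zpowers_iff.1 ha
      obtain ⟨j, rfl⟩ := Subgroup.mem_zpowers_iff.1 hb
      rw [← zpow_add, ← zpow_add, add_comm]

end

end Cfsg.Agent.H585.Good
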