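import Mathlib
import Cfsg.Agent.H585.Good
import Cfsg.Agent.OddOrderLocal.CyclicSub

/-!
# Consequences of the data at a good prime (helper585, for S4384)

* `exists_ns` : for `β ≠ 1` some conjugate `z` of `y` generates with `β` a non-solvable subgroup of `Aut K`;
* `GoodAt.of_order` : every element of order `r^a` is good;
* `GoodAt.wit_of_order` : every element of order `r` has a partner.
-/

set_option autoImplicit false
set_option linter.unusedSectionVars false

namespace Cfsg.Agent.H585.FacOne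

open Cfsg.Agent.H465.SU Cfsg.Agent.H585.Good

variable {K : Type*} [Group K]

theorem solvable_mono {G : Type*} [Group G] {H L : Subgroup G} (h : H ≤ L) (hL : Group.IsSolvable L) :
    Group.IsSolvable H :=
  Group.isSolvable_of_isSolvable_injective (f := Subgroup.inclusion h) (Subgroup.inclusion_injective h)

theorem solvable_map {G H : Type*} [Group G] [Group H] {S : Subgroup G} (hS : Group.IsSolvable S) (f : G →* H) :
    Group.IsSolvable (S.map f) :=
  Group.isSolvable_of_surjective (f := f.subgroupMap S) (MonoidHom.subgroupMap_surjective _ _)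

theorem center_eq_bot [IsSimpleGroup K] (hK : ¬ IsMulCommutative K) : Subgroup.center K = ⊥ := by
  rcases (inferInstance : (Subgroup.center K).Normal).eq_bot_or_eq_top with h1 | h1
  · exact h1
  · exfalso
    apply hK
    refine ⟨⟨fun a b => ?_⟩⟩
    have ha : b ∈ Subgroup.center K := by rw [h1]; trivial
    exact Subgroup.mem_center_iff.1 ha a

theorem conj_injective (hcen : Subgroup.center K = ⊥) : Function.Injective (MulAut.conj : K →* MulAut K) := by
  rw [← MonoidHom.ker_eq_bot_iff, eq_bot_iff, ← hcen]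
  intro z hz
  rw [Subgroup.mem_center_iff]
  intro l
  have h1 : MulAut.conj z l = l := by rw [MonoidHom.mem_ker.1 hz]; rfl
  rw [MulAut.conj_apply] at h1
  calc l * z = (z * l * z⁻¹) * z := by rw [h1]
    _ = z * l := by group

theorem solvable_of_conj (hcen : Subgroup.center K = ⊥) {a b : K}
    (h : Group.IsSolvable (Subgroup.closure ({MulAut.conj a, MulAut.conj b} : Set (MulAut K)))) :
    Group.IsSolvable (Subgroup.closure ({a, b} : Set K)) := by
  have h4 : (Subgroup.closure ({a, b} : Set K)).map (MulAut.conj : K →* MulAut K) =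
      Subgroup.closure ({MulAut.conj a, MulAut.conj b} : Set (MulAut K)) := by
    rw [MonoidHom.map_closure, Set.image_pair]
  rw [← h4] at h
  exact Group.isSolvable_of_isSolvable_injective
    (f := ((Subgroup.closure ({a, b} : Set K)).equivMapOfInjective _ (conj_injective hcen)).toMonoidHom)
    (MulEquiv.injective _)

/-- `SUel` depends only on the subgroup generated -/
theorem SUel.of_zpowers [Finite K] {r : ℕ} {y s : K} (h : SUel r y)
    (hz : Subgroup.zpowers y = Subgroup.zpowers s) : SUel r s := by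
  obtain ⟨hy1, ⟨k, hk⟩, hu⟩ := h
  refine ⟨?_, ⟨k, ?_⟩, ?_⟩
  · rintro rfl
    rw [Subgroup.zpowers_one_eq_bot, Subgroup.zpowers_eq_bot] at hz
    exact hy1 hz
  · rw [← Nat.card_zpowers, ← hz, Nat.card_zpowers, hk]
  · intro M hM hsM A B hA hB hAc hBc
    refine hu M hM ?_ A B hA hB hAc hBc
    have h1 : Subgroup.zpowers s ≤ M := Subgroup.zpowers_le.2 hsM
    rw [← hz] at h1
    exact h1 (Subgroup.mem_zpowers y)

/-- `Wit` depends only on the subgroup generated -/
theorem Wit.of_zpowers {r : ℕ} {x z : K} (h : Wit K r x) (hz : x ∈ Subgroup.zpowers z) : Wit K r z := by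
  obtain ⟨p, c, hp, hpr, hc, hns⟩ := h
  refine ⟨p, c, hp, hpr, hc, fun hs => hns (solvable_mono ?_ hs)⟩
  rw [Subgroup.closure_le]
  rintro g (rfl | rfl)
  · have h1 : Subgroup.zpowers z ≤ Subgroup.closure ({z, c} : Set K) :=
      Subgroup.zpowers_le.2 (Subgroup.subset_closure (by simp))
    exact h1 hz
  · exact Subgroup.subset_closure (by simp)

theorem exists_ns0 [Finite K] [IsSimpleGroup K] (hK : ¬ IsMulCommutative K) {r : ℕ} (hr : r.Prime) {y : K}
    (hsu : SUel r y) {β : MulAut K} (hβ : β ≠ 1) :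
    ∃ g : K, ¬ Group.IsSolvable (Subgroup.closure ({g * y * g⁻¹, β (g * y * g⁻¹)} : Set K)) := by
  obtain ⟨hy1, ⟨k, hk⟩, hu⟩ := hsu
  have : Fact r.Prime := ⟨hr⟩
  have hk1 := one_le_of hy1 hk
  by_contra hcon
  push Not at hcon
  apply hβ
  set A := Subgroup.zpowers (y ^ r ^ (k - 1)) with hA
  have hAc : Nat.card A = r := card_socle hk hk1
  have hyA : A ≤ Subgroup.zpowers y := Subgroup.zpowers_le.2 (Subgroup.npow_mem_zpowers _ _)
  have hAbot : A ≠ ⊥ := by
    intro h
    rw [h, Subgroup.card_bot] at hAc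
    exact hr.one_lt.ne hAc
  have hAtop : A ≠ ⊤ := by
    intro h
    apply hK
    have hc : ∀ a b : K, a * b = b * a := by
      intro a b
      have ha : a ∈ A := by rw [h]; trivial
      have hb : b ∈ A := by rw [h]; trivial
      obtain ⟨i, rfl⟩ := Subgroup.mem_zpowers_iff.1 ha
      obtain ⟨j, rfl⟩ := Subgroup.mem_zpowers_iff.1 hb
      rw [← zpow_add, ← zpow_add, add_comm]
    exact ⟨⟨hc⟩⟩
  refine eq_one_of_normalises (A := A) (fun hn => ?_) fun g => ?_
  · rcases hn.eq_bot_or_eq_top with h | h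
    · exact hAbot h
    · exact hAtop h
  · have h1 := hcon g
    set M := Subgroup.closure ({g * y * g⁻¹, β (g * y * g⁻¹)} : Set K) with hM
    have hM' : Group.IsSolvable (M.map (MulAut.conj g⁻¹).toMonoidHom) := solvable_map h1 _
    have hyM : y ∈ M.map (MulAut.conj g⁻¹).toMonoidHom := by
      refine ⟨g * y * g⁻¹, Subgroup.subset_closure (by simp), ?_⟩
      simp [mul_assoc]
    have hle1 : A.map (MulAut.conj g).toMonoidHom ≤ M := by
      rintro _ ⟨z, hz, rfl⟩
      obtain ⟨i, rfl⟩ := Subgroup.mem_zpowers_iff.1 (hyA hz)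
      have h2 : g * y * g⁻¹ ∈ M := Subgroup.subset_closure (by simp)
      have h3 : (MulAut.conj g).toMonoidHom (y ^ i) = (g * y * g⁻¹) ^ i := by
        show g * y ^ i * g⁻¹ = _
        rw [conj_zpow]
      rw [h3]
      exact Subgroup.zpow_mem _ h2 i
    have hle2 : (A.map (MulAut.conj g).toMonoidHom).map β.toMonoidHom ≤ M := by
      rintro _ ⟨_, ⟨z, hz, rfl⟩, rfl⟩
      obtain ⟨i, rfl⟩ := Subgroup.mem_zpowers_iff.1 (hyA hz)
      have h2 : β (g * y * g⁻¹) ∈ M := Subgroup.subset_closure (by simp)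
      have h3 : β.toMonoidHom ((MulAut.conj g).toMonoidHom (y ^ i)) = (β (g * y * g⁻¹)) ^ i := by
        show β (g * y ^ i * g⁻¹) = _
        rw [← map_zpow, conj_zpow]
      rw [h3]
      exact Subgroup.zpow_mem _ h2 i
    have hcard : ∀ B : Subgroup K, ∀ e : MulAut K, Nat.card (B.map e.toMonoidHom) = Nat.card B := fun B e =>
      Subgroup.card_map_of_injective e.injective
    have h4 := hu _ hM' hyM _ _ (Subgroup.map_mono (f := (MulAut.conj g⁻¹).toMonoidHom) hle1)
      (Subgroup.map_mono (f := (MulAut.conj g⁻¹).toMonoidHom) hle2) (by rw [hcard, hcard, hAc])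
      (by rw [hcard, hcard, hcard, hAc])
    exact (Subgroup.map_injective (f := (MulAut.conj g⁻¹).toMonoidHom) (MulAut.conj g⁻¹).injective h4).symm

/-- **a nontrivial automorphism and a conjugate of the solvably unique element** -/
theorem exists_ns [Finite K] [IsSimpleGroup K] (hK : ¬ IsMulCommutative K) {r : ℕ} (hr : r.Prime) {y : K}
    (hsu : SUel r y) {β : MulAut K} (hβ : β ≠ 1) :
    ∃ g : K, ¬ Group.IsSolvable
      (Subgroup.closure ({MulAut.conj (g * y * g⁻¹), β} : Set (MulAut K))) := by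
  obtain ⟨g, hg⟩ := exists_ns0 hK hr hsu hβ
  refine ⟨g, fun hs => hg ?_⟩
  refine solvable_of_conj (center_eq_bot hK) (solvable_mono ?_ hs)
  rw [Subgroup.closure_le]
  rintro z (rfl | rfl)
  · exact Subgroup.subset_closure (by simp)
  · have e : (MulAut.conj (β (g * y * g⁻¹)) : MulAut K) = β * MulAut.conj (g * y * g⁻¹) * β⁻¹ := by
      ext l
      simp
    rw [e]
    exact mul_mem (mul_mem (Subgroup.subset_closure (by simp)) (Subgroup.subset_closure (by simp)))
      (inv_mem (Subgroup.subset_closure (by simp)))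

/-- `⟨y⟩` is a Sylow subgroup -/
theorem exists_sylow [Finite K] {r a : ℕ} [Fact r.Prime] {y : K} (hy : orderOf y = r ^ a)
    (hc : ¬ r ^ (a + 1) ∣ Nat.card K) : ∃ P : Sylow r K, (P : Subgroup K) = Subgroup.zpowers y := by
  have hr : r.Prime := Fact.out
  obtain ⟨P, hP⟩ := (IsPGroup.of_card (p := r) (n := a) (by rw [Nat.card_zpowers, hy]) :
    IsPGroup r (Subgroup.zpowers y)).exists_le_sylow
  refine ⟨P, (Subgroup.eq_of_le_of_card_ge hP ?_).symm⟩
  obtain ⟨b, hb⟩ := IsPGroup.iff_card.1 P.isPGroup'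
  rw [Nat.card_zpowers, hy, hb]
  refine Nat.pow_le_pow_right hr.pos ?_
  by_contra h
  apply hc
  refine (pow_dvd_pow r (show a + 1 ≤ b by omega)).trans ?_
  rw [← hb]
  exact Subgroup.card_subgroup_dvd_card _

/-- a subgroup of order a power of `r` containing `s` is conjugate into `⟨y⟩` -/
theorem exists_conj [Finite K] {r a : ℕ} [Fact r.Prime] {y : K} (hy : orderOf y = r ^ a)
    (hc : ¬ r ^ (a + 1) ∣ Nat.card K) {s : K} {b : ℕ} (hs : orderOf s = r ^ b) :
    ∃ h : K, s ∈ Subgroup.zpowers (h * y * h⁻¹) := by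
  obtain ⟨P, hP⟩ := exists_sylow hy hc
  obtain ⟨P', hP'⟩ := (IsPGroup.of_card (p := r) (n := b) (by rw [Nat.card_zpowers, hs]) :
    IsPGroup r (Subgroup.zpowers s)).exists_le_sylow
  obtain ⟨h, hh⟩ := MulAction.exists_smul_eq K P P'
  refine ⟨h, ?_⟩
  have h1 : s ∈ (P' : Subgroup K) := hP' (Subgroup.mem_zpowers s)
  rw [← hh] at h1
  have h2 : s ∈ (P : Subgroup K).map (MulAut.conj h).toMonoidHom := h1
  rw [hP, MonoidHom.map_zpowers] at h2
  exact h2

variable {r a : ℕ} {y : K}

theorem _root_.Cfsg.Agent.H585.Good.GoodAt.of_order [Finite K] (h : GoodAt K r a y) {s : K}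
    (hs : orderOf s = r ^ a) : GoodAt K r a s := by
  have hrf : Fact r.Prime := ⟨h.prime⟩
  obtain ⟨g, hg⟩ := exists_conj h.ord h.syl hs
  have h1 : GoodAt K r a (g * y * g⁻¹) := h.congr (MulAut.conj g)
  set z := g * y * g⁻¹ with hz
  have hzs : Subgroup.zpowers z = Subgroup.zpowers s := by
    symm
    refine Subgroup.eq_of_le_of_card_ge (Subgroup.zpowers_le.2 hg) ?_
    rw [Nat.card_zpowers, Nat.card_zpowers, h1.ord, hs]
  refine ⟨h.prime, h.odd, h.pos, hs, h.syl, SUel.of_zpowers h1.su hzs, h.inn, ?_⟩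
  refine Wit.of_zpowers h1.wit ?_
  have h2 : z ∈ Subgroup.zpowers s := by rw [← hzs]; exact Subgroup.mem_zpowers z
  obtain ⟨i, hi⟩ := Subgroup.mem_zpowers_iff.1 h2
  rw [Subgroup.mem_zpowers_iff]
  refine ⟨i, ?_⟩
  rw [← hi, ← zpow_natCast, ← zpow_natCast, ← zpow_mul, ← zpow_mul, mul_comm]

theorem _root_.Cfsg.Agent.H585.Good.GoodAt.wit_of_order [Finite K] (h : GoodAt K r a y) {s : K}
    (hs : orderOf s = r) : Wit K r s := by
  have hrf : Fact r.Prime := ⟨h.prime⟩
  obtain ⟨g, hg⟩ := exists_conj h.ord h.syl (b := 1) (by rw [hs, pow_one])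
  have h1 : GoodAt K r a (g * y * g⁻¹) := h.congr (MulAut.conj g)
  set z := g * y * g⁻¹ with hz
  refine Wit.of_zpowers h1.wit ?_
  have h2 : Subgroup.zpowers s = Subgroup.zpowers (z ^ r ^ (a - 1)) := by
    refine Cfsg.Agent.OddOrderLocal.CyclicSub.eq_of_card_eq_of_le_cyclic (Z := Subgroup.zpowers z) inferInstance
      (Subgroup.zpowers_le.2 hg) (Subgroup.zpowers_le.2 (Subgroup.npow_mem_zpowers _ _)) ?_
    rw [Nat.card_zpowers, hs, card_socle h1.ord h.pos]
  rw [h2]
  exact Subgroup.mem_zpowers _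

/-- the elements of order `r` exist inside -/
theorem _root_.Cfsg.Agent.H585.Good.GoodAt.dvd_card [Finite K] (h : GoodAt K r a y) : r ^ a ∣ Nat.card K := by
  rw [← h.ord]
  exact orderOf_dvd_natCard y

end Cfsg.Agent.H585.FacOne
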