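import Mathlib
import Cfsg.Agent.H585.FacOne

/-!
# The weak form of the data at a good prime (helper585, for S4384)

* `GoodW K r a y`, `HasGoodW K`, `.congr`;
* `GoodAt.toW`, `HasGood.toW`;
* `GoodW.of_exc` : the case of a Sylow subgroup of prime order (the partner is automatic);
* `GoodW.of_order`, `GoodW.wit_of_order` : all elements of order `r^a`, resp. `r`.
-/

set_option autoImplicit false
set_option linter.unusedSectionVars false

namespace Cfsg.Agent.H585.GW

open Cfsg.Agent.H465.SU Cfsg.Agent.H585.Good Cfsg.Agent.H585.FacOne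

/-- the data at the prime `r`, weak form -/
structure GoodW (K : Type*) [Group K] (r a : ℕ) (y : K) : Prop where
  prime : r.Prime
  pos : 1 ≤ a
  ord : orderOf y = r ^ a
  syl : ¬ r ^ (a + 1) ∣ Nat.card K
  inn : InnAt K r
  ns : ∀ β : MulAut K, (orderOf β).Prime → ∃ g : K, ¬ Group.IsSolvable
    (Subgroup.closure ({MulAut.conj (g * y * g⁻¹), β} : Set (MulAut K)))
  wit : Wit K r (y ^ r ^ (a - 1))

/-- there is a good prime, weak form -/
def HasGoodW (K : Type*) [Group K] : Prop := ∃ (r a : ℕ) (y : K), GoodW K r a y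

variable {K : Type*} [Group K] {L : Type*} [Group L]

theorem solvable_map_equiv {G H : Type*} [Group G] [Group H] (e : G ≃* H) {S : Set G}
    (h : Group.IsSolvable (Subgroup.closure (e '' S))) : Group.IsSolvable (Subgroup.closure S) := by
  have h1 : (Subgroup.closure S).map e.toMonoidHom = Subgroup.closure (e '' S) := by
    rw [MonoidHom.map_closure]; rfl
  rw [← h1] at h
  exact Group.isSolvable_of_isSolvable_injective
    (f := ((Subgroup.closure S).equivMapOfInjective e.toMonoidHom e.injective).toMonoidHom)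
    (MulEquiv.injective _)

theorem congr_conj (e : K ≃* L) (x : K) : MulAut.congr e (MulAut.conj x) = MulAut.conj (e x) := by
  ext l
  show e (x * e.symm l * x⁻¹) = e x * l * (e x)⁻¹
  rw [map_mul, map_mul, map_inv, e.apply_symm_apply]

theorem GoodW.congr {r a : ℕ} {y : K} (h : GoodW K r a y) (e : K ≃* L) : GoodW L r a (e y) where
  prime := h.prime
  pos := h.pos
  ord := by rw [MulEquiv.orderOf_eq, h.ord]
  syl := by rw [← Nat.card_congr e.toEquiv]; exact h.syl
  inn := h.inn.congr e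
  ns := by
    intro β hβ
    have hb : (orderOf (MulAut.congr e.symm β)).Prime := by rw [MulEquiv.orderOf_eq]; exact hβ
    obtain ⟨g, hg⟩ := h.ns _ hb
    refine ⟨e g, fun hs => hg ?_⟩
    refine solvable_map_equiv (MulAut.congr e) ?_
    have h1 : MulAut.congr e (MulAut.congr e.symm β) = β := by
      ext l
      show e (e.symm (β (e (e.symm l)))) = β l
      rw [e.apply_symm_apply, e.apply_symm_apply]
    have h2 : e (g * y * g⁻¹) = e g * e y * (e g)⁻¹ := by rw [map_mul, map_mul, map_inv]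
    rw [Set.image_pair, congr_conj, h1, h2]
    exact hs
  wit := by rw [← map_pow]; exact h.wit.congr e

theorem HasGoodW.congr (h : HasGoodW K) (e : K ≃* L) : HasGoodW L := by
  obtain ⟨r, a, y, hy⟩ := h
  exact ⟨r, a, e y, hy.congr e⟩

theorem _root_.Cfsg.Agent.H585.Good.GoodAt.toW [Finite K] [IsSimpleGroup K] (hK : ¬ IsMulCommutative K)
    {r a : ℕ} {y : K} (h : GoodAt K r a y) : GoodW K r a y :=
  ⟨h.prime, h.pos, h.ord, h.syl, h.inn, fun β hβ => exists_ns hK h.prime h.su (by
    rintro rfl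
    rw [orderOf_one] at hβ
    exact Nat.not_prime_one hβ), h.wit⟩

theorem _root_.Cfsg.Agent.H585.Good.HasGood.toW [Finite K] [IsSimpleGroup K] (hK : ¬ IsMulCommutative K)
    (h : HasGood K) : HasGoodW K := by
  obtain ⟨r, a, y, hy⟩ := h
  exact ⟨r, a, y, hy.toW hK⟩

/-- a simple group is not an `r`-group -/
theorem exists_prime_ne [Finite K] [IsSimpleGroup K] (hK : ¬ IsMulCommutative K) (r : ℕ) (hr : r.Prime) :
    ∃ p, p.Prime ∧ p ≠ r ∧ p ∣ Nat.card K := by
  by_contra hcon
  push Not at hcon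
  have hrf : Fact r.Prime := ⟨hr⟩
  have hKr : IsPGroup r K := by
    intro g
    refine ⟨(Nat.card K).primeFactorsList.length, ?_⟩
    have h2 : Nat.card K = r ^ (Nat.card K).primeFactorsList.length := by
      refine Nat.eq_prime_pow_of_unique_prime_dvd Nat.card_pos.ne' ?_
      intro p hp hpK
      by_contra hpr
      exact hcon p hp hpr hpK
    rw [← h2]
    exact pow_card_eq_one'
  have hnt := hKr.center_nontrivial
  rw [center_eq_bot hK] at hnt
  exact not_nontrivial _ hnt

/-- **a Sylow subgroup of prime order**: the partner is automatic -/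
theorem GoodW.of_exc [Finite K] [IsSimpleGroup K] (hK : ¬ IsMulCommutative K) {r : ℕ} (hr : r.Prime) {y : K}
    (hy : orderOf y = r) (hc : ¬ r ^ 2 ∣ Nat.card K) (hinn : InnAt K r)
    (ns : ∀ β : MulAut K, (orderOf β).Prime → ∃ g : K, ¬ Group.IsSolvable
      (Subgroup.closure ({MulAut.conj (g * y * g⁻¹), β} : Set (MulAut K)))) : GoodW K r 1 y := by
  refine ⟨hr, le_rfl, by rw [hy, pow_one], hc, hinn, ns, ?_⟩
  have e1 : y ^ r ^ (1 - 1) = y := by simp
  rw [e1]
  obtain ⟨p, hp, hpr, hpc⟩ := exists_prime_ne hK r hr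
  have : Fact p.Prime := ⟨hp⟩
  obtain ⟨c, hcp⟩ := exists_prime_orderOf_dvd_card' p hpc
  have hcen := center_eq_bot hK
  obtain ⟨g, hg⟩ := ns (MulAut.conj c) (by
    rw [orderOf_injective _ (conj_injective hcen), hcp]
    exact hp)
  refine ⟨p, g⁻¹ * c * g, hp, hpr, ⟨1, ?_⟩, fun hs => hg ?_⟩
  · have e2 : g⁻¹ * c * g = MulAut.conj g⁻¹ c := by simp
    rw [e2, MulEquiv.orderOf_eq, hcp, pow_one]
  · have h1 := solvable_map hs ((MulAut.conj : K →* MulAut K).comp (MulAut.conj g).toMonoidHom)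
    rw [MonoidHom.map_closure, Set.image_pair] at h1
    have e3 : ((MulAut.conj : K →* MulAut K).comp (MulAut.conj g).toMonoidHom) y = MulAut.conj (g * y * g⁻¹) := rfl
    have e4 : ((MulAut.conj : K →* MulAut K).comp (MulAut.conj g).toMonoidHom) (g⁻¹ * c * g) = MulAut.conj c := by
      show MulAut.conj (g * (g⁻¹ * c * g) * g⁻¹) = _
      congr 1
      group
    rw [e3, e4] at h1
    exact h1

variable {r a : ℕ} {y : K}

theorem GoodW.of_order [Finite K] (h : GoodW K r a y) {s : K}
    (hs : orderOf s = r ^ a) : GoodW K r a s := by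
  have hrf : Fact r.Prime := ⟨h.prime⟩
  obtain ⟨g, hg⟩ := exists_conj h.ord h.syl hs
  have h1 : GoodW K r a (g * y * g⁻¹) := h.congr (MulAut.conj g)
  set z := g * y * g⁻¹ with hz
  have hzs : Subgroup.zpowers z = Subgroup.zpowers s := by
    symm
    refine Subgroup.eq_of_le_of_card_ge (Subgroup.zpowers_le.2 hg) ?_
    rw [Nat.card_zpowers, Nat.card_zpowers, h1.ord, hs]
  have h2 : z ∈ Subgroup.zpowers s := by rw [← hzs]; exact Subgroup.mem_zpowers z
  obtain ⟨i, hi⟩ := Subgroup.mem_zpowers_iff.1 h2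
  refine ⟨h.prime, h.pos, hs, h.syl, h.inn, fun β hβ => ?_, ?_⟩
  · obtain ⟨k, hk⟩ := h1.ns β hβ
    refine ⟨k, fun hsol => hk (solvable_mono ?_ hsol)⟩
    rw [Subgroup.closure_le]
    rintro w (rfl | rfl)
    · have e1 : (MulAut.conj (k * z * k⁻¹) : MulAut K) = (MulAut.conj (k * s * k⁻¹)) ^ i := by
        rw [← map_zpow, conj_zpow, hi]
      rw [e1]
      exact Subgroup.zpow_mem _ (Subgroup.subset_closure (by simp)) i
    · exact Subgroup.subset_closure (by simp)
  · refine Wit.of_zpowers h1.wit ?_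
    rw [Subgroup.mem_zpowers_iff]
    refine ⟨i, ?_⟩
    rw [← hi, ← zpow_natCast, ← zpow_natCast, ← zpow_mul, ← zpow_mul, mul_comm]

theorem GoodW.wit_of_order [Finite K] (h : GoodW K r a y) {s : K}
    (hs : orderOf s = r) : Wit K r s := by
  have hrf : Fact r.Prime := ⟨h.prime⟩
  obtain ⟨g, hg⟩ := exists_conj h.ord h.syl (b := 1) (by rw [hs, pow_one])
  have h1 : GoodW K r a (g * y * g⁻¹) := h.congr (MulAut.conj g)
  set z := g * y * g⁻¹ with hz
  refine Wit.of_zpowers h1.wit ?_
  have h2 : Subgroup.zpowers s = Subgroup.zpowers (z ^ r ^ (a - 1)) := by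
    refine Cfsg.Agent.OddOrderLocal.CyclicSub.eq_of_card_eq_of_le_cyclic (Z := Subgroup.zpowers z) inferInstance
      (Subgroup.zpowers_le.2 hg) (Subgroup.zpowers_le.2 (Subgroup.npow_mem_zpowers _ _)) ?_
    rw [Nat.card_zpowers, hs, card_socle h1.ord h.pos]
  rw [h2]
  exact Subgroup.mem_zpowers _

theorem GoodW.dvd_card [Finite K] (h : GoodW K r a y) : r ^ a ∣ Nat.card K := by
  rw [← h.ord]
  exact orderOf_dvd_natCard y

end Cfsg.Agent.H585.GW
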