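import Mathlib
import Cfsg.Agent.H585.SuRow
import Cfsg.Agent.H129.UntwT
import Cfsg.Agent.H129.DataE6n
import Cfsg.Agent.H129.DataE6
import Cfsg.Agent.S1063
import Cfsg.Agent.S1093

/-!
# The row `E6(q)` (helper585)
-/

set_option autoImplicit false
set_option linter.unusedSectionVars false

namespace Cfsg.Agent.H585.SuE6

open Cfsg Cfsg.Lie Cfsg.Agent.H129 Cfsg.Agent.Nodes.RGDChev Cfsg.Agent.H129.TorusTw Cfsg.Agent.H585.SuRow
  Cfsg.Agent.H585.SuSel Cfsg.Agent.H585.SuPhi Cfsg.Agent.H62.PPChev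

universe u

variable {F : Type u} [Field F] [Fintype F]

theorem typ : IsType chevE6 6 CoxeterMatrix.E₆ := by simp

theorem cardW : Nat.card CoxeterMatrix.E₆.Group = 51840 :=
  Cfsg.Agent.S1093.result (⟨6, CoxeterMatrix.E₆⟩, 51840) (by simp)

instance : Finite CoxeterMatrix.E₆.Group := Nat.finite_of_card_ne_zero (by rw [cardW]; norm_num)

theorem notW {r : ℕ} (hr : r.Prime) (h7 : 7 < r) : ¬ r ∣ Nat.card CoxeterMatrix.E₆.Group := by
  rw [cardW, show (51840 : ℕ) = 2 ^ 7 * 3 ^ 4 * 5 ^ 1 * 7 ^ 0 by norm_num]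
  exact not_dvd_of hr h7

theorem dim : chevE6.rank + chevE6.nroots = 78 := by decide +kernel

theorem ndv9 : ∀ i : Fin 6, ¬ 9 ∣ num chevE6 i := by decide +kernel

theorem torus9 {q N : ℕ} (hF : Fintype.card F = q) (hN : (N : ℤ) = 1 + (q : ℤ) ^ 3 + (q : ℤ) ^ 6) {r : ℕ} (hr : r.Prime)
    (h7 : 7 < r) (hrN : r ∣ N) :
    ∃ T : Subgroup ↥(chevE6.group F), IsCyclic ↥T ∧ Nat.card ↥T ∣ 1 * N ∧ 1 * N ∣ 3 * Nat.card ↥T ∧
      q.Coprime (1 * N) ∧ ∀ y ∈ T, orderOf y = r → Subgroup.centralizer {y} ≤ T := by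
  have hrq : (r : ℤ) ∣ 1 + (q : ℤ) ^ 3 + (q : ℤ) ^ 6 := by rw [← hN]; exact Int.natCast_dvd_natCast.2 hrN
  have hG : ∀ s, ¬ (r : ℤ) ∣ Gq DataE6n.B (q : ℤ) (DataE6n.R s) := by
    intro s hs
    rcases DataE6n.dvd_of_G hrq s hs with h1 | h1
    · exact not_dvd_int (m := 1) (by norm_num) (by omega) h1
    · exact not_dvd_int (m := 3) (by norm_num) (by omega) h1
  have hN' : ((1 * N : ℕ) : ℤ) = 1 + (q : ℤ) ^ 3 + (q : ℤ) ^ 6 := by
    push_cast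
    rw [hN]
    ring
  have hqN : q.Coprime (1 * N) := UntwData.coprime_of_eq (a := (q : ℤ) ^ 2 + (q : ℤ) ^ 5) (by rw [hN']; ring)
  obtain ⟨T, h1, h3, h4, h5, -⟩ := UntwT.untw_T typ CoxeterMatrix.E₆.toCoxeterSystem (by norm_num) hF
    TorusChar.invC_E6 (by norm_num) DataE6n.hA DataE6n.chainOK DataE6n.cycOK DataE6n.rootOK (N := 1 * N)
    (by rw [DataE6n.fN_eq, hN']) hqN (d := 3) (Or.inl rfl)
  exact ⟨T, h1, h3, h4, hqN, h5 r hr (notW hr h7) hG⟩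

theorem ndv12 : ∀ i : Fin 6, ¬ 12 ∣ num chevE6 i := by decide +kernel

theorem torus12 {q N : ℕ} (hF : Fintype.card F = q) (hN : (N : ℤ) = 1 - (q : ℤ) ^ 2 + (q : ℤ) ^ 4) {r : ℕ} (hr : r.Prime)
    (h7 : 7 < r) (hrN : r ∣ N) :
    ∃ T : Subgroup ↥(chevE6.group F), IsCyclic ↥T ∧ Nat.card ↥T ∣ (q ^ 2 + q + 1) * N ∧ (q ^ 2 + q + 1) * N ∣ 3 * Nat.card ↥T ∧
      q.Coprime ((q ^ 2 + q + 1) * N) ∧ ∀ y ∈ T, orderOf y = r → Subgroup.centralizer {y} ≤ T := by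
  have hrq : (r : ℤ) ∣ 1 - (q : ℤ) ^ 2 + (q : ℤ) ^ 4 := by rw [← hN]; exact Int.natCast_dvd_natCast.2 hrN
  have hG : ∀ s, ¬ (r : ℤ) ∣ Gq DataE6.B (q : ℤ) (DataE6.R s) := by
    intro s hs
    rcases DataE6.dvd_of_G hrq s hs with h1 | h1
    · exact not_dvd_int (m := 1) (by norm_num) (by omega) h1
    · exact not_dvd_int (m := 2) (by norm_num) (by omega) h1
  have hN' : (((q ^ 2 + q + 1) * N : ℕ) : ℤ) = 1 + (q : ℤ) - (q : ℤ) ^ 3 + (q : ℤ) ^ 5 + (q : ℤ) ^ 6 := by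
    push_cast
    rw [hN]
    ring
  have hqN : q.Coprime ((q ^ 2 + q + 1) * N) := UntwData.coprime_of_eq (a := 1 - (q : ℤ) ^ 2 + (q : ℤ) ^ 4 + (q : ℤ) ^ 5) (by rw [hN']; ring)
  obtain ⟨T, h1, h3, h4, h5, -⟩ := UntwT.untw_T typ CoxeterMatrix.E₆.toCoxeterSystem (by norm_num) hF
    TorusChar.invC_E6 (by norm_num) DataE6.hA DataE6.chainOK DataE6.cycOK DataE6.rootOK (N := (q ^ 2 + q + 1) * N)
    (by rw [DataE6.fN_eq, hN']) hqN (d := 3) (Or.inl rfl)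
  exact ⟨T, h1, h3, h4, hqN, h5 r hr (notW hr h7) hG⟩

/-- the small fields -/
theorem small9 {q N r m : ℕ} {L : List (ℕ × ℕ)} {p : ℕ} (hF : Fintype.card F = q) (hN : (N : ℤ) = 1 + (q : ℤ) ^ 3 + (q : ℤ) ^ 6)
    (hr : r.Prime) (h7 : 7 < r) (hrN : r ∣ N) (hrN2 : ¬ r ^ 2 ∣ N) (hf : ∃ p f : ℕ, p.Prime ∧ q = p ^ f ∧ ¬ r ∣ f) 
    (hm0 : m * (q ^ 36 * (q ^ 2 - 1) * (q ^ 5 - 1) * (q ^ 6 - 1) * (q ^ 8 - 1) * (q ^ 9 - 1) * (q ^ 12 - 1)) = pp L)
    (hprime : ∀ x ∈ L, x.1.Prime) (hnodup : (L.map Prod.fst).Nodup) (hp : p.Prime) (hpq : p ∣ q)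
    (hchk : Chk r p L) : RowE ↥(chevE6.group F) q 9 := by
  obtain ⟨T, h1, h2, h3, h4, h5⟩ := torus9 hF hN hr h7 hrN
  have ho : orderOf (q : ZMod r) = 9 := by
    rcases ord9 hN r hr hrN with h | h
    · exact h
    · omega
  refine row_small_of typ 9 hF hr (by omega) ho hrN hrN2 hf h1 h5 (fun h => hr.one_lt.ne' (Nat.dvd_one.1 h)) h2 h3 (fun h => by have := Nat.le_of_dvd (by norm_num) h; omega) h4 ndv9 (L := L) (m := m * Nat.gcd 3 (q - 1))
    ?_ hprime hnodup hp hpq hchk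
  have h := Cfsg.Agent.S1063.result (F := F) hF
  rw [show m * Nat.gcd 3 (q - 1) * Nat.card ↥(chevE6.group F) = m * (Nat.gcd 3 (q - 1) * Nat.card ↥(chevE6.group F)) by ring, h]
  exact hm0

theorem resultE : RowE ↥(chevE6.group F) (Fintype.card F) 9 := by
  obtain ⟨q, hF⟩ : ∃ q, Fintype.card F = q := ⟨_, rfl⟩
  have hq2 : 2 ≤ q := by rw [← hF]; exact Fintype.one_lt_card
  rw [hF]
  obtain ⟨N, hNdef⟩ : ∃ N, N = q ^ 6 + q ^ 3 + 1 := ⟨_, rfl⟩
  have hN : (N : ℤ) = 1 + (q : ℤ) ^ 3 + (q : ℤ) ^ 6 := by rw [hNdef]; push_cast; ring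
  rcases sel_of (F := F) (d := 78) (B := 153957) hF (by norm_num) (by norm_num) (by omega) (ord9 hN) (sq9 hN) (dvd9 hN)
    (by decide +kernel) (by norm_num) with ⟨r, a, hr, ha, ho, haN, haN', hd, hf⟩ | hB
  · obtain ⟨hmod, h6⟩ := mod_eq_one hr (by norm_num) ho
    obtain ⟨T, h1, h2, h3, h4, h5⟩ := torus9 hF hN hr (by omega) (dvd9 hN r hr ho)
    exact row_of typ hF hr (by omega) ha (Or.inr rfl) ho haN haN' (by rw [dim]; exact hd) hf h1 h5
      (fun h => hr.one_lt.ne' (Nat.dvd_one.1 h)) h2 h3 (fun h => by have := Nat.le_of_dvd (by norm_num) h; omega) h4 ndv9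
  · -- the second torus
    have hle : q ^ 2 ≤ q ^ 4 := Nat.pow_le_pow_right (by omega) (by norm_num)
    obtain ⟨N2, hN2def⟩ : ∃ N, N = q ^ 4 - q ^ 2 + 1 := ⟨_, rfl⟩
    have hN2 : (N2 : ℤ) = 1 - (q : ℤ) ^ 2 + (q : ℤ) ^ 4 := by rw [hN2def]; push_cast [Nat.cast_sub hle]; ring
    have second : ∀ r : ℕ, r.Prime → 79 < r → r ∣ N2 → ¬ r ^ 2 ∣ N2 → ¬ r ∣ (q ^ 2 + q + 1) →
        (∃ p f : ℕ, p.Prime ∧ q = p ^ f ∧ ¬ r ∣ f) → RowE ↥(chevE6.group F) q 9 := by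
      intro r hr h15 hrN hrN2 hnd hf
      obtain ⟨T, h1, h2, h3, h4, h5⟩ := torus12 hF hN2 hr (by omega) hrN
      have ho : orderOf (q : ZMod r) = 12 := by
        rcases ord12 hN2 r hr hrN with h | h
        · exact h
        · omega
      refine row_of typ hF hr (by omega) (a := 1) le_rfl (Or.inl rfl) ho (by rwa [pow_one]) hrN2 ?_ hf h1 h5
        hnd h2 h3 (fun h => by have := Nat.le_of_dvd (by norm_num) h; omega) h4 ndv12
      rw [dim]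
      simp only [Nat.sub_self, pow_zero, pow_one]
      omega
    have hq4 : q ≤ 7 := by
      have := Nat.le_of_dvd (by norm_num) hB
      by_contra h
      push Not at h
      have h2 : 8 ^ 6 ≤ q ^ 6 := Nat.pow_le_pow_left h 6
      omega
    subst hNdef
    subst hN2def
    have hcases : q = 2 ∨ q = 4 := by
      clear hN hN2 hF hle second
      interval_cases q <;> revert hB <;> norm_num
    rcases hcases with rfl | rfl
    · exact small9 (r := 73) (m := 1) (L := [(2, 36), (3, 6), (5, 2), (7, 3), (13, 1), (17, 1), (31, 1), (73, 1)]) (p := 2) hF hN (by norm_num) (by norm_num)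
        (by norm_num) (by norm_num) ⟨2, 1, by norm_num, by norm_num, by norm_num⟩ (by decide +kernel) (by norm_num)
        (by decide) (by norm_num) (by norm_num) (by decide +kernel)
    · exact second 241 (by norm_num) (by norm_num) (by norm_num) (by norm_num) (by norm_num)
        ⟨2, 2, by norm_num, by norm_num, by norm_num⟩

theorem result : Row ↥(chevE6.group F) (Fintype.card F) := (resultE).row

end Cfsg.Agent.H585.SuE6
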