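import Mathlib
import Cfsg.Agent.H585.SuRow
import Cfsg.Agent.H129.UntwT
import Cfsg.Agent.H129.DataG2h
import Cfsg.Agent.H129.DataG2
import Cfsg.Agent.S1059
import Cfsg.Agent.S1092

/-!
# The row `G₂(q)`, `q > 2` (helper585)
-/

set_option autoImplicit false
set_option linter.unusedSectionVars false

namespace Cfsg.Agent.H585.SuG2

open Cfsg Cfsg.Lie Cfsg.Agent.H129 Cfsg.Agent.Nodes.RGDChev Cfsg.Agent.H129.TorusTw Cfsg.Agent.H585.SuRow
  Cfsg.Agent.H585.SuSel Cfsg.Agent.H585.SuPhi Cfsg.Agent.H62.PPChev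

universe u

variable {F : Type u} [Field F] [Fintype F]

theorem typ : IsType chevG2 2 CoxeterMatrix.G₂ := by simp

theorem cardW : Nat.card CoxeterMatrix.G₂.Group = 12 :=
  Cfsg.Agent.S1092.result (⟨2, CoxeterMatrix.G₂⟩, 12) (by simp)

instance : Finite CoxeterMatrix.G₂.Group := Nat.finite_of_card_ne_zero (by rw [cardW]; norm_num)

theorem notW {r : ℕ} (hr : r.Prime) (h7 : 7 ≤ r) : ¬ r ∣ Nat.card CoxeterMatrix.G₂.Group := by
  rw [cardW, show (12 : ℕ) = 2 ^ 2 * 3 ^ 1 by norm_num]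
  exact not_dvd_three hr h7

theorem torus6 {q N : ℕ} (hF : Fintype.card F = q) (hN : (N : ℤ) = 1 - (q : ℤ) + (q : ℤ) ^ 2) {r : ℕ} (hr : r.Prime)
    (h7 : 7 ≤ r) (hrN : r ∣ N) :
    ∃ T : Subgroup ↥(chevG2.group F), IsCyclic ↥T ∧ Nat.card ↥T ∣ 1 * N ∧ 1 * N ∣ 1 * Nat.card ↥T ∧ q.Coprime (1 * N) ∧
      ∀ y ∈ T, orderOf y = r → Subgroup.centralizer {y} ≤ T := by
  have hrq : (r : ℤ) ∣ 1 - (q : ℤ) + (q : ℤ) ^ 2 := by rw [← hN]; exact Int.natCast_dvd_natCast.2 hrN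
  have hG : ∀ s, ¬ (r : ℤ) ∣ Gq DataG2h.B (q : ℤ) (DataG2h.R s) := by
    intro s hs
    rcases DataG2h.dvd_of_G hrq s hs with h1 | h1
    · exact not_dvd_int (m := 1) (by norm_num) (by omega) h1
    · exact not_dvd_int (m := 3) (by norm_num) (by omega) h1
  have hqN : q.Coprime N := UntwData.coprime_of_eq (a := (q : ℤ) - 1) (by rw [hN]; ring)
  obtain ⟨T, h1, h3, h4, h5, -⟩ := UntwT.untw_T typ CoxeterMatrix.G₂.toCoxeterSystem (by norm_num) hF
    TorusChar.invC_G2 one_ne_zero DataG2h.hA DataG2h.chainOK DataG2h.cycOK DataG2h.rootOK (N := N)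
    (by rw [DataG2h.fN_eq, hN]) hqN (d := 1) (Or.inl rfl)
  exact ⟨T, h1, by rwa [one_mul], by rwa [one_mul], by rwa [one_mul], h5 r hr (notW hr h7) hG⟩

theorem torus3 {q N : ℕ} (hF : Fintype.card F = q) (hN : (N : ℤ) = 1 + (q : ℤ) + (q : ℤ) ^ 2) {r : ℕ} (hr : r.Prime)
    (h7 : 7 ≤ r) (hrN : r ∣ N) :
    ∃ T : Subgroup ↥(chevG2.group F), IsCyclic ↥T ∧ Nat.card ↥T ∣ 1 * N ∧ 1 * N ∣ 1 * Nat.card ↥T ∧ q.Coprime (1 * N) ∧
      ∀ y ∈ T, orderOf y = r → Subgroup.centralizer {y} ≤ T := by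
  have hrq : (r : ℤ) ∣ 1 + (q : ℤ) + (q : ℤ) ^ 2 := by rw [← hN]; exact Int.natCast_dvd_natCast.2 hrN
  have hG : ∀ s, ¬ (r : ℤ) ∣ Gq DataG2.B (q : ℤ) (DataG2.R s) := by
    intro s hs
    rcases DataG2.dvd_of_G hrq s hs with h1 | h1
    · exact not_dvd_int (m := 1) (by norm_num) (by omega) h1
    · exact not_dvd_int (m := 3) (by norm_num) (by omega) h1
  have hqN : q.Coprime N := UntwData.coprime_of_eq (a := (q : ℤ) + 1) (by rw [hN]; ring)
  obtain ⟨T, h1, h3, h4, h5, -⟩ := UntwT.untw_T typ CoxeterMatrix.G₂.toCoxeterSystem (by norm_num) hF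
    TorusChar.invC_G2 one_ne_zero DataG2.hA DataG2.chainOK DataG2.cycOK DataG2.rootOK (N := N)
    (by rw [DataG2.fN_eq, hN]) hqN (d := 1) (Or.inl rfl)
  exact ⟨T, h1, by rwa [one_mul], by rwa [one_mul], by rwa [one_mul], h5 r hr (notW hr h7) hG⟩

theorem ndv6 : ∀ i : Fin 2, ¬ 6 ∣ num chevG2 i := by decide +kernel

theorem ndv3 : ∀ i : Fin 2, ¬ 3 ∣ num chevG2 i := by decide +kernel

theorem dim : chevG2.rank + chevG2.nroots = 14 := by decide +kernel

/-- the small fields -/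
theorem small {q N r m : ℕ} {L : List (ℕ × ℕ)} {p : ℕ} (hF : Fintype.card F = q) (hN : (N : ℤ) = 1 + (q : ℤ) + (q : ℤ) ^ 2)
    (hr : r.Prime) (h7 : 7 ≤ r) (hrN : r ∣ N) (hrN2 : ¬ r ^ 2 ∣ N) (hf : ∃ p f : ℕ, p.Prime ∧ q = p ^ f ∧ ¬ r ∣ f)
    (hm0 : m * (q ^ 6 * (q ^ 2 - 1) * (q ^ 6 - 1)) = pp L)
    (hprime : ∀ x ∈ L, x.1.Prime) (hnd : (L.map Prod.fst).Nodup) (hp : p.Prime) (hpq : p ∣ q)
    (hchk : Chk r p L) : RowE ↥(chevG2.group F) q 6 := by
  obtain ⟨T, h1, h2, h3, h4, h5⟩ := torus3 hF hN hr h7 hrN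
  have ho : orderOf (q : ZMod r) = 3 := by
    rcases ord3 hN r hr hrN with h | h
    · exact h
    · omega
  refine row_small_of typ 6 hF hr h7 ho hrN hrN2 hf h1 h5
    (fun h => hr.one_lt.ne' (Nat.dvd_one.1 h)) h2 h3 (fun h => hr.one_lt.ne' (Nat.dvd_one.1 h)) h4 ndv3 (L := L) (m := m)
    ?_ hprime hnd hp hpq hchk
  rw [Cfsg.Agent.S1059.result (F := F) hF]
  exact hm0

theorem resultE (h2 : Fintype.card F ≠ 2) : RowE ↥(chevG2.group F) (Fintype.card F) 6 := by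
  obtain ⟨q, hF⟩ : ∃ q, Fintype.card F = q := ⟨_, rfl⟩
  have hq3 : 3 ≤ q := by
    have : 1 < Fintype.card F := Fintype.one_lt_card
    omega
  rw [hF]
  have hle : q ≤ q ^ 2 := by nlinarith
  obtain ⟨N, hNdef⟩ : ∃ N, N = q ^ 2 - q + 1 := ⟨_, rfl⟩
  have hN : (N : ℤ) = 1 - (q : ℤ) + (q : ℤ) ^ 2 := by rw [hNdef]; push_cast [Nat.cast_sub hle]; ring
  rcases sel_of (F := F) (d := 14) (B := 273) hF (by norm_num) (by norm_num) (by omega) (ord6 hN) (sq6 hN) (dvd6 hN)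
    (by decide) (by norm_num) with ⟨r, a, hr, ha, ho, haN, haN', hd, hf⟩ | hB
  · obtain ⟨-, h6⟩ := mod_eq_one hr (by norm_num) ho
    obtain ⟨T, h1, h2, h3, h4, h5⟩ := torus6 hF hN hr h6 (dvd6 hN r hr ho)
    exact row_of typ hF hr h6 ha (Or.inr rfl) ho haN haN' (by rw [dim]; exact hd) hf h1 h5
      (fun h => hr.one_lt.ne' (Nat.dvd_one.1 h)) h2 h3 (fun h => hr.one_lt.ne' (Nat.dvd_one.1 h)) h4 ndv6
  · have hq17 : q ≤ 17 := by
      have := Nat.le_of_dvd (by norm_num) hB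
      by_contra h
      push Not at h
      have h1 : 18 * q ≤ q ^ 2 := by nlinarith
      omega
    -- the second torus
    obtain ⟨N2, hN2def⟩ : ∃ N, N = q ^ 2 + q + 1 := ⟨_, rfl⟩
    have hN2 : (N2 : ℤ) = 1 + (q : ℤ) + (q : ℤ) ^ 2 := by rw [hN2def]; push_cast; ring
    have second : ∀ r : ℕ, r.Prime → 15 < r → r ∣ N2 → ¬ r ^ 2 ∣ N2 →
        (∃ p f : ℕ, p.Prime ∧ q = p ^ f ∧ ¬ r ∣ f) → RowE ↥(chevG2.group F) q 6 := by
      intro r hr h15 hrN hrN2 hf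
      obtain ⟨T, h1, h2, h3, h4, h5⟩ := torus3 hF hN2 hr (by omega) hrN
      have ho : orderOf (q : ZMod r) = 3 := by
        rcases ord3 hN2 r hr hrN with h | h
        · exact h
        · omega
      refine row_of typ hF hr (by omega) (a := 1) le_rfl (Or.inl rfl) ho (by rwa [pow_one]) hrN2 ?_ hf h1 h5
        (fun h => hr.one_lt.ne' (Nat.dvd_one.1 h)) h2 h3 (fun h => hr.one_lt.ne' (Nat.dvd_one.1 h)) h4 ndv3
      rw [dim]
      simp only [Nat.sub_self, pow_zero, pow_one]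
      exact h15
    subst hNdef
    subst hN2def
    have hcases : q = 3 ∨ q = 4 ∨ q = 5 ∨ q = 10 ∨ q = 17 := by
      clear hN hN2 hF second hle h2
      interval_cases q <;> revert hB <;> norm_num
    rcases hcases with rfl | rfl | rfl | rfl | rfl
    · exact small (r := 13) (m := 1) (L := [(2, 6), (3, 6), (7, 1), (13, 1)]) (p := 3) hF hN2 (by norm_num) (by norm_num)
        (by norm_num) (by norm_num) ⟨3, 1, by norm_num, by norm_num, by norm_num⟩ (by decide +kernel) (by norm_num)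
        (by decide) (by norm_num) (by norm_num) (by decide +kernel)
    · exact small (r := 7) (m := 1) (L := [(2, 12), (3, 3), (5, 2), (7, 1), (13, 1)]) (p := 2) hF hN2 (by norm_num)
        (by norm_num) (by norm_num) (by norm_num) ⟨2, 2, by norm_num, by norm_num, by norm_num⟩ (by decide +kernel)
        (by norm_num) (by decide) (by norm_num) (by norm_num) (by decide +kernel)
    · exact second 31 (by norm_num) (by norm_num) (by norm_num) (by norm_num)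
        ⟨5, 1, by norm_num, by norm_num, by norm_num⟩
    · exfalso
      obtain ⟨p, hpc⟩ := CharP.exists F
      obtain ⟨f, hp, hf⟩ := FiniteField.card F p
      rw [hF] at hf
      have h2 : 2 ∣ p ^ (f : ℕ) := by rw [← hf]; norm_num
      have h5 : 5 ∣ p ^ (f : ℕ) := by rw [← hf]; norm_num
      have h2' := (Nat.prime_dvd_prime_iff_eq Nat.prime_two hp).1 (Nat.prime_two.dvd_of_dvd_pow h2)
      have h5' := (Nat.prime_dvd_prime_iff_eq Nat.prime_five hp).1 (Nat.prime_five.dvd_of_dvd_pow h5)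
      omega
    · exact second 307 (by norm_num) (by norm_num) (by norm_num) (by norm_num)
        ⟨17, 1, by norm_num, by norm_num, by norm_num⟩

theorem result (h2 : Fintype.card F ≠ 2) : Row ↥(chevG2.group F) (Fintype.card F) := (resultE h2).row

end Cfsg.Agent.H585.SuG2
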