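import Mathlib
import Cfsg.Agent.H585.SuTw
import Cfsg.Agent.H129.TwT
import Cfsg.Agent.H129.DataD4C
import Cfsg.Agent.H129.DataD4C2
import Cfsg.Agent.ClosedExc.Rows

/-!
# The row `³D₄(q)`, `q > 2` (helper585)
-/

set_option autoImplicit false
set_option linter.unusedSectionVars false

namespace Cfsg.Agent.H585.SuTD4

open CoxeterSystem Cfsg.Lie Cfsg.Agent.ChevalleyStructure Cfsg.Agent.ChevalleyStructure.CoxeterGeom
  Cfsg.Agent.ChevalleyStructure.CoxeterGeomTypes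
  Cfsg.Agent.Tits.Roots Cfsg.Agent.Tits.Core Cfsg.Agent.Nodes.Reps Cfsg.Agent.Nodes.BNOf
  Cfsg.Agent.Nodes.RGDChev
  Cfsg.Agent.Nodes.StabComb Cfsg.Agent.Nodes.Bruhat Cfsg.Agent.Nodes.LeviDec
  Cfsg.Agent.ParSys.RootCount Cfsg.Agent.ParSys.RootExc
open Cfsg.Agent.Nodes.RGDFold hiding refl
open Cfsg.Agent.H465.SU Cfsg.Agent.H585.SuOwn Cfsg.Agent.H585.SuTor Cfsg.Agent.H585.SuSel Cfsg.Agent.H585.SuRow
  Cfsg.Agent.H585.SuTw Cfsg.Agent.H585.SuPhi
open Cfsg.Agent.Nodes.RGDTwD4 Cfsg.Agent.ClosedExc.TwD4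

/-- positive roots -/
def LG : List (Fin 2 → ℤ) := [![1, 0], ![0, 1], ![1, 1], ![1, 2], ![1, 3], ![2, 3]]

/-- exponents of the orders -/
def w (v : Fin 2 → ℤ) : ℕ := if v 1 % 3 = 0 then 1 else 3

theorem posRoots : PosRoots A LG.toFinset where
  simple_mem := by
    have h : ∀ i, Pi.single i 1 ∈ LG := by decide +kernel
    exact fun i => List.mem_toFinset.2 (h i)
  pos := by
    have h : ∀ v ∈ LG, ∀ i, 0 ≤ v i := by decide +kernel
    exact fun v hv => h v (List.mem_toFinset.1 hv)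
  ne := by
    have h : (0 : Fin 2 → ℤ) ∉ LG := by decide +kernel
    exact fun h0 => h (List.mem_toFinset.1 h0)
  perm := by
    have h : ∀ i, ∀ v ∈ LG, v ≠ Pi.single i 1 → refl A i v ∈ LG := by decide +kernel
    exact fun i v hv hne => List.mem_toFinset.2 (h i v (List.mem_toFinset.1 hv) hne)

theorem own {K : Type} [Field K] [Fintype K] {q : ℕ} (hq : IsPrimePow q) (hK : Fintype.card K = q ^ 3) {r : ℕ}
    (hr : r.Prime) (ho : orderOf (q : ZMod r) = 12) (p : ℕ) [CharP K p] : Own ↥(twistedD4 K q) p r := by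
  obtain ⟨φ, hφ⟩ := D4Fixed.exists_frob hq hK
  have hle := D4Fixed.twisted_le_fix hK hφ
  have hfp : Fact p.Prime := ⟨CharP.char_is_prime K p⟩
  let cs := CoxeterMatrix.G₂.toCoxeterSystem
  have hW : Finite CoxeterMatrix.G₂.Group := Cfsg.Agent.Nodes.RGDFold.finite_W
    (hp := Cfsg.Agent.Nodes.RGDTwD4.hp) cs isCartan foldData
  have R := rgd cs hK hφ p
  have c0 := card_X0 hφ hle hq.two_le hK
  have c1 := card_X1 (K := K) hφ hle
  rw [hK] at c1
  have hcV := fun i => SuTw.card_VJ R posRoots (by decide +kernel) (q := q) w (by decide +kernel)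
    (by
      intro i
      fin_cases i
      · exact c0.trans (pow_one q).symm
      · exact c1) i
  have hBT : KFacts.RgdCharP.BT cs isCartan p _ (X φ q) :=
    fun K' hK' hK1 => KFacts.RgdFilt.borel_tits_of_filt
      (KFacts.RgdFiltTwAll.filt_fold cs isCartan foldData (foldGrp hφ hle) p) (G1_eq_top cs hK hφ) hK' hK1
  intro x hx hC S hS hn
  refine eq_bot_of_normal R hBT hr hx hC (fun i => ?_) hS hn
  rw [hcV i, dvd_pow_sub_one (by have := hq.two_le; omega), ho]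
  exact (by decide +kernel : ∀ i : Fin 2, ¬ 12 ∣ ((LG.filter fun v => 0 < v i).map w).sum) i

theorem torus {K : Type} [Field K] [Fintype K] {q N : ℕ} (hq : IsPrimePow q) (hK : Fintype.card K = q ^ 3)
    (hN : (N : ℤ) = 1 - (q : ℤ) ^ 2 + (q : ℤ) ^ 4) {r : ℕ} (hr : r.Prime)
    (h7 : 7 < r) (hrN : r ∣ N) :
    ∃ T : Subgroup ↥(twistedD4 K q), IsCyclic ↥T ∧ Nat.card ↥T ∣ 1 * N ∧ 1 * N ∣ 1 * Nat.card ↥T ∧
      q.Coprime (1 * N) ∧ ∀ y ∈ T, orderOf y = r → Subgroup.centralizer {y} ≤ T := by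
  have hrq : (r : ℤ) ∣ 1 - (q : ℤ) ^ 2 + (q : ℤ) ^ 4 := by rw [← hN]; exact Int.natCast_dvd_natCast.2 hrN
  have hrW := H129.TwD4Cyc.not_dvd_W hr (by omega) (by omega)
  have hG : ∀ s, ¬ (r : ℤ) ∣ H129.TorusTw.Gq H129.DataD4C.B (q : ℤ) (H129.DataD4C.R s) := by
    intro s hs
    exact not_dvd_int (m := 1) (by norm_num) (by omega) (H129.DataD4C.dvd_of_G hrq s hs)
  have hqN : q.Coprime N := H129.UntwData.coprime_of_eq (a := -(q : ℤ) + (q : ℤ) ^ 3) (by rw [hN]; ring)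
  obtain ⟨T, h1, h3, h5, -⟩ := H129.TwT.tri_T hq hK H129.DataD4C.hA H129.DataD4C.chainOK H129.DataD4C.hd_pi
    H129.DataD4C.cycOK H129.DataD4C.rootOK
    H129.DataD4C.chain2OK H129.DataD4C.hd2_eq (N := N)
    (by rw [H129.DataD4C.fN_eq, hN]) hqN
  exact ⟨T, h1, by rw [h3, one_mul], by rw [h3], by rwa [one_mul], h5 r hr hrW hG⟩

theorem dim : Fintype.card chevD4.Idx = 28 := by
  show Fintype.card (Fin _ ⊕ Fin _) = 28
  rw [Fintype.card_sum, Fintype.card_fin, Fintype.card_fin]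
  decide +kernel

theorem resultE {K : Type} [Field K] [Fintype K] {q : ℕ} (hq : IsPrimePow q) (hK : Fintype.card K = q ^ 3)
    (h2 : q ≠ 2) : RowE ↥(twistedD4 K q) q 12 := by
  have hq2 : 2 ≤ q := hq.two_le
  have hle : q ^ 2 ≤ q ^ 4 := Nat.pow_le_pow_right (by omega) (by norm_num)
  obtain ⟨N, hNdef⟩ : ∃ N, N = q ^ 4 - q ^ 2 + 1 := ⟨_, rfl⟩
  have hN : (N : ℤ) = 1 - (q : ℤ) ^ 2 + (q : ℤ) ^ 4 := by rw [hNdef]; push_cast [Nat.cast_sub hle]; ring
  rcases sel_pp (d := 28) (B := 26) hq (by norm_num) (by norm_num) (by omega) (ord12 hN) (sq12 hN) (dvd12 hN)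
    (by decide +kernel) (by norm_num) with ⟨r, a, hr, ha, ho, haN, haN', hd, hf⟩ | hB
  · obtain ⟨hmod, h6⟩ := mod_eq_one hr (by norm_num) ho
    obtain ⟨T, h1, h2, h3, h4, h5⟩ := torus hq hK hN hr (by omega) (dvd12 hN r hr ho)
    exact SuTw.row_of hK hr (by omega) ha ho haN haN' (by rw [dim]; exact hd) hf h1 h5
      (fun h => hr.one_lt.ne' (Nat.dvd_one.1 h)) h2 h3 (fun h => hr.one_lt.ne' (Nat.dvd_one.1 h)) h4
      (fun p _ => own hq hK hr ho p)
  · exfalso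
    have h3 : 3 ≤ q := by omega
    have := Nat.le_of_dvd (by norm_num) hB
    have h1 : 3 ^ 2 * q ^ 2 ≤ q ^ 2 * q ^ 2 := Nat.mul_le_mul_right _ (Nat.pow_le_pow_left h3 2)
    have h2 : 3 ^ 2 ≤ q ^ 2 := Nat.pow_le_pow_left h3 2
    have h3 : q ^ 4 = q ^ 2 * q ^ 2 := by ring
    omega

theorem result {K : Type} [Field K] [Fintype K] {q : ℕ} (hq : IsPrimePow q) (hK : Fintype.card K = q ^ 3)
    (h2 : q ≠ 2) : Row ↥(twistedD4 K q) q := (resultE hq hK h2).row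

end Cfsg.Agent.H585.SuTD4
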