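import Mathlib
import Cfsg.Prelude.Def_Classical
import Cfsg.Agent.H465.AltPE
import Cfsg.Agent.H585.GoodW
import Cfsg.Agent.H585.AltSolv

/-!
# The good primes of the alternating groups of degree at least 7 (helper585, for S4384)
-/

set_option autoImplicit false
set_option linter.unusedSectionVars false

namespace Cfsg.Agent.H585.AltGood

open Equiv Subgroup Cfsg.Agent.H585.Good Cfsg.Agent.H585.FacOne Cfsg.Agent.H585.GW Cfsg.Agent.H585.AltSolv
open Cfsg.Agent.H465.AltPE (cyc ns_five)

/-! ### numbers -/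

theorem exists_r {n : ℕ} (hn : 7 ≤ n) : ∃ r, r.Prime ∧ 5 ≤ r ∧ n < 2 * r ∧
    (r + 2 ≤ n ∨ (n = r + 1 ∧ ∀ k, n ≠ 2 ^ k)) := by
  have five : ∀ r, r.Prime → 4 ≤ r → 5 ≤ r := by
    intro r hr h
    rcases Nat.lt_or_ge 4 r with h1 | h1
    · omega
    · exfalso
      have : r = 4 := by omega
      subst this
      exact absurd hr (by norm_num)
  rcases Nat.even_or_odd n with ⟨s, hs⟩ | ⟨s, hs⟩
  · -- `n = 2 s`
    by_cases hsp : s.Prime
    · obtain ⟨r, hr, h1, h2⟩ := Nat.exists_prime_lt_and_le_two_mul s (by omega)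
      have h3 : r ≠ 2 * s := by
        rintro rfl
        exact Nat.not_prime_mul (by norm_num) (by omega) hr
      refine ⟨r, hr, five r hr (by omega), by omega, ?_⟩
      rcases Nat.lt_or_ge (r + 1) n with h4 | h4
      · left; omega
      · right
        refine ⟨by omega, fun k hk => ?_⟩
        have h5 : s ∣ 2 ^ k := ⟨2, by omega⟩
        have h6 : s = 2 := (Nat.prime_dvd_prime_iff_eq hsp Nat.prime_two).1 (hsp.dvd_of_dvd_pow h5)
        omega
    · obtain ⟨r, hr, h1, h2⟩ := Nat.exists_prime_lt_and_le_two_mul (s - 1) (by omega)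
      have h3 : r ≠ s := by
        rintro rfl
        exact hsp hr
      exact ⟨r, hr, five r hr (by omega), by omega, Or.inl (by omega)⟩
  · -- `n = 2 s + 1`
    obtain ⟨r, hr, h1, h2⟩ := Nat.exists_prime_lt_and_le_two_mul s (by omega)
    have h3 : r ≠ 2 * s := by
      rintro rfl
      exact Nat.not_prime_mul (by norm_num) (by omega) hr
    exact ⟨r, hr, five r hr (by omega), by omega, Or.inl (by omega)⟩

theorem not_sq_dvd_factorial {n r : ℕ} (hr : r.Prime) (h : n < 2 * r) : ¬ r ^ 2 ∣ n.factorial := by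
  have h2 := hr.two_le
  rcases Nat.lt_or_ge n r with h1 | h1
  · intro hd
    have h3 : r ∣ n.factorial := (dvd_pow_self r two_ne_zero).trans hd
    have := (Nat.Prime.dvd_factorial hr).1 h3
    omega
  · obtain ⟨k, rfl⟩ := Nat.exists_eq_add_of_le h1
    rw [← Nat.factorial_mul_ascFactorial]
    intro hd
    have h3 : ¬ r ∣ (r + 1).ascFactorial k := by
      rw [Nat.ascFactorial_eq_prod_range]
      intro h4
      rw [Prime.dvd_finsetProd_iff hr.prime] at h4
      obtain ⟨i, hi, h5⟩ := h4
      rw [Finset.mem_range] at hi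
      have h6 : r ∣ 1 + i := by
        have e : r + 1 + i = r + (1 + i) := by ring
        rw [e] at h5
        exact (Nat.dvd_add_right (dvd_refl r)).1 h5
      have := Nat.le_of_dvd (by omega) h6
      omega
    have h4 : Nat.Coprime (r ^ 2) ((r + 1).ascFactorial k) :=
      Nat.Coprime.pow_left _ ((Nat.Prime.coprime_iff_not_dvd hr).2 h3)
    have h5 := h4.dvd_of_dvd_mul_right hd
    obtain ⟨m, rfl⟩ : ∃ m, r = m + 1 := ⟨r - 1, by omega⟩
    rw [Nat.factorial_succ, pow_two] at h5
    have h6 := Nat.dvd_of_mul_dvd_mul_left (by omega) h5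
    have := (Nat.Prime.dvd_factorial hr).1 h6
    omega

/-! ### orbits -/

variable {n r : ℕ}

theorem orbit_card {H : Subgroup (Perm (Fin n))} (hs : Group.IsSolvable H) {z : Perm (Fin n)} (hz : z ∈ H)
    (hr : r.Prime) (hzo : orderOf z = r) (hlt : n < 2 * r) {x₀ : Fin n} (hx₀ : z x₀ ≠ x₀) {S : Finset (Fin n)}
    (hS : ∀ x ∈ S, ∃ h ∈ H, h x₀ = x) (hcard : r + 1 ≤ S.card) : S.card = r + 1 ∧ ∃ p k, p.Prime ∧ r + 1 = p ^ k := by
  classical
  have hrf : Fact r.Prime := ⟨hr⟩
  let Δ := ↥(MulAction.orbit H x₀)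
  have hF : Fintype Δ := Fintype.ofFinite _
  let φ : H →* Perm Δ := MulAction.toPermHom H Δ
  have h1 : Group.IsSolvable φ.range := Group.isSolvable_of_surjective (f := φ.rangeRestrict) φ.rangeRestrict_surjective
  have h2 : ∀ x y : Δ, ∃ h ∈ φ.range, h x = y := by
    intro x y
    obtain ⟨h, hh⟩ := MulAction.exists_smul_eq H x y
    exact ⟨φ h, ⟨h, rfl⟩, hh⟩
  let z' : Perm Δ := φ ⟨z, hz⟩
  have hz'o : orderOf z' = r := by
    refine orderOf_eq_prime ?_ ?_
    · show (φ ⟨z, hz⟩) ^ r = 1
      rw [← map_pow]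
      have h3 : (⟨z, hz⟩ : H) ^ r = 1 := Subtype.ext (by
        show z ^ r = 1
        rw [← hzo, pow_orderOf_eq_one])
      rw [h3, map_one]
    · intro h3
      apply hx₀
      have h4 : z' ⟨x₀, MulAction.mem_orbit_self x₀⟩ = ⟨x₀, MulAction.mem_orbit_self x₀⟩ := by rw [h3]; rfl
      exact congrArg Subtype.val h4
  have hΔn : Fintype.card Δ ≤ n := by
    have h3 := Fintype.card_le_of_injective (fun x : Δ => (x : Fin n)) Subtype.val_injective
    rwa [Fintype.card_fin] at h3
  have hSΔ : S.card ≤ Fintype.card Δ := by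
    have h3 : Function.Injective (fun x : S => (⟨x, by
      obtain ⟨h, hh, hx⟩ := hS x x.2
      exact ⟨⟨h, hh⟩, hx⟩⟩ : Δ)) := by
      intro x y hxy
      exact Subtype.ext (congrArg (fun z : Δ => (z : Fin n)) hxy)
    have h4 := Fintype.card_le_of_injective _ h3
    rwa [Fintype.card_coe] at h4
  rcases card_of_solvable h1 h2 (z := z') ⟨_, rfl⟩ hr hz'o (by omega) with h3 | ⟨h3, p, k, hp, h4⟩
  · omega
  · exact ⟨by omega, p, k, hp, by omega⟩

/-- moving the support of `y` by an even permutation -/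
theorem exists_place {y : Perm (Fin n)} (hyc : y.support.card = r) (hr2 : 2 ≤ r) {P Q : Finset (Fin n)}
    (hPQ : Disjoint P Q) (hP : P.card + r ≤ n) (hQ : Q.card ≤ r) :
    ∃ g ∈ alternatingGroup (Fin n), ∃ C : Finset (Fin n), P ⊆ C ∧ Disjoint C Q ∧ C.card + r = n ∧
      ∀ x, (g * y * g⁻¹) x = x ↔ x ∈ C := by
  classical
  have hle : r ≤ n := by
    have := Finset.card_le_univ y.support
    rw [Fintype.card_fin] at this
    omega
  have hQc : (Qᶜ).card = n - Q.card := by rw [Finset.card_compl, Fintype.card_fin]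
  obtain ⟨C, hPC, hCQ, hCc⟩ := Finset.exists_subsuperset_card_eq (s := P) (t := Qᶜ) (n := n - r)
    (by
      intro x hx
      rw [Finset.mem_compl]
      exact fun h => (Finset.disjoint_left.1 hPQ) hx h) (by omega) (by omega)
  have hC0 : (y.supportᶜ).card = n - r := by rw [Finset.card_compl, Fintype.card_fin, hyc]
  let e : {x // x ∈ y.supportᶜ} ≃ {x // x ∈ C} := Finset.equivOfCardEq (by rw [hC0, hCc])
  let g0 : Perm (Fin n) := e.extendSubtype
  have hg0 : ∀ x, x ∈ y.supportᶜ ↔ g0 x ∈ C := by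
    intro x
    constructor
    · intro hx
      exact e.extendSubtype_mem x hx
    · intro hx
      by_contra h
      exact e.extendSubtype_not_mem x h hx
  obtain ⟨s1, hs1, s2, hs2, hs12⟩ := Finset.one_lt_card.1 (show 1 < y.support.card by omega)
  obtain ⟨g, hgA, hg⟩ : ∃ g ∈ alternatingGroup (Fin n), ∀ x, x ∈ y.supportᶜ ↔ g x ∈ C := by
    by_cases h0 : g0 ∈ alternatingGroup (Fin n)
    · exact ⟨g0, h0, hg0⟩
    · refine ⟨g0 * swap s1 s2, ?_, ?_⟩
      · rw [Perm.mem_alternatingGroup] at h0 ⊢
        rw [map_mul, Perm.sign_swap hs12]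
        rcases Int.units_eq_one_or (Perm.sign g0) with h | h
        · exact absurd h h0
        · rw [h]; rfl
      · intro x
        rw [Perm.mul_apply, ← hg0]
        simp only [Finset.mem_compl]
        by_cases hx1 : x = s1
        · subst hx1
          rw [swap_apply_left]
          exact ⟨fun h => absurd hs1 h, fun h => absurd hs2 h⟩
        · by_cases hx2 : x = s2
          · subst hx2
            rw [swap_apply_right]
            exact ⟨fun h => absurd hs2 h, fun h => absurd hs1 h⟩
          · rw [swap_apply_of_ne_of_ne hx1 hx2]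
  refine ⟨g, hgA, C, hPC, ?_, by omega, ?_⟩
  · rw [Finset.disjoint_left]
    intro x hx hxQ
    exact (Finset.mem_compl.1 (hCQ hx)) hxQ
  · intro x
    have h1 := hg (g⁻¹ x)
    rw [app_inv] at h1
    rw [← h1, Finset.mem_compl, Perm.mem_support, not_not]
    show g (y (g⁻¹ x)) = x ↔ _
    constructor
    · intro h
      have h2 := congrArg (fun w => g⁻¹ w) h
      simp only [inv_app] at h2
      exact h2
    · intro h
      rw [h, app_inv]

/-- **a conjugate of the long cycle generating a non-solvable group with `σ`** -/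
theorem exists_ns_alt (hr : r.Prime) (h5 : 5 ≤ r) (hlt : n < 2 * r) (hn : r + 2 ≤ n ∨ (n = r + 1 ∧ ∀ k, n ≠ 2 ^ k))
    {y : Perm (Fin n)} (hyo : orderOf y = r) {σ : Perm (Fin n)} (hσ : σ ≠ 1) :
    ∃ g ∈ alternatingGroup (Fin n), ¬ Group.IsSolvable (closure ({g * y * g⁻¹, σ} : Set (Perm (Fin n)))) := by
  classical
  have hycyc : y.IsCycle := Perm.isCycle_of_prime_order' (by rw [hyo]; exact hr)
    (by rw [hyo, Fintype.card_fin]; exact hlt)
  have hyc : y.support.card = r := by rw [← hycyc.orderOf, hyo]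
  -- the general properties of the conjugate
  have key : ∀ (g : Perm (Fin n)) (C : Finset (Fin n)), (∀ x, (g * y * g⁻¹) x = x ↔ x ∈ C) → C.card + r = n →
      (orderOf (g * y * g⁻¹) = r ∧ ∃ x₀, (g * y * g⁻¹) x₀ ≠ x₀ ∧ (∀ x ∉ C, ∃ i : ℤ, ((g * y * g⁻¹) ^ i) x₀ = x)) := by
    intro g C hC hCc
    have h1 : orderOf (g * y * g⁻¹) = r := by
      have e : g * y * g⁻¹ = MulAut.conj g y := rfl
      rw [e, MulEquiv.orderOf_eq, hyo]
    have h2 : (g * y * g⁻¹).IsCycle := Perm.isCycle_of_prime_order' (by rw [h1]; exact hr)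
      (by rw [h1, Fintype.card_fin]; exact hlt)
    obtain ⟨x₀, hx₀, hx⟩ := h2
    refine ⟨h1, x₀, hx₀, fun x hxC => ?_⟩
    obtain ⟨i, hi⟩ := hx (fun h => hxC ((hC x).1 h))
    exact ⟨i, hi⟩
  by_cases hsw : ∃ a b, a ≠ b ∧ σ = swap a b
  swap
  · rcases hn with hn | ⟨hn, hpow⟩
    · -- two fixed points are moved into the support
      obtain ⟨c1, c2, w1, w2, h12, h11, h12', h21, h22, hc1, hc2⟩ : ∃ c1 c2 w1 w2 : Fin n, c1 ≠ c2 ∧ w1 ≠ c1 ∧ w1 ≠ c2 ∧
          w2 ≠ c1 ∧ w2 ≠ c2 ∧ (σ w1 = c1 ∨ σ⁻¹ w1 = c1) ∧ (σ w2 = c2 ∨ σ⁻¹ w2 = c2) := by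
        by_cases h2 : ∃ c, σ (σ c) ≠ c
        · obtain ⟨c, hc⟩ := h2
          have hc1 : σ c ≠ c := fun h => hc (by rw [h, h])
          refine ⟨c, σ c, σ⁻¹ c, σ (σ c), hc1.symm, ?_, ?_, hc, ?_, Or.inl (app_inv σ c), Or.inr (inv_app σ _)⟩
          · intro h
            apply hc1
            conv_lhs => rw [← h]
            rw [app_inv]
          · intro h
            apply hc
            rw [← h, app_inv]
          · intro h
            exact hc1 (σ.injective h)
        · push Not at h2
          obtain ⟨c1, hc1⟩ : ∃ c1, σ c1 ≠ c1 := by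
            by_contra hcon
            push Not at hcon
            exact hσ (Perm.ext hcon)
          obtain ⟨c2, hc2, h3, h4⟩ : ∃ c2, σ c2 ≠ c2 ∧ c2 ≠ c1 ∧ c2 ≠ σ c1 := by
            by_contra hcon
            push Not at hcon
            apply hsw
            refine ⟨c1, σ c1, hc1.symm, ?_⟩
            ext x
            by_cases h3 : x = c1
            · rw [h3, swap_apply_left]
            · by_cases h4 : x = σ c1
              · rw [h4, swap_apply_right, h2]
              · rw [swap_apply_of_ne_of_ne h3 h4]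
                by_contra h5
                exact h4 (hcon x (fun h => h5 (by rw [h])) h3)
          refine ⟨c1, c2, σ c1, σ c2, h3.symm, hc1, h4.symm, ?_, hc2, Or.inl (h2 c1), Or.inl (h2 c2)⟩
          intro h
          apply h4
          rw [← h, h2]
      obtain ⟨g, hgA, C, hPC, hCQ, hCc, hfix⟩ := exists_place (r := r) hyc (by omega) (P := {c1, c2}) (Q := {w1, w2})
        (by
          rw [Finset.disjoint_left]
          intro x hx hx'
          simp only [Finset.mem_insert, Finset.mem_singleton] at hx hx'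
          rcases hx with rfl | rfl <;> rcases hx' with h | h
          · exact h11 h.symm
          · exact h21 h.symm
          · exact h12' h.symm
          · exact h22 h.symm)
        (by rw [Finset.card_pair h12]; omega) (Finset.card_le_two.trans (by omega))
      refine ⟨g, hgA, fun hs => ?_⟩
      obtain ⟨ho, x₀, hx₀, hx⟩ := key g C hfix hCc
      set z := g * y * g⁻¹ with hz
      have hzH : z ∈ closure ({z, σ} : Set (Perm (Fin n))) := subset_closure (by simp)
      have hσH : σ ∈ closure ({z, σ} : Set (Perm (Fin n))) := subset_closure (by simp)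
      have hsup : ∀ x ∉ C, ∃ h ∈ closure ({z, σ} : Set (Perm (Fin n))), h x₀ = x := by
        intro x hxC
        obtain ⟨i, hi⟩ := hx x hxC
        exact ⟨z ^ i, zpow_mem hzH i, hi⟩
      have hcc : ∀ w c, w ∉ C → (σ w = c ∨ σ⁻¹ w = c) → ∃ h ∈ closure ({z, σ} : Set (Perm (Fin n))), h x₀ = c := by
        intro w c hw hc
        obtain ⟨h, hh, rfl⟩ := hsup w hw
        rcases hc with rfl | rfl
        · exact ⟨σ * h, mul_mem hσH hh, rfl⟩
        · exact ⟨σ⁻¹ * h, mul_mem (inv_mem hσH) hh, rfl⟩
      have hw1 : w1 ∉ C := fun h => (Finset.disjoint_left.1 hCQ) h (by simp)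
      have hw2 : w2 ∉ C := fun h => (Finset.disjoint_left.1 hCQ) h (by simp)
      have hcC : ∀ x ∈ ({c1, c2} : Finset (Fin n)), x ∈ C := fun x hx => hPC hx
      have h6 : (Cᶜ ∪ {c1, c2}).card = r + 2 := by
        rw [Finset.card_union_of_disjoint, Finset.card_compl, Fintype.card_fin, Finset.card_pair h12]
        · omega
        · rw [Finset.disjoint_left]
          intro x hx hx'
          exact (Finset.mem_compl.1 hx) (hcC x hx')
      obtain ⟨h7, -⟩ := orbit_card hs hzH hr ho hlt hx₀ (S := Cᶜ ∪ {c1, c2}) (by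
        intro x hx
        rcases Finset.mem_union.1 hx with h | h
        · exact hsup x (Finset.mem_compl.1 h)
        · simp only [Finset.mem_insert, Finset.mem_singleton] at h
          rcases h with rfl | rfl
          · exact hcc w1 _ hw1 hc1
          · exact hcc w2 _ hw2 hc2) (by omega)
      omega
    · -- degree `r + 1`
      obtain ⟨c, hc⟩ : ∃ c, σ c ≠ c := by
        by_contra hcon
        push Not at hcon
        exact hσ (Perm.ext hcon)
      obtain ⟨g, hgA, C, hPC, hCQ, hCc, hfix⟩ := exists_place (r := r) hyc (by omega) (P := {c}) (Q := {σ c})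
        (by
          rw [Finset.disjoint_left]
          intro x hx hx'
          simp only [Finset.mem_singleton] at hx hx'
          exact hc (by rw [← hx', hx]))
        (by rw [Finset.card_singleton]; omega) (by rw [Finset.card_singleton]; omega)
      refine ⟨g, hgA, fun hs => ?_⟩
      obtain ⟨ho, x₀, hx₀, hx⟩ := key g C hfix hCc
      set z := g * y * g⁻¹ with hz
      have hzH : z ∈ closure ({z, σ} : Set (Perm (Fin n))) := subset_closure (by simp)
      have hσH : σ ∈ closure ({z, σ} : Set (Perm (Fin n))) := subset_closure (by simp)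
      have hsup : ∀ x ∉ C, ∃ h ∈ closure ({z, σ} : Set (Perm (Fin n))), h x₀ = x := by
        intro x hxC
        obtain ⟨i, hi⟩ := hx x hxC
        exact ⟨z ^ i, zpow_mem hzH i, hi⟩
      have hCeq : C = {c} := by
        refine (Finset.eq_of_subset_of_card_le hPC ?_).symm
        rw [Finset.card_singleton]
        omega
      have hw : σ c ∉ C := fun h => (Finset.disjoint_left.1 hCQ) h (by simp)
      obtain ⟨-, p, k, hp, hpk⟩ := orbit_card hs hzH hr ho hlt hx₀ (S := Finset.univ) (by
        intro x _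
        by_cases h : x ∈ C
        · rw [hCeq, Finset.mem_singleton] at h
          subst h
          obtain ⟨h, hh, hx'⟩ := hsup _ hw
          refine ⟨σ⁻¹ * h, mul_mem (inv_mem hσH) hh, ?_⟩
          rw [Perm.mul_apply, hx', inv_app]
        · exact hsup x h) (by rw [Finset.card_univ, Fintype.card_fin]; omega)
      have hodd : 2 ∣ r + 1 := by
        have h6 := hr.eq_two_or_odd
        omega
      rw [hpk] at hodd
      have h6 : 2 = p := (Nat.prime_dvd_prime_iff_eq Nat.prime_two hp).1 (Nat.prime_two.dvd_of_dvd_pow hodd)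
      exact hpow k (by rw [hn, hpk, ← h6])
  · -- transpositions
    obtain ⟨a, b, hab, rfl⟩ := hsw
    obtain ⟨g, hgA, C, hPC, hCQ, hCc, hfix⟩ := exists_place (r := r) hyc (by omega) (P := {a}) (Q := {b})
      (by
        rw [Finset.disjoint_left]
        intro x hx hx'
        simp only [Finset.mem_singleton] at hx hx'
        exact hab (by rw [← hx, hx']))
      (by rw [Finset.card_singleton]; omega) (by rw [Finset.card_singleton]; omega)
    refine ⟨g, hgA, fun hs => ?_⟩
    obtain ⟨ho, x₀, hx₀, hx⟩ := key g C hfix hCc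
    set z := g * y * g⁻¹ with hz
    set H := closure ({z, swap a b} : Set (Perm (Fin n))) with hH
    have hzH : z ∈ H := subset_closure (by simp)
    have hσH : swap a b ∈ H := subset_closure (by simp)
    have haC : a ∈ C := hPC (by simp)
    have hbC : b ∉ C := fun h => (Finset.disjoint_left.1 hCQ) h (by simp)
    have hza : z a = a := (hfix a).2 haC
    have hsw : ∀ w ∉ C, swap a w ∈ H := by
      intro w hw
      obtain ⟨i, hi⟩ := hx w hw
      obtain ⟨j, hj⟩ := hx b hbC
      have h1 : ∀ k : ℤ, (z ^ k) a = a := fun k => Perm.zpow_apply_eq_self_of_apply_eq_self hza k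
      have h2 : (z ^ (i - j)) b = w := by
        rw [← hj, ← Perm.mul_apply, ← zpow_add, sub_add_cancel, hi]
      have h3 := swap_apply_apply (z ^ (i - j)) a b
      rw [h1, h2] at h3
      rw [h3]
      exact mul_mem (mul_mem (zpow_mem hzH _) hσH) (inv_mem (zpow_mem hzH _))
    have hcyc : ∀ w w', w ∉ C → w' ∉ C → w ≠ w' → cyc a w w' ∈ H := by
      intro w w' hw hw' hww
      have haw : a ≠ w := fun h => hw (h ▸ haC)
      have haw' : a ≠ w' := fun h => hw' (h ▸ haC)
      have h1 : swap w w' = swap a w * swap a w' * (swap a w)⁻¹ := by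
        rw [← swap_apply_apply, swap_apply_left, swap_apply_of_ne_of_ne haw'.symm hww.symm]
      unfold cyc
      rw [h1]
      exact mul_mem (hsw w hw) (mul_mem (mul_mem (hsw w hw) (hsw w' hw')) (inv_mem (hsw w hw)))
    -- four points outside `C`
    have hCc' : 4 ≤ (Cᶜ).card := by
      rw [Finset.card_compl, Fintype.card_fin]; omega
    obtain ⟨W, hWC, hW4⟩ := Finset.exists_subset_card_eq hCc'
    obtain ⟨w1, w2, w3, w4, h12, h13, h14, h23, h24, h34, hWe⟩ : ∃ w1 w2 w3 w4 : Fin n, w1 ≠ w2 ∧ w1 ≠ w3 ∧ w1 ≠ w4 ∧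
        w2 ≠ w3 ∧ w2 ≠ w4 ∧ w3 ≠ w4 ∧ W = {w1, w2, w3, w4} := by
      let e := W.equivFinOfCardEq hW4
      refine ⟨e.symm 0, e.symm 1, e.symm 2, e.symm 3, ?_, ?_, ?_, ?_, ?_, ?_, ?_⟩
      iterate 6 · exact fun h => absurd (e.symm.injective (Subtype.ext h)) (by decide)
      · ext x
        simp only [Finset.mem_insert, Finset.mem_singleton]
        constructor
        · intro hxW
          have h1 : (e.symm (e ⟨x, hxW⟩) : Fin n) = x := by rw [e.symm_apply_apply]
          generalize e ⟨x, hxW⟩ = i at h1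
          fin_cases i
          · left; exact h1.symm
          · right; left; exact h1.symm
          · right; right; left; exact h1.symm
          · right; right; right; exact h1.symm
        · rintro (rfl | rfl | rfl | rfl) <;> exact (e.symm _).2
    have hmem : ∀ w ∈ W, w ∉ C := fun w hw => Finset.mem_compl.1 (hWC hw)
    have m1 : w1 ∉ C := hmem w1 (by rw [hWe]; simp)
    have m2 : w2 ∉ C := hmem w2 (by rw [hWe]; simp)
    have m3 : w3 ∉ C := hmem w3 (by rw [hWe]; simp)
    have m4 : w4 ∉ C := hmem w4 (by rw [hWe]; simp)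
    have ha : ∀ w, w ∉ C → a ≠ w := fun w hw h => hw (h ▸ haC)
    refine ns_five (s := a) (a := w1) (b := w2) (c := w3) (d := w4) ?_ (solvable_mono ?_ hs)
    · simp only [List.nodup_cons, List.mem_cons, List.not_mem_nil, or_false, not_or, List.nodup_nil, and_true,
        not_false_eq_true]
      exact ⟨⟨ha w1 m1, ha w2 m2, ha w3 m3, ha w4 m4⟩, ⟨h12, h13, h14⟩, ⟨h23, h24⟩, h34⟩
    · rw [closure_le]
      rintro x (rfl | rfl)
      · exact hcyc w1 w2 m1 m2 h12
      · exact hcyc w3 w4 m3 m4 h34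

/-- **alternating groups of degree at least 7** -/
theorem good_alt_ge {n : ℕ} (hn : 7 ≤ n) [IsSimpleGroup (alternatingGroup (Fin n))]
    (hK : ¬ IsMulCommutative (alternatingGroup (Fin n))) : HasGoodW (alternatingGroup (Fin n)) := by
  classical
  obtain ⟨r, hr, h5, hlt, hcase⟩ := exists_r hn
  have hrf : Fact r.Prime := ⟨hr⟩
  have hnt : Nontrivial (Fin n) := Fin.nontrivial_iff_two_le.2 (by omega)
  have hcard : 2 * Nat.card (alternatingGroup (Fin n)) = n.factorial := by
    rw [Nat.card_eq_fintype_card, two_mul_card_alternatingGroup, Fintype.card_perm, Fintype.card_fin]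
  have hdvd : r ∣ Nat.card (alternatingGroup (Fin n)) := by
    have h1 : r ∣ 2 * Nat.card (alternatingGroup (Fin n)) := by
      rw [hcard]
      exact (Nat.Prime.dvd_factorial hr).2 (by omega)
    rcases (Nat.Prime.dvd_mul hr).1 h1 with h | h
    · have := Nat.le_of_dvd (by norm_num) h
      omega
    · exact h
  obtain ⟨y, hy⟩ := exists_prime_orderOf_dvd_card' (G := alternatingGroup (Fin n)) r hdvd
  have hyo : orderOf (y : Perm (Fin n)) = r := by rw [Subgroup.orderOf_coe, hy]
  obtain ⟨ψ, hψ, hspec⟩ := Cfsg.Agent.Omega.TwoF.AltRk.exists_psi (n := n) hn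
  have hconj : ∀ y : alternatingGroup (Fin n), ψ (MulAut.conj y) = (y : Perm (Fin n)) := by
    intro y
    have h1 : (y : Perm (Fin n))⁻¹ * ψ (MulAut.conj y) = 1 := by
      refine Cfsg.Agent.H465.AltPE.eq_one_of_comm (by omega) fun z hz => ?_
      have h2 := hspec (MulAut.conj y) ⟨z, hz⟩
      have h3 : ((MulAut.conj y ⟨z, hz⟩ : alternatingGroup (Fin n)) : Perm (Fin n)) = y * z * (y : Perm (Fin n))⁻¹ :=
        rfl
      rw [h3] at h2
      set w := ψ (MulAut.conj y)
      change (y : Perm (Fin n)) * z * (y : Perm (Fin n))⁻¹ = w * z * w⁻¹ at h2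
      have h4 : w * z = (y : Perm (Fin n)) * z * (y : Perm (Fin n))⁻¹ * w := by
        rw [h2]; group
      rw [mul_assoc, h4]; group
    exact (inv_mul_eq_one.1 h1).symm
  have hodd : Odd r := hr.odd_of_ne_two (by omega)
  refine ⟨r, 1, y, GoodW.of_exc hK hr hy ?_ ?_ ?_⟩
  · intro h
    apply not_sq_dvd_factorial hr hlt
    rw [← hcard]
    exact h.mul_left _
  · rintro β ⟨k, hk⟩
    have h1 : orderOf (ψ β) = r ^ k := by rw [orderOf_injective ψ hψ, hk]
    have h2 : Perm.sign (ψ β) = 1 := by
      rcases Int.units_eq_one_or (Perm.sign (ψ β)) with h | h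
      · exact h
      · exfalso
        have h3 : (Perm.sign (ψ β)) ^ (r ^ k) = 1 := by
          rw [← map_pow, ← h1, pow_orderOf_eq_one, map_one]
        rw [h, Odd.neg_one_pow (hodd.pow)] at h3
        exact absurd h3 (by decide)
    refine ⟨⟨ψ β, Perm.mem_alternatingGroup.2 h2⟩, ?_⟩
    apply hψ
    rw [hconj]
  · intro β hβ
    have hσ : ψ β ≠ 1 := by
      intro h
      have h1 : β = 1 := hψ (by rw [h, map_one])
      rw [h1, orderOf_one] at hβ
      exact Nat.not_prime_one hβ
    obtain ⟨g, hg, hns⟩ := exists_ns_alt hr h5 hlt hcase hyo hσ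
    refine ⟨⟨g, hg⟩, fun hs => hns ?_⟩
    have h1 := solvable_map hs ψ
    rw [MonoidHom.map_closure, Set.image_pair, hconj] at h1
    exact h1

/-- **alternating groups of degree at least 7** -/
theorem good_alt {G : Type*} [Group G] [Finite G] [IsSimpleGroup G] (hG : ¬ IsMulCommutative G) {n : ℕ} (hn : 7 ≤ n)
    (e : G ≃* alternatingGroup (Fin n)) : HasGoodW G := by
  have hnt : Nontrivial (alternatingGroup (Fin n)) := e.symm.toEquiv.nontrivial
  have : IsSimpleGroup (alternatingGroup (Fin n)) := e.symm.isSimpleGroup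
  refine (good_alt_ge hn ?_).congr e.symm
  intro h
  apply hG
  refine ⟨⟨fun a b => e.injective ?_⟩⟩
  rw [map_mul, map_mul]
  exact h.1.1 _ _

end Cfsg.Agent.H585.AltGood
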