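import Cfsg.Agent.H69.Fi22Row
import Cfsg.Agent.H184.Fi22Three

/-!
# S4384: the row `Fi₂₂` (glue of tasks 1951, 1952 by helper184 and 1953 by helper69)
-/

set_option autoImplicit false

namespace Cfsg.Agent.H585.FacFi

open Cfsg Cfsg.Agent.H585.GW Cfsg.Agent.H184

theorem good : HasGoodW Spor.Fi22 :=
  H69.Fi22Row.good_fi22' Fi22Ok.ok_d Fi22Ok.ok_di Fi22Ok.ok_ace Fi22Ok.ok_flip Fi22Ok.ok_flip_d Fi22Ok.ok_flip_di
    Fi22Three.ok_three ⟨_, Fi22Ok.ord_five, Fi22Ok.ok_five0⟩ ⟨_, Fi22Ok.ord_seven, Fi22Ok.ok_seven0⟩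
    ⟨_, Fi22Ok.ord_eleven, Fi22Ok.ok_eleven0⟩ ⟨_, Fi22Ok.ord_thirteen, Fi22Ok.ok_thirteen0⟩

theorem good_fi {K : Type*} [Group K] (h : Spor.IsoFi22 K) : HasGoodW K := by
  obtain ⟨e⟩ := h
  exact good.congr e.symm

end Cfsg.Agent.H585.FacFi
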