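import Cfsg.Agent.H585.FacTable
import Cfsg.Agent.H585.FacFi
import Cfsg.Agent.H479.GoodPSLTwo
import Cfsg.Agent.H518.SUGood
import Cfsg.Agent.H518.SUAntiFin
import Cfsg.Agent.H518.SUSevenFin
import Cfsg.Agent.H518.SUSpSix

/-!
# S4384: the complete table of the known simple groups (helper585)
-/

set_option autoImplicit false
set_option linter.unusedSectionVars false

namespace Cfsg.Agent.H585.FacAll

open Subgroup Cfsg Cfsg.Agent.H585.Good Cfsg.Agent.H585.GW Cfsg.Agent.H585.FacTable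

universe u

variable {K : Type u} [Group K] [Finite K] [IsSimpleGroup K]

theorem not_comm_of_equiv {K : Type*} [Group K] {L : Type*} [Group L] (hK : ¬ IsMulCommutative K) (e : K ≃* L) :
    ¬ IsMulCommutative L := by
  intro h
  apply hK
  refine ⟨⟨fun a b => e.injective ?_⟩⟩
  rw [map_mul, map_mul]
  exact h.is_comm.comm _ _

/-- exceptional rows given by `Exc1` -/
theorem of_exc1 (hK : ¬ IsMulCommutative K) {L : Type*} [Group L] (e : K ≃* L)
    (h : Subgroup.center L = ⊥ → IsSimpleGroup L → H518.SU.Exc1 L) : HasGoodW K := by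
  have hs : IsSimpleGroup L := e.symm.isSimpleGroup
  have hf : Finite L := Finite.of_equiv K e.toEquiv
  have hL := not_comm_of_equiv hK e
  exact (H518.SU.hasGoodW_of_exc1 hL (h (H518.SU.center_eq_bot_of_simple hL) hs)).congr e.symm

/-- the rows which are hypotheses here -/
structure Pend (K : Type u) [Group K] : Prop where
  psp : ∀ (F : Type) [Field F] [Fintype F], Fintype.card F = 3 → (K ≃* Cfsg.PSp 2 F) → HasGoodW K
  psu : ∀ (F : Type) [Field F] [Fintype F], Fintype.card F = 4 → (K ≃* Cfsg.PSU 4 F 2) → HasGoodW K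
  o2 : ∀ (F : Type) [Field F] [Fintype F], Fintype.card F = 2 →
    (K ≃* Cfsg.POmega F (Cfsg.quadFormPlus 4 F)) → HasGoodW K
  o3 : ∀ (F : Type) [Field F] [Fintype F], Fintype.card F = 3 →
    (K ≃* Cfsg.POmega F (Cfsg.quadFormPlus 4 F)) → HasGoodW K
  o5 : ∀ (F : Type) [Field F] [Fintype F], Fintype.card F = 5 →
    (K ≃* Cfsg.POmega F (Cfsg.quadFormPlus 4 F)) → HasGoodW K

theorem exceptions (hK : ¬ IsMulCommutative K) (hp : Pend K) (h : H518.SU.Exceptions K) : HasGoodW K := by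
  obtain ⟨F, _, _, h⟩ := h
  rcases h with ⟨hF, ⟨e⟩⟩ | ⟨hF, ⟨e⟩⟩ | ⟨hF, ⟨e⟩⟩ | ⟨hF, ⟨e⟩⟩ | ⟨hF, ⟨e⟩⟩ | ⟨hF, ⟨e⟩⟩ | ⟨hF, ⟨e⟩⟩ | ⟨hF, ⟨e⟩⟩ |
    ⟨hF, ⟨e⟩⟩ | ⟨hF, ⟨e⟩⟩
  · exact of_exc1 hK e fun hZ _ => H518.SU.exc_psl_six hF hZ
  · exact of_exc1 hK e fun hZ _ => H518.SU.exc_psl_four hF hZ
  · exact of_exc1 hK e fun hZ hs => H518.SU.exc_psp_six hF hZ hs
  · exact hp.psp F hF e
  · exact hp.psu F hF e
  · exact of_exc1 hK e fun hZ _ => H518.SU.exc_odd_seven_three hF hZ
  · exact of_exc1 hK e fun hZ _ => H518.SU.exc_odd_seven_five hF hZ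
  · exact hp.o2 F hF e
  · exact hp.o3 F hF e
  · exact hp.o5 F hF e

theorem classical (hK : ¬ IsMulCommutative K) (hp : Pend K) (h : IsPSL K ∨ IsPSp K ∨ IsPSU K ∨ IsPOmegaOdd K ∨
    IsPOmegaPlus K ∨ IsPOmegaMinus K) : HasGoodW K := by
  rcases H518.SU.hasGoodW_classical hK h with ⟨F, _, _, hF, ⟨e⟩⟩ | h | h
  · exact H479.GoodPSLTwo.good_psl_two hK e hF
  · exact exceptions hK hp h
  · exact h

theorem alternating (hK : ¬ IsMulCommutative K) (h : IsAlternating K) : HasGoodW K := by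
  obtain ⟨n, hn, ⟨e⟩⟩ := h
  rcases (by omega : n = 5 ∨ n = 6 ∨ 7 ≤ n) with rfl | rfl | h7
  · have : Fact (Nat.Prime 2) := ⟨Nat.prime_two⟩
    let F := GaloisField 2 2
    have : Fintype F := Fintype.ofFinite F
    have hc : Fintype.card F = 4 := by
      rw [← Nat.card_eq_fintype_card, GaloisField.card 2 2 (by norm_num)]
      norm_num
    obtain ⟨e'⟩ := S0252.result hc
    exact H479.GoodPSLTwo.good_psl_two hK (F := F) (e.trans e'.symm) (by rw [hc])
  · have : Fact (Nat.Prime 3) := ⟨Nat.prime_three⟩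
    let F := GaloisField 3 2
    have : Fintype F := Fintype.ofFinite F
    have hc : Fintype.card F = 9 := by
      rw [← Nat.card_eq_fintype_card, GaloisField.card 3 2 (by norm_num)]
      norm_num
    obtain ⟨e'⟩ := S0254.result hc
    exact H479.GoodPSLTwo.good_psl_two hK (F := F) (e.trans e'.symm) (by rw [hc]; norm_num)
  · exact AltGood.good_alt hK h7 e

/-- **The table**, given the pending rows. -/
theorem table_of (hK : ¬ IsMulCommutative K) (hp : Pend K) (h : IsKnownSimple' K) : HasGoodW K := by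
  rcases h with h | h | h | h | h | h | h | h | h | h
  · exfalso
    have : Fact (Nat.card K).Prime := ⟨h⟩
    have := isCyclic_of_prime_card (α := K) rfl
    exact hK IsCyclic.isMulCommutative
  · exact alternating hK h
  · exact classical hK hp (Or.inl h)
  · exact classical hK hp (Or.inr (Or.inl h))
  · exact classical hK hp (Or.inr (Or.inr (Or.inl h)))
  · exact classical hK hp (Or.inr (Or.inr (Or.inr (Or.inl h))))
  · exact classical hK hp (Or.inr (Or.inr (Or.inr (Or.inr (Or.inl h)))))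
  · exact classical hK hp (Or.inr (Or.inr (Or.inr (Or.inr (Or.inr h)))))
  · exact (hasGood_exceptional hK h).toW hK
  · rcases H583.GoodSpor.good_sporadic hK h with h | h
    · exact h.toW hK
    · exact FacFi.good_fi h

end Cfsg.Agent.H585.FacAll
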