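import Cfsg.Agent.H585.FacAll
import Cfsg.Agent.H518.SUExcAll
import Cfsg.Agent.H465.OEMain

/-!
# S4384: the table of the known simple groups, all rows (helper585)
-/

set_option autoImplicit false
set_option linter.unusedSectionVars false

namespace Cfsg.Agent.H585.FacEnd

open Subgroup Cfsg Cfsg.Agent.H585.Good Cfsg.Agent.H585.GW Cfsg.Agent.H585.FacTable Cfsg.Agent.H585.FacAll

universe u

variable {K : Type u} [Group K] [Finite K] [IsSimpleGroup K]

theorem of_exc2 (hK : ¬ IsMulCommutative K) {L : Type*} [Group L] (e : K ≃* L) (h : H518.SU.Exc2 L) : HasGoodW K := by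
  have hs : IsSimpleGroup L := e.symm.isSimpleGroup
  have hf : Finite L := Finite.of_equiv K e.toEquiv
  exact (H518.SU.hasGoodW_of_exc2 (not_comm_of_equiv hK e) h).congr e.symm

theorem exceptions (hK : ¬ IsMulCommutative K) (h : H518.SU.Exceptions K) : HasGoodW K := by
  rcases H518.SU.exc1_of_exceptions (H518.SU.center_eq_bot_of_simple hK) h with h | ⟨F, _, _, hF, ⟨e⟩⟩
  · exact H518.SU.hasGoodW_of_exc1 hK h
  · exact of_exc2 hK (e.trans (H597.OECards.pe8 (F := F))) (H465.OEight.exc_P8 hF)

theorem classical (hK : ¬ IsMulCommutative K) (h : IsPSL K ∨ IsPSp K ∨ IsPSU K ∨ IsPOmegaOdd K ∨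
    IsPOmegaPlus K ∨ IsPOmegaMinus K) : HasGoodW K := by
  rcases H518.SU.hasGoodW_classical hK h with ⟨F, _, _, hF, ⟨e⟩⟩ | h | h
  · exact H479.GoodPSLTwo.good_psl_two hK e hF
  · exact exceptions hK h
  · exact h

/-- **The table**: every known non-abelian finite simple group has a good prime (weak form). -/
theorem table (hK : ¬ IsMulCommutative K) (h : IsKnownSimple' K) : HasGoodW K := by
  rcases h with h | h | h | h | h | h | h | h | h | h
  · exfalso
    have : Fact (Nat.card K).Prime := ⟨h⟩
    have := isCyclic_of_prime_card (α := K) rfl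
    exact hK IsCyclic.isMulCommutative
  · exact alternating hK h
  · exact classical hK (Or.inl h)
  · exact classical hK (Or.inr (Or.inl h))
  · exact classical hK (Or.inr (Or.inr (Or.inl h)))
  · exact classical hK (Or.inr (Or.inr (Or.inr (Or.inl h))))
  · exact classical hK (Or.inr (Or.inr (Or.inr (Or.inr (Or.inl h)))))
  · exact classical hK (Or.inr (Or.inr (Or.inr (Or.inr (Or.inr h)))))
  · exact (hasGood_exceptional hK h).toW hK
  · rcases H583.GoodSpor.good_sporadic hK h with h | h
    · exact h.toW hK
    · exact FacFi.good_fi h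

end Cfsg.Agent.H585.FacEnd
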