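import Mathlib
import Cfsg.Agent.H459.Reduce
import Cfsg.Agent.H465.Red
import Cfsg.Agent.H585.GoodW

/-!
# Factorised groups and actions on components (helper585, for S4384)

* `Fac A B` (`G = AB`), `Dag A B` (elements of coprime prime power orders of `A`, `B` generate solvable subgroups);
  `Fac.symm`, `Fac.map`, `Fac.cj`, `Dag.symm`, `Dag.quot`, `Dag.conj`;
* `Acts T g β` : `g` acts on `T` by conjugation as `β`; `acts_solvable`;
* `Fac.card` : `|A| |B| = |G| |A ∩ B|`.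
-/

set_option autoImplicit false
set_option linter.unusedSectionVars false

namespace Cfsg.Agent.H585.FacTwo

open Cfsg Subgroup Cfsg.Agent.H459.Rad Cfsg.Agent.H459.Reduce Cfsg.Agent.H465.Red
open Cfsg.Agent.SignalizersComponents.Components Cfsg.Agent.SignalizersComponents.ComponentExists
open Cfsg.Agent.H585.Good Cfsg.Agent.H585.FacOne Cfsg.Agent.H585.GW

variable {G : Type*} [Group G]

/-- `G = AB` -/
def Fac {G : Type*} [Group G] (A B : Subgroup G) : Prop := ∀ g : G, ∃ a ∈ A, ∃ b ∈ B, g = a * b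

/-- elements of coprime prime power orders of `A`, `B` generate solvable subgroups -/
def Dag {G : Type*} [Group G] (A B : Subgroup G) : Prop :=
  ∀ p q : ℕ, p.Prime → q.Prime → p ≠ q → ∀ a ∈ A, ∀ b ∈ B, (∃ i : ℕ, orderOf a = p ^ i) →
    (∃ j : ℕ, orderOf b = q ^ j) → Group.IsSolvable (closure ({a, b} : Set G))

theorem Fac.symm {A B : Subgroup G} (h : Fac A B) : Fac B A := by
  intro g
  obtain ⟨a, ha, b, hb, e⟩ := h g⁻¹
  refine ⟨b⁻¹, inv_mem hb, a⁻¹, inv_mem ha, ?_⟩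
  rw [← mul_inv_rev, ← e, inv_inv]

theorem Fac.map {A B : Subgroup G} (h : Fac A B) {H : Type*} [Group H] (f : G →* H) (hf : Function.Surjective f) :
    Fac (A.map f) (B.map f) := by
  intro y
  obtain ⟨g, rfl⟩ := hf y
  obtain ⟨a, ha, b, hb, e⟩ := h g
  exact ⟨f a, ⟨a, ha, rfl⟩, f b, ⟨b, hb, rfl⟩, by rw [e, map_mul]⟩

theorem Fac.cj [Finite G] {A B : Subgroup G} (h : Fac A B) (g k : G) : Fac (cj g A) (cj k B) := by
  intro x
  obtain ⟨a₀, ha₀, b₀, hb₀, e₀⟩ := h (g⁻¹ * k)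
  obtain ⟨a₁, ha₁, b₁, hb₁, e₁⟩ := h (g⁻¹ * x * k)
  refine ⟨_, conj_mem_cj (mul_mem ha₁ (inv_mem ha₀)), _, conj_mem_cj (mul_mem (inv_mem hb₀) hb₁), ?_⟩
  have e2 : x = g * (a₁ * b₁) * k⁻¹ := by rw [← e₁]; group
  have e3 : g⁻¹ * k = a₀ * b₀ := e₀
  calc x = g * (a₁ * b₁) * k⁻¹ := e2
    _ = g * (a₁ * a₀⁻¹) * (a₀ * b₀) * (b₀⁻¹ * b₁) * k⁻¹ := by group
    _ = g * (a₁ * a₀⁻¹) * (g⁻¹ * k) * (b₀⁻¹ * b₁) * k⁻¹ := by rw [e3]
    _ = g * (a₁ * a₀⁻¹) * g⁻¹ * (k * (b₀⁻¹ * b₁) * k⁻¹) := by group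

theorem Dag.symm {A B : Subgroup G} (h : Dag A B) : Dag B A := by
  intro p q hp hq hpq b hb a ha hbo hao
  rw [Set.pair_comm]
  exact h q p hq hp (Ne.symm hpq) a ha b hb hao hbo

theorem Dag.quot [Finite G] {A B : Subgroup G} (h : Dag A B) (N : Subgroup G) [N.Normal] :
    Dag (A.map (QuotientGroup.mk' N)) (B.map (QuotientGroup.mk' N)) := by
  have key : ∀ (C : Subgroup G) (p : ℕ), p.Prime → ∀ c ∈ C.map (QuotientGroup.mk' N), (∃ i : ℕ, orderOf c = p ^ i) →
      ∃ d ∈ C, QuotientGroup.mk' N d = c ∧ ∃ j : ℕ, orderOf d = p ^ j := by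
    rintro C p hp c hc ⟨i, hi⟩
    obtain ⟨d, hd, j, hj⟩ := exists_lift ((QuotientGroup.mk' N).subgroupMap C)
      ((QuotientGroup.mk' N).subgroupMap_surjective C) (p := p) (k := i) hp (h := ⟨c, hc⟩)
      (by rw [Subgroup.orderOf_mk, hi])
    exact ⟨d, d.2, congrArg Subtype.val hd, j, by rw [Subgroup.orderOf_coe, hj]⟩
  intro p q hp hq hpq a ha b hb hao hbo
  obtain ⟨a', ha', rfl, hao'⟩ := key A p hp a ha hao
  obtain ⟨b', hb', rfl, hbo'⟩ := key B q hq b hb hbo
  have h1 := h p q hp hq hpq a' ha' b' hb' hao' hbo'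
  have h2 := solvable_map h1 (QuotientGroup.mk' N)
  rwa [MonoidHom.map_closure, Set.image_pair] at h2

theorem solvable_pair_subtype {X : Subgroup G} {a b : X}
    (h : Group.IsSolvable (closure ({(a : G), (b : G)} : Set G))) :
    Group.IsSolvable (closure ({a, b} : Set X)) := by
  have h1 : (closure ({a, b} : Set X)).map X.subtype = closure ({(a : G), (b : G)} : Set G) := by
    rw [MonoidHom.map_closure, Set.image_pair]; rfl
  rw [← h1] at h
  exact Group.isSolvable_of_isSolvable_injective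
    (f := ((closure ({a, b} : Set X)).equivMapOfInjective X.subtype X.subtype_injective).toMonoidHom)
    (MulEquiv.injective _)

theorem Dag.subgroupOf {A B A₁ B₁ X : Subgroup G} (h : Dag A B) (hA : A₁ ≤ A) (hB : B₁ ≤ B) :
    Dag (A₁.subgroupOf X) (B₁.subgroupOf X) := by
  rintro p q hp hq hpq a ha b hb ⟨i, hi⟩ ⟨j, hj⟩
  exact solvable_pair_subtype (h p q hp hq hpq a (hA (mem_subgroupOf.1 ha)) b (hB (mem_subgroupOf.1 hb))
    ⟨i, by rw [Subgroup.orderOf_coe, hi]⟩ ⟨j, by rw [Subgroup.orderOf_coe, hj]⟩)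

theorem solvable_conj_pair {a b : G} (g : G) (h : Group.IsSolvable (closure ({a, b} : Set G))) :
    Group.IsSolvable (closure ({g * a * g⁻¹, g * b * g⁻¹} : Set G)) := by
  have h1 := solvable_map h (MulAut.conj g).toMonoidHom
  rwa [MonoidHom.map_closure, Set.image_pair] at h1

theorem orderOf_conj' (g a : G) : orderOf (g * a * g⁻¹) = orderOf a := by
  have e : g * a * g⁻¹ = MulAut.conj g a := rfl
  rw [e, MulEquiv.orderOf_eq]

/-- all conjugates -/
theorem Dag.conj {A B : Subgroup G} (h : Dag A B) (hF : Fac A B) {p q : ℕ} (hp : p.Prime) (hq : q.Prime)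
    (hpq : p ≠ q) {a b : G} (ha : a ∈ A) (hb : b ∈ B) (hao : ∃ i : ℕ, orderOf a = p ^ i)
    (hbo : ∃ j : ℕ, orderOf b = q ^ j) (g : G) : Group.IsSolvable (closure ({g * a * g⁻¹, b} : Set G)) := by
  obtain ⟨b', hb', a', ha', e⟩ := hF.symm g
  have h1 : Group.IsSolvable (closure ({a' * a * a'⁻¹, b'⁻¹ * b * b'} : Set G)) := by
    refine h p q hp hq hpq _ (mul_mem (mul_mem ha' ha) (inv_mem ha')) _ (mul_mem (mul_mem (inv_mem hb') hb) hb')
      ?_ ?_
    · obtain ⟨i, hi⟩ := hao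
      exact ⟨i, by rw [orderOf_conj', hi]⟩
    · obtain ⟨j, hj⟩ := hbo
      refine ⟨j, ?_⟩
      have e1 : b'⁻¹ * b * b' = b'⁻¹ * b * (b'⁻¹)⁻¹ := by rw [inv_inv]
      rw [e1, orderOf_conj', hj]
  have h2 := solvable_conj_pair b' h1
  have e1 : b' * (a' * a * a'⁻¹) * b'⁻¹ = g * a * g⁻¹ := by rw [e]; group
  have e2 : b' * (b'⁻¹ * b * b') * b'⁻¹ = b := by group
  rwa [e1, e2] at h2

/-- `|A| |B| = |G| |A ∩ B|` -/
theorem Fac.card [Finite G] {A B : Subgroup G} (h : Fac A B) :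
    Nat.card A * Nat.card B = Nat.card G * Nat.card (A ⊓ B : Subgroup G) := by
  choose α hα β hβ hαβ using h
  rw [← Nat.card_prod, ← Nat.card_prod]
  symm
  refine Nat.card_congr (Equiv.ofBijective (fun x : G × (A ⊓ B : Subgroup G) =>
    ((⟨α x.1 * x.2, mul_mem (hα _) x.2.2.1⟩ : A), (⟨(x.2 : G)⁻¹ * β x.1, mul_mem (inv_mem x.2.2.2) (hβ _)⟩ : B)))
    ⟨?_, ?_⟩)
  · rintro ⟨g, c⟩ ⟨g', c'⟩ hgc
    have h1 : α g * (c : G) = α g' * (c' : G) := congrArg (fun z => (z.1 : G)) hgc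
    have h2 : (c : G)⁻¹ * β g = (c' : G)⁻¹ * β g' := congrArg (fun z => (z.2 : G)) hgc
    have h3 : g = g' := by
      calc g = α g * β g := hαβ g
        _ = (α g * c) * ((c : G)⁻¹ * β g) := by group
        _ = (α g' * c') * ((c' : G)⁻¹ * β g') := by rw [h1, h2]
        _ = α g' * β g' := by group
        _ = g' := (hαβ g').symm
    subst h3
    have h4 : (c : G) = c' := mul_left_cancel h1
    rw [Subtype.ext h4]
  · rintro ⟨⟨a, ha⟩, ⟨b, hb⟩⟩
    have e1 : a * b = α (a * b) * β (a * b) := hαβ _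
    have e2 : (α (a * b))⁻¹ * a = β (a * b) * b⁻¹ := by
      rw [inv_mul_eq_iff_eq_mul, ← mul_assoc, ← e1]; group
    have m1 : (α (a * b))⁻¹ * a ∈ A := A.mul_mem (A.inv_mem (hα _)) ha
    have m2 : (α (a * b))⁻¹ * a ∈ B := by rw [e2]; exact B.mul_mem (hβ _) (B.inv_mem hb)
    refine ⟨(a * b, ⟨(α (a * b))⁻¹ * a, mem_inf.2 ⟨m1, m2⟩⟩), ?_⟩
    refine Prod.ext (Subtype.ext ?_) (Subtype.ext ?_)
    · show α (a * b) * ((α (a * b))⁻¹ * a) = a
      group
    · show ((α (a * b))⁻¹ * a)⁻¹ * β (a * b) = b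
      rw [e2]; group

/-! ### actions on subgroups -/

/-- `g` acts on `T` by conjugation as `β` -/
def Acts (T : Subgroup G) (g : G) (β : MulAut T) : Prop := ∀ t : T, g * (t : G) * g⁻¹ = (β t : G)

variable {T : Subgroup G} {g h : G} {β γ : MulAut T}

theorem Acts.one : Acts T (1 : G) 1 := fun t => by simp

theorem Acts.mul (h1 : Acts T g β) (h2 : Acts T h γ) : Acts T (g * h) (β * γ) := by
  intro t
  rw [MulAut.mul_apply, ← h1, ← h2]
  group

theorem Acts.inv (h1 : Acts T g β) : Acts T g⁻¹ β⁻¹ := by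
  intro t
  have h2 := h1 (β⁻¹ t)
  rw [MulAut.apply_inv_self] at h2
  rw [← h2]
  group

theorem Acts.pow (h1 : Acts T g β) (n : ℕ) : Acts T (g ^ n) (β ^ n) := by
  induction n with
  | zero => simpa using Acts.one
  | succ n ih => rw [pow_succ, pow_succ]; exact ih.mul h1

theorem Acts.unique (h1 : Acts T g β) (h2 : Acts T g γ) : β = γ := by
  ext t
  rw [← h1, ← h2]

theorem Acts.of_mem (t : T) : Acts T (t : G) (MulAut.conj t) := fun s => by simp

theorem Acts.of_comm (hc : ∀ t ∈ T, g * t = t * g) : Acts T g 1 := fun t => by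
  rw [hc t t.2]; simp

theorem Acts.comm (h1 : Acts T g 1) {t : G} (ht : t ∈ T) : g * t = t * g := by
  have h2 := h1 ⟨t, ht⟩
  simp only [MulAut.one_apply] at h2
  rwa [mul_inv_eq_iff_eq_mul] at h2

theorem Acts.conj_mem (h1 : Acts T g β) {t : G} (ht : t ∈ T) : g * t * g⁻¹ ∈ T := by
  rw [h1 ⟨t, ht⟩]
  exact (β ⟨t, ht⟩).2

theorem exists_acts (h1 : ∀ t ∈ T, g * t * g⁻¹ ∈ T) (h2 : ∀ t ∈ T, g⁻¹ * t * g ∈ T) : ∃ β : MulAut T, Acts T g β :=
  ⟨{ toFun := fun t => ⟨g * t * g⁻¹, h1 t t.2⟩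
     invFun := fun t => ⟨g⁻¹ * t * g, h2 t t.2⟩
     left_inv := fun t => Subtype.ext (by simp; group)
     right_inv := fun t => Subtype.ext (by simp; group)
     map_mul' := fun s t => Subtype.ext (by simp) }, fun t => rfl⟩

/-- the automorphisms of `T` induced by a solvable group form a solvable group -/
theorem acts_solvable {S : Subgroup G} (hS : Group.IsSolvable S) (T : Subgroup G) :
    ∃ W : Subgroup (MulAut T), Group.IsSolvable W ∧ ∀ g ∈ S, ∀ β : MulAut T, Acts T g β → β ∈ W := by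
  let S' : Subgroup G := S ⊓ normalizer (T : Set G)
  have hex : ∀ g : S', ∃ β : MulAut T, Acts T (g : G) β := by
    intro g
    have hg := g.2.2
    refine exists_acts (fun t ht => (mem_normalizer_iff.1 hg t).1 ht) fun t ht => ?_
    have h2 := (mem_normalizer_iff.1 (inv_mem hg) t).1 ht
    rwa [inv_inv] at h2
  choose f hf using hex
  let F : S' →* MulAut T :=
    { toFun := f
      map_one' := (hf 1).unique Acts.one
      map_mul' := fun a b => (hf (a * b)).unique ((hf a).mul (hf b)) }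
  refine ⟨F.range, ?_, ?_⟩
  · have h1 : Group.IsSolvable S' := solvable_mono inf_le_left hS
    exact Group.isSolvable_of_surjective (f := F.rangeRestrict) F.rangeRestrict_surjective
  · intro g hg β hβ
    have hgN : g ∈ normalizer (T : Set G) := by
      rw [mem_normalizer_iff]
      intro t
      refine ⟨fun ht => hβ.conj_mem ht, fun ht => ?_⟩
      have h2 := hβ.inv.conj_mem ht
      have e : g⁻¹ * (g * t * g⁻¹) * g⁻¹⁻¹ = t := by group
      rwa [e] at h2
    exact ⟨⟨g, hg, hgN⟩, (hf _).unique hβ⟩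

/-- two elements of a solvable group -/
theorem acts_pair {S : Subgroup G} (hS : Group.IsSolvable S) {g h : G} (hg : g ∈ S) (hh : h ∈ S)
    (h1 : Acts T g β) (h2 : Acts T h γ) : Group.IsSolvable (closure ({β, γ} : Set (MulAut T))) := by
  obtain ⟨W, hW, hall⟩ := acts_solvable hS T
  refine solvable_mono ?_ hW
  rw [closure_le]
  rintro x (rfl | rfl)
  · exact hall g hg _ h1
  · exact hall h hh _ h2

end Cfsg.Agent.H585.FacTwo
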