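import Mathlib
import Cfsg.Agent.H585.FacTwo

/-!
# The two local lemmas (helper585, for S4384)

* `lemmaH` : if `D ≤ A` is full then every `q`-element of `B`, `q ≠ r`, is trivial;
* `lemmaJ` : `B` contains no element of order `r` if its `r`-elements generate solvable groups with all elements of
  prime power order prime to `r`.
-/

set_option autoImplicit false
set_option linter.unusedSectionVars false

namespace Cfsg.Agent.H585.FacThree

open Cfsg Subgroup Cfsg.Agent.H459.Rad Cfsg.Agent.H459.Reduce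
open Cfsg.Agent.H465.Red (exists_lift)
open Cfsg.Agent.SignalizersComponents.Components Cfsg.Agent.SignalizersComponents.ComponentExists
open Cfsg.Agent.H585.Good Cfsg.Agent.H585.FacOne Cfsg.Agent.H585.GW Cfsg.Agent.H585.FacTwo
open scoped Pointwise

/-- If `A` normalizes `T` and both are solvable, then `A ⊔ T` is solvable. -/
theorem solvable_sup {G : Type*} [Group G] {A T : Subgroup G}
    (hA : Group.IsSolvable A) (hT : Group.IsSolvable T)
    (hnorm : A ≤ Subgroup.normalizer (T : Set G)) : Group.IsSolvable (A ⊔ T : Subgroup G) := by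
  have hle : A ⊔ T ≤ Subgroup.normalizer (T : Set G) := sup_le hnorm Subgroup.le_normalizer
  let N : Subgroup G := A ⊔ T
  let T' : Subgroup N := T.subgroupOf N
  have hT'n : T'.Normal := ⟨fun t ht x => by
    rw [Subgroup.mem_subgroupOf] at ht ⊢
    exact (Subgroup.mem_normalizer_iff.1 (hle x.2) t).1 ht⟩
  have hT's : Group.IsSolvable T' := by
    refine Group.isSolvable_of_isSolvable_injective
      (f := ((Subgroup.subgroupOfEquivOfLe (le_sup_right : T ≤ N)).toMonoidHom)) ?_
    exact (Subgroup.subgroupOfEquivOfLe (le_sup_right : T ≤ N)).injective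
  have hQ : Group.IsSolvable (N ⧸ T') := by
    let f : A →* N ⧸ T' := (QuotientGroup.mk' T').comp (Subgroup.inclusion (le_sup_left : A ≤ N))
    refine Group.isSolvable_of_surjective (f := f) ?_
    intro q
    obtain ⟨x, rfl⟩ := QuotientGroup.mk_surjective q
    have hx := x.2
    have this1 : (x : G) ∈ (A ⊔ T : Subgroup G) := hx
    have h3 : ((A ⊔ T : Subgroup G) : Set G) = (A : Set G) * (T : Set G) :=
      Subgroup.coe_mul_of_left_le_normalizer_right A T hnorm
    have h4 : (x : G) ∈ (A : Set G) * (T : Set G) := by rw [← h3]; exact this1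
    obtain ⟨a, ha, t, ht, hat⟩ := h4
    refine ⟨⟨a, ha⟩, ?_⟩
    rw [MonoidHom.comp_apply, QuotientGroup.mk'_apply, QuotientGroup.eq, Subgroup.mem_subgroupOf]
    have h5 : ((Subgroup.inclusion (le_sup_left : A ≤ N) ⟨a, ha⟩)⁻¹ * x : N).1 = t := by
      have h6 : ((Subgroup.inclusion (le_sup_left : A ≤ N) ⟨a, ha⟩)⁻¹ * x : N).1 = a⁻¹ * x := rfl
      rw [h6, ← hat]
      simp
    rw [h5]
    exact ht
  exact (Group.isSolvable_iff_subgroup_quotient T').2 ⟨hT's, hQ⟩

/-- `⟨x, c⟩` is solvable if `⟨x^i c x^-i⟩` is -/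
theorem solvable_of_powers {K : Type*} [Group K] {x c : K} {H : Subgroup K} (hH : Group.IsSolvable H)
    (hc : c ∈ H) (hx : x ∈ Subgroup.normalizer (H : Set K)) :
    Group.IsSolvable (closure ({x, c} : Set K)) := by
  have h1 : Group.IsSolvable (zpowers x) := Group.isSolvable_of_comm fun a b => Subtype.ext (by
    obtain ⟨i, hi⟩ := mem_zpowers_iff.1 a.2
    obtain ⟨j, hj⟩ := mem_zpowers_iff.1 b.2
    show (a : K) * b = b * a
    rw [← hi, ← hj, ← zpow_add, ← zpow_add, add_comm])
  refine solvable_mono ?_ (solvable_sup h1 hH (zpowers_le.2 hx))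
  rw [closure_le]
  rintro z (rfl | rfl)
  · exact (le_sup_left : zpowers _ ≤ _) (mem_zpowers _)
  · exact (le_sup_right : H ≤ _) hc

variable {G : Type*} [Group G] [Finite G]

theorem cj_mul (g h : G) (T : Subgroup G) : cj (g * h) T = cj g (cj h T) := by
  ext x
  rw [mem_cj, mem_cj, mem_cj]
  have e : (g * h)⁻¹ * x * (g * h) = h⁻¹ * (g⁻¹ * x * g) * h := by group
  rw [e]

theorem cj_one (T : Subgroup G) : cj 1 T = T := by
  ext x
  rw [mem_cj]
  simp

theorem cj_inv_eq {g : G} {T T' : Subgroup G} (h : cj g T = T') : cj g⁻¹ T' = T := by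
  rw [← h, ← cj_mul, inv_mul_cancel, cj_one]

theorem component_cj {T : Subgroup G} (hT : IsComponent T) (g : G) : IsComponent (cj g T) :=
  isComponent_conj g hT

/-- elements of different components commute -/
theorem comm_of_ne {T T' : Subgroup G} (hT : IsComponent T) (hT' : IsComponent T') (h : T ≠ T') {s t : G}
    (hs : s ∈ T) (ht : t ∈ T') : s * t = t * s :=
  (mem_centralizer_iff.1 (component_le_centralizer_of_ne hT hT' h hs) t ht).symm

theorem exists_acts_of_cj {T : Subgroup G} {g : G} (h : cj g T = T) : ∃ β : MulAut T, Acts T g β := by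
  refine exists_acts (fun t ht => ?_) fun t ht => ?_
  · rw [← h]; exact conj_mem_cj ht
  · rw [← mem_cj, h]; exact ht

theorem cj_of_acts {T : Subgroup G} {g : G} {β : MulAut T} (h : Acts T g β) : cj g T = T := by
  ext x
  rw [mem_cj]
  constructor
  · intro hx
    have h2 := h.conj_mem hx
    have e : g * (g⁻¹ * x * g) * g⁻¹ = x := by group
    rwa [e] at h2
  · intro hx
    have h2 := h.inv.conj_mem hx
    rwa [inv_inv] at h2

/-- a power of prime order -/
theorem exists_pow_prime {K : Type*} [Group K] {β : K} (hfin : IsOfFinOrder β) (hβ : β ≠ 1) :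
    ∃ m, (orderOf (β ^ m)).Prime ∧ orderOf (β ^ m) ∣ orderOf β := by
  have h1 : orderOf β ≠ 1 := fun h => hβ (orderOf_eq_one_iff.1 h)
  have h2 := Nat.minFac_prime h1
  refine ⟨orderOf β / (orderOf β).minFac, ?_, orderOf_pow_dvd _⟩
  have h3 : orderOf (β ^ (orderOf β / (orderOf β).minFac)) = (orderOf β).minFac :=
    orderOf_pow_orderOf_div hfin.orderOf_pos.ne' (Nat.minFac_dvd _)
  rw [h3]
  exact h2

/-- `D` contains elements acting on `T` with full order `r^a`, and nontrivially on `T'` -/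
def Full (r a : ℕ) (D : Subgroup G) : Prop :=
  ∀ T, IsComponent T → ∀ T', IsComponent T' → ∃ u ∈ D, (∃ k, orderOf u = r ^ k) ∧
    (∃ s : T, orderOf s = r ^ a ∧ Acts T u (MulAut.conj s)) ∧ cj u T' = T' ∧ ∃ t ∈ T', u * t ≠ t * u

variable {r a : ℕ}

theorem center_T (hR : solvableRadical G = ⊥) {T : Subgroup G} (hT : IsComponent T) : center T = ⊥ :=
  component_center hR hT

/-- **Lemma H** -/
theorem lemmaH (hR : solvableRadical G = ⊥) (hr : r.Prime)
    (hg : ∀ T : Subgroup G, IsComponent T → ∃ y : T, GoodW T r a y)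
    {A B D : Subgroup G} (hF : Fac A B) (hdag : Dag A B) (hDA : D ≤ A) (hfull : Full r a D) {q : ℕ} (hq : q.Prime)
    (hqr : q ≠ r) {b : G} (hb : b ∈ B) (hbo : ∃ j, orderOf b = q ^ j) : b = 1 := by
  by_contra hb1
  obtain ⟨T, hT, t, htT, hbt⟩ := exists_component hR hb1
  obtain ⟨y, hy⟩ := hg T hT
  -- the conclusion
  have key : ∀ (u : G) (s : T) (β : MulAut T) (h : T → G), u ∈ D → (∃ k, orderOf u = r ^ k) → orderOf s = r ^ a →
      Acts T u (MulAut.conj s) → β ≠ 1 → (∀ k : T, h k ∈ closure ({(k : G) * u * (k : G)⁻¹, b} : Set G)) →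
      (∀ k : T, Acts T (h k) β) → False := by
    intro u s β h huD huo hs hus hβ1 hhS hh
    obtain ⟨m, hm, -⟩ := exists_pow_prime (isOfFinOrder_of_finite β) hβ1
    obtain ⟨k, hk⟩ := (hy.of_order hs).ns (β ^ m) hm
    apply hk
    have h1 := hdag.conj hF hr hq (Ne.symm hqr) (hDA huD) hb huo hbo (k : G)
    refine acts_pair h1 (g := (k : G) * u * (k : G)⁻¹) (h := (h k) ^ m) (subset_closure (by simp))
      (pow_mem (hhS k) m) ?_ ((hh k).pow m)
    have h2 := ((Acts.of_mem k).mul hus).mul (Acts.of_mem k).inv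
    rwa [← map_inv, ← map_mul, ← map_mul] at h2
  by_cases hn : cj b T = T
  · obtain ⟨β, hβ⟩ := exists_acts_of_cj hn
    have hβ1 : β ≠ 1 := by
      rintro rfl
      exact hbt (hβ.comm htT)
    obtain ⟨u, huD, huo, ⟨s, hs, hus⟩, -, -⟩ := hfull T hT T hT
    exact key u s β (fun _ => b) huD huo hs hus hβ1 (fun k => subset_closure (by simp)) fun _ => hβ
  · have hT' := component_cj hT b
    obtain ⟨u, huD, huo, ⟨s, hs, hus⟩, hcu, t', ht', hut'⟩ := hfull T hT (cj b T) hT'
    -- `b⁻¹ u b` normalises `T`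
    have hv : cj (b⁻¹ * u * b) T = T := by
      rw [cj_mul, cj_mul, hcu]
      exact cj_inv_eq rfl
    obtain ⟨γ, hγ⟩ := exists_acts_of_cj hv
    have hγ1 : γ ≠ 1 := by
      rintro rfl
      have h1 := hγ.comm (mem_cj.1 ht')
      apply hut'
      calc u * t' = b * ((b⁻¹ * u * b) * (b⁻¹ * t' * b)) * b⁻¹ := by group
        _ = b * ((b⁻¹ * t' * b) * (b⁻¹ * u * b)) * b⁻¹ := by rw [h1]
        _ = t' * u := by group
    refine key u s γ (fun k => b⁻¹ * (k * u * (k : G)⁻¹) * b) huD huo hs hus hγ1 (fun k => ?_) fun k => ?_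
    · exact mul_mem (mul_mem (inv_mem (subset_closure (by simp))) (subset_closure (by simp)))
        (subset_closure (by simp))
    · have h1 : Acts T (b⁻¹ * (k : G) * b) 1 := by
        refine Acts.of_comm fun t ht => ?_
        have h2 : (k : G) * (b * t * b⁻¹) = (b * t * b⁻¹) * k := comm_of_ne hT hT' (Ne.symm hn) k.2 (conj_mem_cj ht)
        calc b⁻¹ * (k : G) * b * t = b⁻¹ * ((k : G) * (b * t * b⁻¹)) * b := by group
          _ = b⁻¹ * ((b * t * b⁻¹) * k) * b := by rw [h2]
          _ = t * (b⁻¹ * (k : G) * b) := by group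
      have h2 := (h1.mul hγ).mul h1.inv
      have e1 : b⁻¹ * (k : G) * b * (b⁻¹ * u * b) * (b⁻¹ * (k : G) * b)⁻¹ = b⁻¹ * (k * u * (k : G)⁻¹) * b := by group
      rw [e1] at h2
      simpa using h2

/-- products over commuting subgroups -/
theorem prod_acts {p : ℕ} (f : ℕ → G) (Ts : ℕ → Subgroup G) (hfT : ∀ i < r, f i ∈ Ts i)
    (hcomm : ∀ i < r, ∀ j < r, i ≠ j → ∀ s ∈ Ts i, ∀ t ∈ Ts j, s * t = t * s)
    (hp : ∀ i < r, ∃ k, (f i) ^ (p ^ k) = 1) : ∀ m ≤ r, ∃ n : G, (∃ k, n ^ (p ^ k) = 1) ∧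
      (∀ i < m, ∀ t ∈ Ts i, n * t * n⁻¹ = f i * t * (f i)⁻¹) ∧
      (∀ i, m ≤ i → i < r → ∀ t ∈ Ts i, n * t = t * n) := by
  intro m
  induction m with
  | zero =>
    intro _
    refine ⟨1, ⟨0, by simp⟩, fun i hi => absurd hi (Nat.not_lt_zero _), fun i _ _ t _ => by simp⟩
  | succ m ih =>
    intro hm
    obtain ⟨n, ⟨k, hk⟩, h1, h2⟩ := ih (by omega)
    have hmr : m < r := by omega
    have hcm : Commute n (f m) := h2 m le_rfl hmr (f m) (hfT m hmr)
    obtain ⟨l, hl⟩ := hp m hmr
    refine ⟨n * f m, ⟨k + l, ?_⟩, ?_, ?_⟩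
    · rw [hcm.mul_pow, pow_add, pow_mul, hk, one_pow, one_mul, mul_comm (p ^ k), pow_mul, hl, one_pow]
    · intro i hi t ht
      rcases Nat.lt_succ_iff_lt_or_eq.1 hi with hi' | rfl
      · have e1 : f m * t = t * f m := hcomm m hmr i (by omega) (by omega) _ (hfT m hmr) t ht
        calc n * f m * t * (n * f m)⁻¹ = n * (f m * t) * (f m)⁻¹ * n⁻¹ := by group
          _ = n * (t * f m) * (f m)⁻¹ * n⁻¹ := by rw [e1]
          _ = n * t * n⁻¹ := by group
          _ = _ := h1 i hi' t ht
      · have e1 : n * (f i * t * (f i)⁻¹) = (f i * t * (f i)⁻¹) * n :=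
          h2 i le_rfl hmr _ (mul_mem (mul_mem (hfT i hmr) ht) (inv_mem (hfT i hmr)))
        calc n * f i * t * (n * f i)⁻¹ = n * (f i * t * (f i)⁻¹) * n⁻¹ := by group
          _ = (f i * t * (f i)⁻¹) * n * n⁻¹ := by rw [e1]
          _ = _ := by group
    · intro i hi hir t ht
      have e1 : f m * t = t * f m := hcomm m hmr i hir (by omega) _ (hfT m hmr) t ht
      have e2 : n * t = t * n := h2 i (by omega) hir t ht
      rw [mul_assoc, e1, ← mul_assoc, e2, mul_assoc]

/-- the powers of an element moving `T` move `T` -/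
theorem moves_pow {T : Subgroup G} {b : G} (hr : r.Prime) (hbo : orderOf b = r) (hb : cj b T ≠ T) {i : ℕ}
    (hi : 0 < i) (hir : i < r) : cj (b ^ i) T ≠ T := by
  intro h
  apply hb
  have hcop : Nat.Coprime r i := (Nat.coprime_of_lt_prime hi.ne' hir hr)
  have h1 : zpowers b ≤ normalizer (T : Set G) := by
    have h2 : zpowers (b ^ i) ≤ normalizer (T : Set G) := zpowers_le.2 (mem_normalizer_of_cj h)
    refine le_trans (le_of_eq ?_) h2
    symm
    refine Subgroup.eq_of_le_of_card_ge (zpowers_le.2 (npow_mem_zpowers _ _)) ?_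
    rw [Nat.card_zpowers, Nat.card_zpowers, Nat.Coprime.orderOf_pow (by rw [hbo]; exact hcop)]
  have h3 := h1 (mem_zpowers b)
  rw [Subgroup.mem_normalizer_iff_map_conj_eq] at h3
  exact h3

/-- **Lemma J** -/
theorem lemmaJ (hR : solvableRadical G = ⊥) (hr : r.Prime)
    (hg : ∀ T : Subgroup G, IsComponent T → ∃ y : T, GoodW T r a y) {b : G}
    (hB : ∀ q : ℕ, q.Prime → q ≠ r → ∀ c : G, (∃ k, orderOf c = q ^ k) →
      Group.IsSolvable (closure ({c, b} : Set G))) (hbo : orderOf b = r) : False := by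
  have hb1 : b ≠ 1 := by
    rintro rfl
    rw [orderOf_one] at hbo
    exact hr.one_lt.ne hbo
  by_cases hall : ∀ T : Subgroup G, IsComponent T → cj b T = T
  · obtain ⟨T, hT, t, htT, hbt⟩ := exists_component hR hb1
    obtain ⟨y, hy⟩ := hg T hT
    obtain ⟨β, hβ⟩ := exists_acts_of_cj (hall T hT)
    have hβ1 : β ≠ 1 := by
      rintro rfl
      exact hbt (hβ.comm htT)
    have hβr : orderOf β = r := by
      have : Fact r.Prime := ⟨hr⟩
      refine orderOf_eq_prime ?_ hβ1
      refine (hβ.pow r).unique ?_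
      rw [← hbo, pow_orderOf_eq_one]
      exact Acts.one
    obtain ⟨x, rfl⟩ := hy.inn β ⟨1, by rw [hβr, pow_one]⟩
    have hxo : orderOf x = r := by
      rw [← hβr, orderOf_injective _ (conj_injective (center_T hR hT))]
    obtain ⟨p, c, hp, hpr, ⟨k, hk⟩, hns⟩ := hy.wit_of_order hxo
    apply hns
    refine solvable_of_conj (center_T hR hT) ?_
    have h1 := hB p hp hpr (c : G) ⟨k, by rw [Subgroup.orderOf_coe, hk]⟩
    exact acts_pair h1 (subset_closure (by simp)) (subset_closure (by simp)) hβ (Acts.of_mem c)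
  · push Not at hall
    obtain ⟨T, hT, hbT⟩ := hall
    obtain ⟨y, hy⟩ := hg T hT
    have : Fact r.Prime := ⟨hr⟩
    obtain ⟨x, hx⟩ := exists_prime_orderOf_dvd_card' (G := T) r ((dvd_pow_self r (by have := hy.pos; omega)).trans hy.dvd_card)
    obtain ⟨p, c, hp, hpr, ⟨k, hk⟩, hns⟩ := hy.wit_of_order hx
    apply hns
    -- the element `n`
    have hne : ∀ i < r, ∀ j < r, i ≠ j → cj (b ^ i) T ≠ cj (b ^ j) T := by
      have h0 : ∀ i j, i < j → j < r → cj (b ^ i) T ≠ cj (b ^ j) T := by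
        intro i j hij hj h
        refine moves_pow hr hbo hbT (i := j - i) (by omega) (by omega) ?_
        have h1 : cj (b ^ i) (cj (b ^ (j - i)) T) = cj (b ^ i) T := by
          rw [← cj_mul, ← pow_add, Nat.add_sub_cancel' hij.le, h]
        have h2 := cj_inv_eq h1
        rw [← h2, ← cj_mul, inv_mul_cancel, cj_one]
      intro i hi j hj hij
      rcases lt_or_gt_of_ne hij with h | h
      · exact h0 i j h hj
      · exact (h0 j i h hi).symm
    let cc : ℕ → T := fun i => x ^ i * c * (x ^ i)⁻¹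
    have hcc : ∀ i, orderOf (cc i) = p ^ k := fun i => by rw [← hk]; exact orderOf_conj' _ _
    obtain ⟨n, ⟨l, hl⟩, hn, -⟩ := prod_acts (r := r) (p := p) (fun i => b ^ i * (cc i : G) * (b ^ i)⁻¹)
      (fun i => cj (b ^ i) T) (fun i _ => conj_mem_cj (cc i).2)
      (fun i hi j hj hij s hs t ht => comm_of_ne (component_cj hT _) (component_cj hT _) (hne i hi j hj hij) hs ht)
      (fun i _ => ⟨k, by
        have h1 : orderOf (b ^ i * (cc i : G) * (b ^ i)⁻¹) = p ^ k := by
          rw [orderOf_conj', Subgroup.orderOf_coe, hcc]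
        rw [← h1, pow_orderOf_eq_one]⟩) r le_rfl
    have hno : ∃ k, orderOf n = p ^ k := by
      obtain ⟨j, -, hj⟩ := (Nat.dvd_prime_pow hp).1 (orderOf_dvd_of_pow_eq_one hl)
      exact ⟨j, hj⟩
    have hS := hB p hp hpr n hno
    obtain ⟨W, hW, hWall⟩ := acts_solvable hS T
    have hmem : ∀ i < r, MulAut.conj (cc i) ∈ W := by
      intro i hi
      refine hWall ((b ^ i)⁻¹ * n * b ^ i) ?_ _ ?_
      · exact mul_mem (mul_mem (inv_mem (pow_mem (subset_closure (by simp)) i)) (subset_closure (by simp)))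
          (pow_mem (subset_closure (by simp)) i)
      · intro t
        have h1 := hn i hi (b ^ i * (t : G) * (b ^ i)⁻¹) (conj_mem_cj t.2)
        calc (b ^ i)⁻¹ * n * b ^ i * (t : G) * ((b ^ i)⁻¹ * n * b ^ i)⁻¹
            = (b ^ i)⁻¹ * (n * (b ^ i * (t : G) * (b ^ i)⁻¹) * n⁻¹) * b ^ i := by group
          _ = (b ^ i)⁻¹ * (b ^ i * (cc i : G) * (b ^ i)⁻¹ * (b ^ i * (t : G) * (b ^ i)⁻¹) *
              (b ^ i * (cc i : G) * (b ^ i)⁻¹)⁻¹) * b ^ i := by rw [h1]
          _ = (cc i : G) * t * (cc i : G)⁻¹ := by group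
    have hmem' : ∀ i, cc i ∈ W.comap (MulAut.conj : T →* MulAut T) := by
      intro i
      have h1 : x ^ i = x ^ (i % r) := by rw [← hx, pow_mod_orderOf]
      have h2 : cc i = cc (i % r) := by
        show x ^ i * c * (x ^ i)⁻¹ = x ^ (i % r) * c * (x ^ (i % r))⁻¹
        rw [← h1]
      rw [h2]
      exact hmem _ (Nat.mod_lt _ hr.pos)
    have hWs : Group.IsSolvable (W.comap (MulAut.conj : T →* MulAut T)) := by
      refine Group.isSolvable_of_isSolvable_injective (f := (MulAut.conj : T →* MulAut T).subgroupComap W) ?_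
      intro s t hst
      exact Subtype.ext (conj_injective (center_T hR hT) (congrArg Subtype.val hst))
    have hHs : Group.IsSolvable (closure (Set.range cc)) := by
      refine solvable_mono ?_ hWs
      rw [closure_le]
      rintro _ ⟨i, rfl⟩
      exact hmem' i
    refine solvable_of_powers hHs (subset_closure ⟨0, by simp [cc]⟩) ?_
    -- `x` normalises
    have hle : (closure (Set.range cc)).map (MulAut.conj x).toMonoidHom ≤ closure (Set.range cc) := by
      rw [MonoidHom.map_closure, closure_le]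
      rintro _ ⟨_, ⟨i, rfl⟩, rfl⟩
      refine subset_closure ⟨i + 1, ?_⟩
      show x ^ (i + 1) * c * (x ^ (i + 1))⁻¹ = x * (x ^ i * c * (x ^ i)⁻¹) * x⁻¹
      rw [pow_succ']
      group
    rw [Subgroup.mem_normalizer_iff_map_conj_eq]
    exact Subgroup.eq_of_le_of_card_ge hle (le_of_eq (Subgroup.card_map_of_injective (MulAut.conj x).injective).symm)

end Cfsg.Agent.H585.FacThree
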