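import Mathlib
import Cfsg.Agent.H585.FacThree

/-!
# The end of the argument: `B = 1` if `A` contains a full subgroup (helper585, for S4384)

* `Fac.exists_conj_mem` : if `q ∤ |B|` then every `q`-element is conjugate into `A`;
* `eq_bot_of_full`.
-/

set_option autoImplicit false
set_option linter.unusedSectionVars false

namespace Cfsg.Agent.H585.FacFour

open Cfsg Subgroup Cfsg.Agent.H459.Rad Cfsg.Agent.H459.Reduce
open Cfsg.Agent.H465.Red (exists_lift)
open Cfsg.Agent.SignalizersComponents.Components Cfsg.Agent.SignalizersComponents.ComponentExists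
open Cfsg.Agent.H585.Good Cfsg.Agent.H585.FacOne Cfsg.Agent.H585.GW Cfsg.Agent.H585.FacTwo Cfsg.Agent.H585.FacThree

variable {G : Type*} [Group G] [Finite G]

/-- if `q ∤ |B|` then every `q`-element is conjugate into `A` -/
theorem exists_conj_mem {A B : Subgroup G} (h : Fac A B) {q : ℕ} (hq : q.Prime) (hqB : ¬ q ∣ Nat.card B) {c : G}
    (hc : ∃ k, orderOf c = q ^ k) : ∃ g : G, ∃ a' ∈ A, c = g * a' * g⁻¹ := by
  have hqf : Fact q.Prime := ⟨hq⟩
  obtain ⟨k, hk⟩ := hc
  obtain ⟨P, hP⟩ := (IsPGroup.of_card (p := q) (n := k) (by rw [Nat.card_zpowers, hk]) :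
    IsPGroup q (Subgroup.zpowers c)).exists_le_sylow
  obtain ⟨v, hv⟩ := IsPGroup.iff_card.1 P.isPGroup'
  have h1 : q ^ v ∣ Nat.card A := by
    have h2 : q ^ v ∣ Nat.card A * Nat.card B := by
      rw [h.card, ← hv]
      exact (Subgroup.card_subgroup_dvd_card _).trans (dvd_mul_right _ _)
    have h3 : Nat.Coprime (q ^ v) (Nat.card B) :=
      Nat.Coprime.pow_left _ ((Nat.Prime.coprime_iff_not_dvd hq).2 hqB)
    exact h3.dvd_of_dvd_mul_right h2
  obtain ⟨H, hH⟩ := Sylow.exists_subgroup_card_pow_prime q h1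
  have hH' : Nat.card (H.map A.subtype) = q ^ v := by
    rw [Subgroup.card_map_of_injective A.subtype_injective, hH]
  obtain ⟨P', hP'⟩ := (IsPGroup.of_card (p := q) (n := v) hH' : IsPGroup q (H.map A.subtype)).exists_le_sylow
  have hPP' : H.map A.subtype = P' := by
    refine Subgroup.eq_of_le_of_card_ge hP' ?_
    rw [hH', ← hv, P'.card_eq_multiplicity, P.card_eq_multiplicity]
  obtain ⟨g, hg⟩ := MulAction.exists_smul_eq G P' P
  have h2 : c ∈ (P : Subgroup G) := hP (mem_zpowers c)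
  rw [← hg] at h2
  have h3 : c ∈ (P' : Subgroup G).map (MulAut.conj g).toMonoidHom := h2
  obtain ⟨a', ha', rfl⟩ := h3
  rw [SetLike.mem_coe, ← hPP'] at ha'
  obtain ⟨a'', -, rfl⟩ := ha'
  exact ⟨g, a'', a''.2, rfl⟩

variable {r a : ℕ}

/-- **the end of the argument** -/
theorem eq_bot_of_full (hR : solvableRadical G = ⊥) (hr : r.Prime)
    (hg : ∀ T : Subgroup G, IsComponent T → ∃ y : T, GoodW T r a y)
    {A B D : Subgroup G} (hF : Fac A B) (hdag : Dag A B) (hDA : D ≤ A) (hfull : Full r a D) : B = ⊥ := by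
  have hH : ∀ q : ℕ, q.Prime → q ≠ r → ¬ q ∣ Nat.card B := by
    intro q hq hqr hdvd
    have : Fact q.Prime := ⟨hq⟩
    obtain ⟨b, hb⟩ := exists_prime_orderOf_dvd_card' (G := B) q hdvd
    have h1 := lemmaH hR hr hg hF hdag hDA hfull hq hqr b.2 ⟨1, by rw [Subgroup.orderOf_coe, hb, pow_one]⟩
    have h2 : b = 1 := Subtype.ext h1
    rw [h2, orderOf_one] at hb
    exact hq.one_lt.ne hb
  by_contra hB
  have hrB : r ∣ Nat.card B := by
    by_contra hrB
    have h1 : Nat.card B = 1 := by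
      by_contra h1
      obtain ⟨q, hq, hqB⟩ := Nat.exists_prime_and_dvd h1
      by_cases hqr : q = r
      · exact hrB (hqr ▸ hqB)
      · exact hH q hq hqr hqB
    exact hB (Subgroup.card_eq_one.1 h1)
  have : Fact r.Prime := ⟨hr⟩
  obtain ⟨b, hb⟩ := exists_prime_orderOf_dvd_card' (G := B) r hrB
  have hbo : orderOf (b : G) = r := by rw [Subgroup.orderOf_coe, hb]
  refine lemmaJ hR hr hg (b := (b : G)) ?_ hbo
  intro q hq hqr c hc
  obtain ⟨g, a', ha', rfl⟩ := exists_conj_mem hF hq (hH q hq hqr) hc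
  refine hdag.conj hF hq hr hqr ha' b.2 ?_ ⟨1, by rw [hbo, pow_one]⟩ g
  obtain ⟨k, hk⟩ := hc
  exact ⟨k, by rw [← hk, orderOf_conj']⟩

end Cfsg.Agent.H585.FacFour
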