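import Mathlib
import Cfsg.Agent.H585.FacFour

/-!
# Full subgroups (helper585, for S4384)

* `innK G` : the elements acting as inner automorphisms on all components;
* `full_layer`, `full_of_one`.
-/

set_option autoImplicit false
set_option linter.unusedSectionVars false

namespace Cfsg.Agent.H585.FacFive

open Cfsg Subgroup Cfsg.Agent.H459.Rad Cfsg.Agent.H459.Reduce
open Cfsg.Agent.H465.Red (exists_lift)
open Cfsg.Agent.SignalizersComponents.Components Cfsg.Agent.SignalizersComponents.ComponentExists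
open Cfsg.Agent.H585.Good Cfsg.Agent.H585.FacOne Cfsg.Agent.H585.GW Cfsg.Agent.H585.FacTwo Cfsg.Agent.H585.FacThree

variable {G : Type*} [Group G] [Finite G]

/-- the elements acting as inner automorphisms on all components -/
def innK (G : Type*) [Group G] : Subgroup G where
  carrier := {g | ∀ T : Subgroup G, IsComponent T → ∃ t : T, Acts T g (MulAut.conj t)}
  one_mem' := fun T _ => ⟨1, by rw [map_one]; exact Acts.one⟩
  mul_mem' := by
    intro g h hg hh T hT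
    obtain ⟨s, hs⟩ := hg T hT
    obtain ⟨t, ht⟩ := hh T hT
    exact ⟨s * t, by rw [map_mul]; exact hs.mul ht⟩
  inv_mem' := by
    intro g hg T hT
    obtain ⟨s, hs⟩ := hg T hT
    exact ⟨s⁻¹, by rw [map_inv]; exact hs.inv⟩

theorem mem_innK {g : G} : g ∈ innK G ↔ ∀ T : Subgroup G, IsComponent T → ∃ t : T, Acts T g (MulAut.conj t) :=
  Iff.rfl

theorem component_le_innK {K : Subgroup G} (hK : IsComponent K) : K ≤ innK G := by
  intro g hg T hT
  by_cases h : K = T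
  · subst h
    exact ⟨⟨g, hg⟩, Acts.of_mem ⟨g, hg⟩⟩
  · exact ⟨1, by rw [map_one]; exact Acts.of_comm fun t ht => comm_of_ne hK hT h hg ht⟩

theorem layer_le_innK : layer G ≤ innK G := layer_le_iff.2 fun _ hK => component_le_innK hK

/-- transport of an inner action -/
theorem Acts.transport {T : Subgroup G} {u : G} {s : T} (h : Acts T u (MulAut.conj s)) (g : G) {T' : Subgroup G}
    (hT' : cj g T = T') : ∃ s' : T', orderOf s' = orderOf s ∧ (s' : G) = g * s * g⁻¹ ∧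
      Acts T' (g * u * g⁻¹) (MulAut.conj s') := by
  subst hT'
  refine ⟨⟨g * s * g⁻¹, conj_mem_cj s.2⟩, ?_, rfl, ?_⟩
  · rw [Subgroup.orderOf_mk, orderOf_conj', Subgroup.orderOf_coe]
  · intro t
    have h1 := h ⟨g⁻¹ * t * g, mem_cj.1 t.2⟩
    simp only [MulAut.conj_apply, Subgroup.coe_mul, Subgroup.coe_inv] at h1 ⊢
    calc g * u * g⁻¹ * (t : G) * (g * u * g⁻¹)⁻¹ = g * (u * (g⁻¹ * t * g) * u⁻¹) * g⁻¹ := by group
      _ = g * (s * (g⁻¹ * t * g) * (s : G)⁻¹) * g⁻¹ := by rw [h1]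
      _ = _ := by group

theorem innK_normal : (innK G).Normal := by
  refine ⟨fun n hn g T hT => ?_⟩
  have hT' := component_cj hT g⁻¹
  obtain ⟨t, ht⟩ := hn _ hT'
  obtain ⟨s', -, -, hs'⟩ := Acts.transport ht g (T' := T) (by rw [← cj_mul, mul_inv_cancel, cj_one])
  exact ⟨s', hs'⟩

theorem cj_of_innK {g : G} (hg : g ∈ innK G) {T : Subgroup G} (hT : IsComponent T) : cj g T = T := by
  obtain ⟨t, ht⟩ := hg T hT
  exact cj_of_acts ht

variable {r a : ℕ}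

theorem ne_one_of_order (hr : r.Prime) (ha : 1 ≤ a) {K : Type*} [Group K] {s : K} (hs : orderOf s = r ^ a) : s ≠ 1 := by
  rintro rfl
  rw [orderOf_one] at hs
  have h1 : 1 < r ^ a := Nat.one_lt_pow (by omega) hr.one_lt
  omega

theorem exists_ne_of_acts {T : Subgroup G} {u : G} {β : MulAut T} (h : Acts T u β) (hβ : β ≠ 1) :
    ∃ t ∈ T, u * t ≠ t * u := by
  by_contra hcon
  push Not at hcon
  exact hβ (h.unique (Acts.of_comm hcon))

/-- the layer is full -/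
theorem full_layer (hR : solvableRadical G = ⊥) (hr : r.Prime)
    (hg : ∀ T : Subgroup G, IsComponent T → ∃ y : T, GoodW T r a y) : Full r a (layer G) := by
  intro T hT T' hT'
  obtain ⟨y, hy⟩ := hg T hT
  obtain ⟨y', hy'⟩ := hg T' hT'
  have hy1 := ne_one_of_order hr hy.pos hy.ord
  have hy1' := ne_one_of_order hr hy'.pos hy'.ord
  have hc1 : (MulAut.conj y : MulAut T) ≠ 1 := fun h => hy1 (conj_injective (center_T hR hT) (by rw [h, map_one]))
  have hc1' : (MulAut.conj y' : MulAut T') ≠ 1 := fun h =>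
    hy1' (conj_injective (center_T hR hT') (by rw [h, map_one]))
  by_cases hTT : T = T'
  · subst hTT
    refine ⟨y, component_le_layer hT y.2, ⟨a, by rw [Subgroup.orderOf_coe, hy.ord]⟩, ⟨y, hy.ord, Acts.of_mem y⟩,
      cj_of_acts (Acts.of_mem y), exists_ne_of_acts (Acts.of_mem y) hc1⟩
  · have e1 : Acts T ((y : G) * y') (MulAut.conj y) := by
      have h1 := (Acts.of_mem y).mul (Acts.of_comm (g := (y' : G)) (T := T) fun t ht =>
        comm_of_ne hT' hT (Ne.symm hTT) y'.2 ht)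
      rwa [mul_one] at h1
    have e2 : Acts T' ((y : G) * y') (MulAut.conj y') := by
      have h1 := (Acts.of_comm (g := (y : G)) (T := T') fun t ht => comm_of_ne hT hT' hTT y.2 ht).mul (Acts.of_mem y')
      rwa [one_mul] at h1
    have hcom : Commute (y : G) (y' : G) := comm_of_ne hT hT' hTT y.2 y'.2
    refine ⟨(y : G) * y', mul_mem (component_le_layer hT y.2) (component_le_layer hT' y'.2), ?_, ⟨y, hy.ord, e1⟩,
      cj_of_acts e2, exists_ne_of_acts e2 hc1'⟩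
    have h1 : ((y : G) * y') ^ (r ^ a) = 1 := by
      rw [hcom.mul_pow]
      have h2 : (y : G) ^ r ^ a = 1 := by rw [← hy.ord, ← Subgroup.orderOf_coe, pow_orderOf_eq_one]
      have h3 : (y' : G) ^ r ^ a = 1 := by rw [← hy'.ord, ← Subgroup.orderOf_coe, pow_orderOf_eq_one]
      rw [h2, h3, one_mul]
    obtain ⟨k, -, hk⟩ := (Nat.dvd_prime_pow hr).1 (orderOf_dvd_of_pow_eq_one h1)
    exact ⟨k, hk⟩

/-- **one full element and transitivity** -/
theorem full_of_one (hR : solvableRadical G = ⊥) (hr : r.Prime)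
    (hg : ∀ T : Subgroup G, IsComponent T → ∃ y : T, GoodW T r a y) {A : Subgroup G}
    (htrans : ∀ T T' : Subgroup G, IsComponent T → IsComponent T' → ∃ g ∈ A, cj g T = T')
    {T₀ : Subgroup G} (hT₀ : IsComponent T₀) {u₀ : G} (hA : u₀ ∈ A) (hN : u₀ ∈ innK G)
    (ho : ∃ k, orderOf u₀ = r ^ k) {s₀ : T₀} (hs₀ : orderOf s₀ = r ^ a) (hact : Acts T₀ u₀ (MulAut.conj s₀)) :
    Full r a (A ⊓ innK G) := by
  classical
  have hrf : Fact r.Prime := ⟨hr⟩
  set D := A ⊓ innK G with hD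
  -- a full element for every component
  have hone : ∀ T : Subgroup G, IsComponent T → ∃ u ∈ D, (∃ k, orderOf u = r ^ k) ∧
      ∃ s : T, orderOf s = r ^ a ∧ Acts T u (MulAut.conj s) := by
    intro T hT
    obtain ⟨g, hgA, hgT⟩ := htrans T₀ T hT₀ hT
    obtain ⟨s', hs'o, -, hs'⟩ := Acts.transport hact g hgT
    refine ⟨g * u₀ * g⁻¹, mem_inf.2 ⟨mul_mem (mul_mem hgA hA) (inv_mem hgA), innK_normal.conj_mem _ hN g⟩, ?_,
      s', by rw [hs'o, hs₀], hs'⟩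
    obtain ⟨k, hk⟩ := ho
    exact ⟨k, by rw [orderOf_conj', hk]⟩
  have hne : ∀ T : Subgroup G, IsComponent T → ∀ s : T, orderOf s = r ^ a → (MulAut.conj s : MulAut T) ≠ 1 := by
    intro T hT s hs h
    obtain ⟨y, hy⟩ := hg T hT
    exact ne_one_of_order hr hy.pos hs (conj_injective (center_T hR hT) (by rw [h, map_one]))
  intro T hT T' hT'
  obtain ⟨u₁, hu₁D, ⟨k₁, hk₁⟩, s₁, hs₁, hu₁⟩ := hone T hT
  by_cases hTT : T = T'
  · subst hTT
    exact ⟨u₁, hu₁D, ⟨k₁, hk₁⟩, ⟨s₁, hs₁, hu₁⟩, cj_of_acts hu₁, exists_ne_of_acts hu₁ (hne T hT s₁ hs₁)⟩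
  obtain ⟨u₂, hu₂D, ⟨k₂, hk₂⟩, s₂, hs₂, hu₂⟩ := hone T' hT'
  -- a Sylow subgroup of `D`
  obtain ⟨P₁, hP₁⟩ := (IsPGroup.of_card (p := r) (n := k₁)
    (by rw [Nat.card_zpowers, Subgroup.orderOf_mk, hk₁]) : IsPGroup r (zpowers (⟨u₁, hu₁D⟩ : D))).exists_le_sylow
  obtain ⟨P₂, hP₂⟩ := (IsPGroup.of_card (p := r) (n := k₂)
    (by rw [Nat.card_zpowers, Subgroup.orderOf_mk, hk₂]) : IsPGroup r (zpowers (⟨u₂, hu₂D⟩ : D))).exists_le_sylow
  obtain ⟨d, hd⟩ := MulAction.exists_smul_eq D P₂ P₁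
  have h1 : (⟨u₁, hu₁D⟩ : D) ∈ (P₁ : Subgroup D) := hP₁ (mem_zpowers _)
  have h2 : d * ⟨u₂, hu₂D⟩ * d⁻¹ ∈ (P₁ : Subgroup D) := by
    have h3 : d * ⟨u₂, hu₂D⟩ * d⁻¹ ∈ (P₂ : Subgroup D).map (MulAut.conj d).toMonoidHom :=
      ⟨_, hP₂ (mem_zpowers _), rfl⟩
    rw [← hd]
    exact h3
  set U : Subgroup G := (P₁ : Subgroup D).map D.subtype with hU
  have hUp : ∀ u ∈ U, ∃ k, u ^ r ^ k = 1 := by
    rintro _ ⟨u, hu, rfl⟩
    obtain ⟨k, hk⟩ := P₁.isPGroup' ⟨u, hu⟩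
    exact ⟨k, by
      have h3 := congrArg (fun z : P₁ => ((z : D) : G)) hk
      exact h3⟩
  have hUo : ∀ u ∈ U, ∃ k, orderOf u = r ^ k := by
    intro u hu
    obtain ⟨k, hk⟩ := hUp u hu
    obtain ⟨j, -, hj⟩ := (Nat.dvd_prime_pow hr).1 (orderOf_dvd_of_pow_eq_one hk)
    exact ⟨j, hj⟩
  have hUD : U ≤ D := map_subtype_le _
  have hm1 : u₁ ∈ U := ⟨_, h1, rfl⟩
  have hm2 : (d : G) * u₂ * (d : G)⁻¹ ∈ U := ⟨_, h2, rfl⟩
  -- its action on `T'`
  obtain ⟨s₂', hs₂', -, hu₂'⟩ := Acts.transport hu₂ (d : G) (cj_of_innK (mem_inf.1 d.2).2 hT')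
  rw [hs₂] at hs₂'
  set v : G := (d : G) * u₂ * (d : G)⁻¹ with hv
  by_cases hnt : ∃ t ∈ T', u₁ * t ≠ t * u₁
  · exact ⟨u₁, hu₁D, ⟨k₁, hk₁⟩, ⟨s₁, hs₁, hu₁⟩, cj_of_innK (mem_inf.1 hu₁D).2 hT', hnt⟩
  push Not at hnt
  have hu₁T' : Acts T' u₁ 1 := Acts.of_comm hnt
  -- the action of `v` on `T`
  obtain ⟨w, hw⟩ := (mem_inf.1 (hUD hm2)).2 T hT
  let V : Subgroup T :=
    { carrier := {t | ∃ u ∈ U, Acts T u (MulAut.conj t)}
      one_mem' := ⟨1, one_mem _, by rw [map_one]; exact Acts.one⟩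
      mul_mem' := by
        rintro s t ⟨u, hu, hs⟩ ⟨u', hu', ht⟩
        exact ⟨u * u', mul_mem hu hu', by rw [map_mul]; exact hs.mul ht⟩
      inv_mem' := by
        rintro s ⟨u, hu, hs⟩
        exact ⟨u⁻¹, inv_mem hu, by rw [map_inv]; exact hs.inv⟩ }
  have hVp : IsPGroup r V := by
    rintro ⟨t, u, hu, ht⟩
    obtain ⟨k, hk⟩ := hUp u hu
    refine ⟨k, Subtype.ext ?_⟩
    show t ^ r ^ k = 1
    apply conj_injective (center_T hR hT)
    rw [map_pow, map_one]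
    refine (ht.pow (r ^ k)).unique ?_
    rw [hk]
    exact Acts.one
  obtain ⟨y, hy⟩ := hg T hT
  obtain ⟨n, hn⟩ := IsPGroup.iff_card.1 hVp
  have hna : n ≤ a := by
    by_contra hcon
    apply hy.syl
    refine (pow_dvd_pow r (show a + 1 ≤ n by omega)).trans ?_
    rw [← hn]
    exact Subgroup.card_subgroup_dvd_card _
  have hVs : zpowers s₁ = V := by
    refine Subgroup.eq_of_le_of_card_ge (zpowers_le.2 ⟨u₁, hm1, hu₁⟩) ?_
    rw [hn, Nat.card_zpowers, hs₁]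
    exact Nat.pow_le_pow_right hr.pos hna
  have hwV : w ∈ V := ⟨v, hm2, hw⟩
  rw [← hVs, mem_zpowers_iff_mem_range_orderOf, Finset.mem_image] at hwV
  obtain ⟨j, -, hj⟩ := hwV
  refine ⟨v * (u₁ ^ j)⁻¹ * u₁, ?_, ?_, ⟨s₁, hs₁, ?_⟩, ?_, ?_⟩
  · exact hUD (mul_mem (mul_mem hm2 (inv_mem (pow_mem hm1 j))) hm1)
  · exact hUo _ (mul_mem (mul_mem hm2 (inv_mem (pow_mem hm1 j))) hm1)
  · have h3 := (hw.mul (hu₁.pow j).inv).mul hu₁
    rw [← hj, map_pow, mul_inv_cancel, one_mul] at h3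
    exact h3
  · exact cj_of_innK (mem_inf.1 (hUD (mul_mem (mul_mem hm2 (inv_mem (pow_mem hm1 j))) hm1))).2 hT'
  · have h3 := (hu₂'.mul (hu₁T'.pow j).inv).mul hu₁T'
    rw [one_pow, inv_one, mul_one, mul_one] at h3
    exact exists_ne_of_acts h3 (hne T' hT' s₂' hs₂')

end Cfsg.Agent.H585.FacFive
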