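import Cfsg.Agent.H585.GoodW
import Cfsg.Agent.H585.AltGood
import Cfsg.Agent.H518.SUTable
import Cfsg.Agent.H583.GoodUntw
import Cfsg.Agent.H583.GoodTw
import Cfsg.Agent.H583.GoodTri
import Cfsg.Agent.H583.GoodRee
import Cfsg.Agent.H583.GoodSz
import Cfsg.Agent.H583.GoodSpor
import Cfsg.Agent.S0252
import Cfsg.Agent.S0254

/-!
# S4384: the table of the known simple groups (helper585)

`table'` : every known non-abelian simple group has a good prime (weak form), given the rows
`PSL_2(q)`, helper518's classical rows, the classical exceptions and `Fi₂₂`.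
-/

set_option autoImplicit false
set_option linter.unusedSectionVars false

namespace Cfsg.Agent.H585.FacTable

open Subgroup Cfsg Cfsg.Agent.H585.Good Cfsg.Agent.H585.GW

universe u

variable {K : Type u} [Group K] [Finite K] [IsSimpleGroup K]

theorem congr_back {K : Type*} [Group K] {L : Type*} [Group L] (e : K ≃* L) (h : HasGood L) : HasGood K :=
  h.congr e.symm

/-- the exceptional groups -/
theorem hasGood_exceptional (hK : ¬ IsMulCommutative K) (h : IsExceptionalLieType K) : HasGood K := by
  rcases h with h | h | h | h | h | h | h | h | h | h | h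
  · obtain ⟨F, _, _, h3, ⟨e⟩⟩ := h
    exact congr_back e (H583.GoodUntw.good_G2 (F := F) (by omega))
  · obtain ⟨F, _, _, ⟨e⟩⟩ := h
    exact congr_back e (H583.GoodUntw.good_F4 (F := F))
  · obtain ⟨F, _, _, ⟨e⟩⟩ := h
    exact congr_back e (H583.GoodUntw.good_E6 (F := F))
  · obtain ⟨F, _, _, ⟨e⟩⟩ := h
    exact congr_back e (H583.GoodUntw.good_E7 (F := F))
  · obtain ⟨F, _, _, ⟨e⟩⟩ := h
    exact congr_back e (H583.GoodUntw.good_E8 (F := F))
  · obtain ⟨F, _, _, q, hq, hF, ⟨e⟩⟩ := h
    exact congr_back e (H583.GoodTw.good_2E6 hq hF)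
  · obtain ⟨F, _, _, q, hq, hF, ⟨e⟩⟩ := h
    by_cases h2 : q = 2
    · subst h2
      exact congr_back e (H583.GoodTri.good_3D4_two hF)
    · exact congr_back e (H583.GoodTw.good_3D4 hq hF h2)
  · exact H583.GoodSz.good_sz hK h
  · exact H583.GoodSz.good_ree h
  · obtain ⟨F, _, _, m, hm, hF, ⟨e⟩⟩ := h
    exact congr_back e (H583.GoodRee.good_2F4 hm hF)
  · have h1 : Nonempty (K ≃* Cfsg.Lie.TitsGroup) := h
    obtain ⟨e⟩ := h1
    exact Good.HasGood.congr (K := Cfsg.Lie.TitsGroup) (L := K) H583.GoodRee.good_tits e.symm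

/-- the rows which are hypotheses here -/
structure Pending (K : Type u) [Group K] : Prop where
  psl : ∀ (F : Type) [Field F] [Fintype F], 4 ≤ Fintype.card F →
    (K ≃* Matrix.ProjectiveSpecialLinearGroup (Fin 2) F) → HasGoodW K
  row : H518.SU.RowOut K → HasGoodW K
  exc : H518.SU.Exceptions K → HasGoodW K
  fi : Spor.IsoFi22 K → HasGoodW K

theorem classical (hK : ¬ IsMulCommutative K) (hp : Pending K) (h : IsPSL K ∨ IsPSp K ∨ IsPSU K ∨ IsPOmegaOdd K ∨
    IsPOmegaPlus K ∨ IsPOmegaMinus K) : HasGoodW K := by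
  rcases H518.SU.table (FacOne.center_eq_bot hK) h with ⟨F, _, _, hF, ⟨e⟩⟩ | h | h
  · exact hp.psl F hF e
  · exact hp.exc h
  · exact hp.row h

theorem alternating (hK : ¬ IsMulCommutative K) (hp : Pending K) (h : IsAlternating K) : HasGoodW K := by
  obtain ⟨n, hn, ⟨e⟩⟩ := h
  rcases (by omega : n = 5 ∨ n = 6 ∨ 7 ≤ n) with rfl | rfl | h7
  · have : Fact (Nat.Prime 2) := ⟨Nat.prime_two⟩
    let F := GaloisField 2 2
    have : Fintype F := Fintype.ofFinite F
    have hc : Fintype.card F = 4 := by
      rw [← Nat.card_eq_fintype_card, GaloisField.card 2 2 (by norm_num)]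
      norm_num
    obtain ⟨e'⟩ := S0252.result hc
    exact hp.psl F (by rw [hc]) (e.trans e'.symm)
  · have : Fact (Nat.Prime 3) := ⟨Nat.prime_three⟩
    let F := GaloisField 3 2
    have : Fintype F := Fintype.ofFinite F
    have hc : Fintype.card F = 9 := by
      rw [← Nat.card_eq_fintype_card, GaloisField.card 3 2 (by norm_num)]
      norm_num
    obtain ⟨e'⟩ := S0254.result hc
    exact hp.psl F (by rw [hc]; norm_num) (e.trans e'.symm)
  · exact AltGood.good_alt hK h7 e

/-- **The table**, given the pending rows. -/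
theorem table' (hK : ¬ IsMulCommutative K) (hp : Pending K) (h : IsKnownSimple' K) : HasGoodW K := by
  rcases h with h | h | h | h | h | h | h | h | h | h
  · exfalso
    have : Fact (Nat.card K).Prime := ⟨h⟩
    have := isCyclic_of_prime_card (α := K) rfl
    exact hK IsCyclic.isMulCommutative
  · exact alternating hK hp h
  · exact classical hK hp (Or.inl h)
  · exact classical hK hp (Or.inr (Or.inl h))
  · exact classical hK hp (Or.inr (Or.inr (Or.inl h)))
  · exact classical hK hp (Or.inr (Or.inr (Or.inr (Or.inl h))))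
  · exact classical hK hp (Or.inr (Or.inr (Or.inr (Or.inr (Or.inl h)))))
  · exact classical hK hp (Or.inr (Or.inr (Or.inr (Or.inr (Or.inr h)))))
  · exact (hasGood_exceptional hK h).toW hK
  · rcases H583.GoodSpor.good_sporadic hK h with h | h
    · exact h.toW hK
    · exact hp.fi h

end Cfsg.Agent.H585.FacTable
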