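import Cfsg.Agent.H585.MoveFour

/-!
# Two elements of order three not commuting on `M`: an element of order seven
-/

set_option autoImplicit false

namespace Cfsg.Agent.H585.Seven

open Subgroup Cfsg.Agent.H585.ModTwo Cfsg.Agent.H585.PCentral Cfsg.Agent.H585.RankB Cfsg.Agent.H585.MoveFour
open scoped commutatorElement Pointwise

universe u

theorem gl_dvd {n : ℕ} (hn : n ≤ 4) : gl n ∣ 20160 := by
  obtain ⟨g0, g1, g2, g3, g4, g5, g6⟩ := gl_vals
  have : n = 0 ∨ n = 1 ∨ n = 2 ∨ n = 3 ∨ n = 4 := by omega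
  rcases this with rfl | rfl | rfl | rfl | rfl
  · rw [g0]; decide
  · rw [g1]; decide
  · rw [g2]; decide
  · rw [g3]; decide
  · rw [g4]

/-- A group of order `3 ^ k`, `k ≤ 2`, is commutative. -/
theorem comm_of_card_three_pow {G : Type u} [Group G] [Finite G] {k : ℕ} (hk : k ≤ 2) (hG : Nat.card G = 3 ^ k) :
    ∀ a b : G, a * b = b * a := by
  have hf3 : Fact (Nat.Prime 3) := ⟨Nat.prime_three⟩
  have hk3 : k = 0 ∨ k = 1 ∨ k = 2 := by omega
  rcases hk3 with rfl | rfl | rfl
  · rw [pow_zero] at hG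
    have := (Nat.card_eq_one_iff_unique.mp hG).1
    intro a b
    exact Subsingleton.elim _ _
  · rw [pow_one] at hG
    have := isCyclic_of_prime_card hG
    intro a b
    let _ := IsCyclic.commGroup (α := G)
    exact mul_comm a b
  · have := IsPGroup.isMulCommutative_of_card_eq_prime_sq hG
    exact this.is_comm.comm

theorem sylow_normal_of_card_one {G : Type u} [Group G] [Finite G] {p : ℕ} [Fact p.Prime] (P : Sylow p G)
    (h : Nat.card (Sylow p G) = 1) : (P : Subgroup G).Normal ∧ ∀ Q : Subgroup G, IsPGroup p ↥Q → Q ≤ P := by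
  have hs : Subsingleton (Sylow p G) := (Nat.card_eq_one_iff_unique.mp h).1
  constructor
  · exact Sylow.normal_of_subsingleton P
  · intro Q hQ
    obtain ⟨R, hR⟩ := hQ.exists_le_sylow
    rwa [Subsingleton.elim R P] at hR

/-- A finite group of order dividing `20160` and `3 ^ a * p ^ b`, `p ≥ 5`, generated by two elements of order
dividing three that do not commute: `p = 7`, and there is a normal Sylow `7`-subgroup of order `7`. -/
theorem group_aux {G : Type u} [Group G] [Finite G] {p a b : ℕ} (hp : p.Prime) (hp5 : 5 ≤ p)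
    (h1 : Nat.card G ∣ 20160) (h2 : Nat.card G ∣ 3 ^ a * p ^ b) {x y : G} (hgen : closure ({x, y} : Set G) = ⊤)
    (hx : x ^ 3 = 1) (hy : y ^ 3 = 1) (hxy : x * y ≠ y * x) :
    p = 7 ∧ 7 ∣ Nat.card G ∧ ∀ t : G, IsPGroup 7 ↥(zpowers t) → t ≠ 1 → (zpowers t).Normal ∧ t ^ 7 = 1 := by
  have hf3 : Fact (Nat.Prime 3) := ⟨Nat.prime_three⟩
  have hGpos : 0 < Nat.card G := Nat.card_pos
  have hpd : p ∣ Nat.card G := by
    by_contra hnp
    have h3 : Nat.card G ∣ 3 ^ a := by
      apply Nat.Coprime.dvd_of_dvd_mul_right _ h2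
      exact Nat.Coprime.pow_right b ((hp.coprime_iff_not_dvd.mpr hnp).symm)
    obtain ⟨k, _, hk⟩ := (Nat.dvd_prime_pow Nat.prime_three).mp h3
    have hk2 : k ≤ 2 := by
      by_contra h
      have h4 : 3 ^ 3 ∣ 20160 := (pow_dvd_pow 3 (by omega)).trans (hk ▸ h1)
      revert h4; decide
    exact hxy (comm_of_card_three_pow hk2 hk x y)
  have hp57 : p = 5 ∨ p = 7 := by
    have h3 : p ∣ 2 ^ 6 * 3 ^ 2 * 5 * 7 := (hpd.trans h1).trans (by norm_num)
    rcases hp.dvd_mul.mp h3 with h | h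
    · rcases hp.dvd_mul.mp h with h | h
      · rcases hp.dvd_mul.mp h with h | h
        · have := (Nat.prime_dvd_prime_iff_eq hp Nat.prime_two).mp (hp.dvd_of_dvd_pow h)
          omega
        · have := (Nat.prime_dvd_prime_iff_eq hp Nat.prime_three).mp (hp.dvd_of_dvd_pow h)
          omega
      · exact Or.inl ((Nat.prime_dvd_prime_iff_eq hp Nat.prime_five).mp h)
    · exact Or.inr ((Nat.prime_dvd_prime_iff_eq hp (by norm_num)).mp h)
  -- the order of `G` divides `9 p`
  have h9p : Nat.card G ∣ 9 * p := by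
    have h3 : Nat.card G ∣ Nat.gcd 20160 (3 ^ a * p ^ b) := Nat.dvd_gcd h1 h2
    have h4 : Nat.Coprime (Nat.card G) 64 := by
      have h5 : Nat.Coprime (3 ^ a * p ^ b) 64 := by
        have : (64 : ℕ) = 2 ^ 6 := by norm_num
        rw [this]
        apply Nat.Coprime.pow_right
        apply Nat.Coprime.mul_left
        · exact Nat.Coprime.pow_left _ (by decide)
        · apply Nat.Coprime.pow_left
          rw [Nat.coprime_primes hp Nat.prime_two]; omega
      exact Nat.Coprime.coprime_dvd_left h2 h5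
    have h6 : Nat.card G ∣ 315 := by
      apply h4.dvd_of_dvd_mul_left
      exact h1
    rcases hp57 with rfl | rfl
    · have h7 : Nat.Coprime (Nat.card G) 7 := by
        apply Nat.Coprime.coprime_dvd_left h2
        apply Nat.Coprime.mul_left
        · exact Nat.Coprime.pow_left _ (by decide)
        · exact Nat.Coprime.pow_left _ (by decide)
      apply h7.dvd_of_dvd_mul_left
      exact h6
    · have h7 : Nat.Coprime (Nat.card G) 5 := by
        apply Nat.Coprime.coprime_dvd_left h2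
        apply Nat.Coprime.mul_left
        · exact Nat.Coprime.pow_left _ (by decide)
        · exact Nat.Coprime.pow_left _ (by decide)
      apply h7.dvd_of_dvd_mul_left
      exact h6
  rcases hp57 with rfl | rfl
  · -- `p = 5`
    exfalso
    obtain ⟨P⟩ : Nonempty (Sylow 3 G) := inferInstance
    have hi : (P : Subgroup G).index ∣ 5 := by
      have h3 : (P : Subgroup G).index ∣ 9 * 5 := (Subgroup.index_dvd_card _).trans h9p
      have h4 : Nat.Coprime (P : Subgroup G).index 9 := by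
        have : (9 : ℕ) = 3 ^ 2 := by norm_num
        rw [this]
        exact Nat.Coprime.pow_right _ ((Nat.prime_three.coprime_iff_not_dvd.mpr P.not_dvd_index).symm)
      exact h4.dvd_of_dvd_mul_left h3
    have hn : Nat.card (Sylow 3 G) = 1 := by
      have h3 : Nat.card (Sylow 3 G) ∣ 5 := P.card_dvd_index.trans hi
      have h4 : Nat.card (Sylow 3 G) ≡ 1 [MOD 3] := card_sylow_modEq_one 3 G
      rcases (Nat.dvd_prime Nat.prime_five).mp h3 with h | h
      · exact h
      · rw [h] at h4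
        exact absurd h4 (by decide)
    obtain ⟨_, hall⟩ := sylow_normal_of_card_one P hn
    have hz : ∀ z : G, z ^ 3 = 1 → z ∈ (P : Subgroup G) := by
      intro z hz
      apply hall (zpowers z) _ (mem_zpowers z)
      intro w
      obtain ⟨k, hk⟩ := mem_zpowers_iff.mp w.2
      refine ⟨1, Subtype.ext ?_⟩
      show (w : G) ^ 3 ^ 1 = 1
      rw [pow_one, ← hk, ← zpow_natCast, ← zpow_mul, mul_comm, zpow_mul, zpow_natCast, hz, one_zpow]
    have htop : (P : Subgroup G) = ⊤ := by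
      rw [eq_top_iff, ← hgen, closure_le]
      rintro w hw
      simp only [Set.mem_insert_iff, Set.mem_singleton_iff] at hw
      rcases hw with rfl | rfl
      · exact hz _ hx
      · exact hz _ hy
    have h5 : ∃ k, Nat.card G = 3 ^ k := by
      have h6 : IsPGroup 3 G := by
        have := P.isPGroup'
        rw [htop] at this
        exact this.of_equiv Subgroup.topEquiv
      exact (IsPGroup.iff_card).1 h6
    obtain ⟨k, hk⟩ := h5
    rw [hk] at hpd
    have := (Nat.prime_dvd_prime_iff_eq Nat.prime_five Nat.prime_three).mp (Nat.prime_five.dvd_of_dvd_pow hpd)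
    omega
  · refine ⟨rfl, hpd, ?_⟩
    have hp7 : Nat.Prime 7 := hp
    have hf7 : Fact (Nat.Prime 7) := ⟨hp7⟩
    obtain ⟨P⟩ : Nonempty (Sylow 7 G) := inferInstance
    have hi : (P : Subgroup G).index ∣ 3 ^ 2 := by
      have h3 : (P : Subgroup G).index ∣ 9 * 7 := (Subgroup.index_dvd_card _).trans h9p
      have h4 : Nat.Coprime (P : Subgroup G).index 7 :=
        (hp7.coprime_iff_not_dvd.mpr P.not_dvd_index).symm
      exact h4.dvd_of_dvd_mul_right h3
    have hn : Nat.card (Sylow 7 G) = 1 := by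
      have h3 : Nat.card (Sylow 7 G) ∣ 3 ^ 2 := P.card_dvd_index.trans hi
      have h4 : Nat.card (Sylow 7 G) ≡ 1 [MOD 7] := card_sylow_modEq_one 7 G
      obtain ⟨k, hk, hk2⟩ := (Nat.dvd_prime_pow Nat.prime_three).mp h3
      have : k = 0 ∨ k = 1 ∨ k = 2 := by omega
      rcases this with rfl | rfl | rfl
      · exact hk2
      · rw [hk2] at h4; exact absurd h4 (by decide)
      · rw [hk2] at h4; exact absurd h4 (by decide)
    obtain ⟨hPn, hall⟩ := sylow_normal_of_card_one P hn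
    have hPc : Nat.card ↥(P : Subgroup G) ∣ 7 := by
      have h3 : Nat.card ↥(P : Subgroup G) ∣ 9 * 7 := (Subgroup.card_subgroup_dvd_card _).trans h9p
      obtain ⟨k, hk⟩ := (IsPGroup.iff_card).1 P.isPGroup'
      rw [hk] at h3 ⊢
      exact Nat.Coprime.dvd_of_dvd_mul_left (Nat.Coprime.pow_left _ (by decide)) h3
    intro t ht ht1
    have htP : zpowers t ≤ (P : Subgroup G) := hall _ ht
    have h3 : zpowers t = (P : Subgroup G) := by
      apply Subgroup.eq_of_le_of_card_ge htP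
      have h4 : Nat.card ↥(zpowers t) ∣ 7 := (Subgroup.card_dvd_of_le htP).trans hPc
      rcases (Nat.dvd_prime hp7).mp h4 with h | h
      · exfalso
        rw [Subgroup.card_eq_one, zpowers_eq_bot] at h
        exact ht1 h
      · rw [h]; exact Nat.le_of_dvd (by norm_num) hPc
    constructor
    · rw [h3]; exact hPn
    · have h4 : orderOf t ∣ 7 := by
        rw [← Nat.card_zpowers]
        exact (Subgroup.card_dvd_of_le htP).trans hPc
      exact orderOf_dvd_iff_pow_eq_one.mp h4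

variable {S : Type u} [Group S] [Finite S]

variable {M : Subgroup S} (hM : Hyp M)

omit [Finite S] in
theorem cm_zpow_le (t : S) (j : ℤ) : cm hM (t ^ j) ≤ cm hM t := by
  rintro _ ⟨m, hm, rfl⟩
  have h1 : t ^ j ∈ closure ({t, t} : Set S) := zpow_mem (subset_closure (by simp)) j
  have h2 : cm hM t ⊔ cm hM t = cm hM t := sup_idem _
  rw [← h2]
  have hN : closure ({t, t} : Set S) ≤ normalizer ((cm hM t ⊔ cm hM t : Subgroup S) : Set S) := by
    rw [h2, closure_le]
    rintro w hw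
    simp only [Set.mem_insert_iff, Set.mem_singleton_iff, or_self] at hw
    rw [hw]
    show t ∈ normalizer ((cm hM t : Subgroup S) : Set S)
    rw [mem_normalizer_cm]
    congr 1
    group
  generalize t ^ j = d at h1 ⊢
  induction h1 using Subgroup.closure_induction generalizing m with
  | mem z hz =>
    simp only [Set.mem_insert_iff, Set.mem_singleton_iff, or_self] at hz
    rw [hz]
    exact mem_sup_left (comm_mem_cm hM hm)
  | one => simp
  | mul a b ha hb iha ihb =>
    have h1 := ihb m hm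
    have h2 := (mem_normalizer_iff.mp (hN ha) _).mp h1
    have h3 := iha m hm
    have : a * b * m * (a * b)⁻¹ * m⁻¹ = (a * (b * m * b⁻¹ * m⁻¹) * a⁻¹) * (a * m * a⁻¹ * m⁻¹) := by group
    rw [this]
    exact mul_mem h2 h3
  | inv a ha iha =>
    have h1 := iha (a⁻¹ * m * a) (by simpa using hM.normal.conj_mem m hm a⁻¹)
    have : a⁻¹ * m * a⁻¹⁻¹ * m⁻¹ = (a * (a⁻¹ * m * a) * a⁻¹ * (a⁻¹ * m * a)⁻¹)⁻¹ := by group
    rw [this]
    exact inv_mem h1

theorem exists_seven {p a b : ℕ} (hp : p.Prime) (hp5 : 5 ≤ p) {x y : S}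
    (hD : Nat.card ↥(closure ({x, y} : Set S)) ∣ 3 ^ a * p ^ b)
    (hx : x ^ 3 ∈ centralizer (M : Set S)) (hy : y ^ 3 ∈ centralizer (M : Set S))
    (hcx : Nat.card ↥(cm hM x) = 4) (hcy : Nat.card ↥(cm hM y) = 4)
    (hxy : ⁅x, y⁆ ∉ centralizer (M : Set S)) :
    p = 7 ∧ ∃ t : S, IsPGroup 7 ↥(zpowers t) ∧ t ^ 7 ∈ centralizer (M : Set S) ∧
      Nat.card ↥(cm hM t) = 2 ^ 3 ∧ cm hM x ≤ cm hM t := by
  have hf3 : Fact (Nat.Prime 3) := ⟨Nat.prime_three⟩
  obtain ⟨D, hDdef⟩ : ∃ D, D = closure ({x, y} : Set S) := ⟨_, rfl⟩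
  have hxD : x ∈ D := by rw [hDdef]; exact subset_closure (by simp)
  have hyD : y ∈ D := by rw [hDdef]; exact subset_closure (by simp)
  have hodd : Odd (Nat.card ↥(closure ({x, y} : Set S))) := by
    apply Odd.of_dvd_nat _ hD
    exact (Odd.pow (by decide)).mul (hp.odd_of_ne_two (by omega)).pow
  obtain ⟨n, hn, hnle⟩ := card_sup_dvd hM x y
  rw [hcx, hcy] at hnle
  have hn4 : n ≤ 4 := by
    by_contra h
    have : 2 ^ 5 ≤ 2 ^ n := Nat.pow_le_pow_right (by norm_num) (by omega)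
    omega
  have hrel := relIndex_dvd_gl hM hodd hn
  rw [← hDdef] at hrel hodd hD
  have hMn := hM.normal
  have hCn : (centralizer (M : Set S)).Normal := inferInstance
  obtain ⟨N, hN⟩ : ∃ N : Subgroup ↥D, N = (centralizer (M : Set S)).subgroupOf D := ⟨_, rfl⟩
  have hNn : N.Normal := by rw [hN]; infer_instance
  have hNmem : ∀ d : ↥D, d ∈ N ↔ (d : S) ∈ centralizer (M : Set S) := by
    intro d
    rw [hN]; exact mem_subgroupOf
  have hcardG : Nat.card (↥D ⧸ N) = (centralizer (M : Set S)).relIndex D := by rw [hN]; rfl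
  let π : ↥D →* ↥D ⧸ N := QuotientGroup.mk' N
  have hπ : Function.Surjective π := QuotientGroup.mk'_surjective N
  have hπ1 : ∀ d, π d = 1 ↔ (d : S) ∈ centralizer (M : Set S) := by
    intro d
    rw [← hNmem]
    exact QuotientGroup.eq_one_iff d
  have hgenD : closure ({⟨x, hxD⟩, ⟨y, hyD⟩} : Set ↥D) = ⊤ := by
    have h1 : (closure ({⟨x, hxD⟩, ⟨y, hyD⟩} : Set ↥D)).map D.subtype = D := by
      rw [MonoidHom.map_closure, Set.image_pair]
      exact hDdef.symm
    rw [eq_top_iff]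
    intro d _
    have h2 : (d : S) ∈ (closure ({⟨x, hxD⟩, ⟨y, hyD⟩} : Set ↥D)).map D.subtype := by rw [h1]; exact d.2
    obtain ⟨d', hd', h3⟩ := h2
    have h4 : d' = d := Subtype.ext h3
    rw [← h4]; exact hd'
  obtain ⟨hp7, h7dvd, h7⟩ := group_aux (G := ↥D ⧸ N) hp hp5 (a := a) (b := b)
    (by rw [hcardG]; exact hrel.trans (gl_dvd hn4))
    (by rw [hcardG]; exact (Subgroup.relIndex_dvd_card _ _).trans hD)
    (x := π ⟨x, hxD⟩) (y := π ⟨y, hyD⟩)
    (by rw [← Set.image_pair, ← MonoidHom.map_closure, hgenD, ← MonoidHom.range_eq_map, MonoidHom.range_eq_top]; exact hπ)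
    (by rw [← map_pow, hπ1]; exact hx)
    (by rw [← map_pow, hπ1]; exact hy)
    (by
      intro h
      rw [← commutatorElement_eq_one_iff_mul_comm, ← map_commutatorElement, hπ1] at h
      exact hxy h)
  refine ⟨hp7, ?_⟩
  have hf7 : Fact (Nat.Prime 7) := ⟨by norm_num⟩
  have hrd : RD 7 3 := Or.inr ⟨rfl, rfl⟩
  -- a `7`-element
  obtain ⟨T⟩ : Nonempty (Sylow 7 ↥D) := inferInstance
  obtain ⟨t, htT, htN⟩ : ∃ t ∈ (T : Subgroup ↥D), t ∉ N := by
    by_contra hcon
    push Not at hcon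
    have h1 : (T : Subgroup ↥D) ≤ N := hcon
    have h2 : N.index ∣ (T : Subgroup ↥D).index := Subgroup.index_dvd_of_le h1
    exact T.not_dvd_index (h7dvd.trans h2)
  have htp : IsPGroup 7 ↥(zpowers (t : S)) := by
    intro w
    obtain ⟨m, hm⟩ := mem_zpowers_iff.mp w.2
    obtain ⟨c, hc⟩ := T.isPGroup' ⟨t ^ m, zpow_mem htT m⟩
    refine ⟨c, Subtype.ext ?_⟩
    have h3 : (t ^ m) ^ 7 ^ c = 1 := by simpa using congrArg Subtype.val hc
    have h4 : ((t : S) ^ m) ^ 7 ^ c = 1 := by simpa using congrArg Subtype.val h3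
    show (w : S) ^ 7 ^ c = 1
    rw [← hm, h4]
  have hπt : IsPGroup 7 ↥(zpowers (π t)) := by
    intro w
    obtain ⟨m, hm⟩ := mem_zpowers_iff.mp w.2
    obtain ⟨c, hc⟩ := T.isPGroup' ⟨t ^ m, zpow_mem htT m⟩
    refine ⟨c, Subtype.ext ?_⟩
    have h3 : (t ^ m) ^ 7 ^ c = 1 := by simpa using congrArg Subtype.val hc
    show (w : ↥D ⧸ N) ^ 7 ^ c = 1
    rw [← hm, ← map_zpow, ← map_pow, h3, map_one]
  have hπt1 : π t ≠ 1 := by
    intro h
    apply htN
    rw [hNmem]; exact (hπ1 t).mp h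
  obtain ⟨hzn, ht7⟩ := h7 (π t) hπt hπt1
  have ht7C : (t : S) ^ 7 ∈ centralizer (M : Set S) := by
    rw [← map_pow, hπ1] at ht7
    exact ht7
  -- `D` normalizes `[M, t]`
  have hDN : ∀ g : ↥D, (g : S) ∈ normalizer ((cm hM (t : S) : Subgroup S) : Set S) := by
    intro g
    rw [mem_normalizer_cm]
    have h1 := hzn.conj_mem (π t) (mem_zpowers _) (π g)
    obtain ⟨j, hj⟩ := mem_zpowers_iff.mp h1
    have h2 : π ((t ^ j)⁻¹ * (g * t * g⁻¹)) = 1 := by
      rw [map_mul, map_inv, map_zpow, hj]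
      simp only [map_mul, map_inv]
      group
    rw [hπ1] at h2
    have h3 : cm hM ((g : S) * t * (g : S)⁻¹) = cm hM ((t : S) ^ j) := by
      apply cm_congr
      simpa using h2
    apply Subgroup.eq_of_le_of_card_ge
    · rw [h3]; exact cm_zpow_le hM _ _
    · rw [card_cm_conj]
  -- the order of `[M, t]`
  have htD : (t : S) ∈ closure ({x, y} : Set S) := by rw [← hDdef]; exact t.2
  have htU : cm hM (t : S) ≤ cm hM x ⊔ cm hM y := by
    rintro _ ⟨m, hm, rfl⟩
    exact gen_comm_mem hM htD m hm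
  have htne : (cm hM (t : S) : Subgroup S) ≠ ⊥ := by
    intro h
    apply hπt1
    rw [hπ1, mem_centralizer_iff]
    intro m hm
    have h1 : (t : S) * m * (t : S)⁻¹ * m⁻¹ ∈ cm hM (t : S) := comm_mem_cm hM hm
    rw [h, mem_bot, mul_inv_eq_one] at h1
    exact (mul_inv_eq_iff_eq_mul.mp h1).symm
  have hct : Nat.card ↥(cm hM (t : S)) = 2 ^ 3 := by
    have h1 : Nat.card ↥(cm hM (t : S)) ∣ 2 ^ n := by rw [← hn]; exact Subgroup.card_dvd_of_le htU
    obtain ⟨k, hk, hk2⟩ := (Nat.dvd_prime_pow Nat.prime_two).mp h1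
    have h2 : 7 ∣ Nat.card ↥(cm hM (t : S)) - 1 := card_modEq hM (by norm_num) ht7C le_rfl
      (fun u hu => conj_mem_cm_of_comm hM (y := (t : S)) (y' := (t : S)) (by rw [commutatorElement_self]; exact one_mem _) hu)
    have h3 : 1 < Nat.card ↥(cm hM (t : S)) := (Subgroup.one_lt_card_iff_ne_bot _).mpr htne
    rw [hk2] at h2 h3 ⊢
    have h4 : k = 0 ∨ k = 1 ∨ k = 2 ∨ k = 3 ∨ k = 4 := by omega
    rcases h4 with rfl | rfl | rfl | rfl | rfl
    · omega
    · omega
    · omega
    · rfl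
    · omega
  refine ⟨t, htp, ht7C, hct, ?_⟩
  -- `[M, x] ≤ [M, t]`
  have hrelmul : 2 ^ 3 * (cm hM (t : S) : Subgroup S).relIndex (cm hM x ⊔ cm hM y) = 2 ^ n := by
    rw [← hct, ← hn]
    have := Subgroup.relIndex_mul_relIndex ⊥ (cm hM (t : S)) (cm hM x ⊔ cm hM y) bot_le htU
    rwa [Subgroup.relIndex_bot_left, Subgroup.relIndex_bot_left] at this
  have hrel2 : (cm hM (t : S) : Subgroup S).relIndex (cm hM x ⊔ cm hM y) ≤ 2 := by
    by_contra h
    push Not at h
    have h2 : 2 ^ 3 * 3 ≤ 2 ^ 3 * (cm hM (t : S) : Subgroup S).relIndex (cm hM x ⊔ cm hM y) := Nat.mul_le_mul_left _ h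
    have h3 : 2 ^ n ≤ 2 ^ 4 := Nat.pow_le_pow_right (by norm_num) hn4
    omega
  have htriv : ∀ u ∈ cm hM x ⊔ cm hM y, x * u * x⁻¹ * u⁻¹ ∈ cm hM (t : S) := by
    intro u hu
    have hxN := mem_normalizer_iff.mp (hDN ⟨x, hxD⟩)
    have hxu : x * u * x⁻¹ ∈ cm hM x ⊔ cm hM y :=
      (mem_normalizer_iff.mp (gen_le_normalizer hM x y (subset_closure (by simp))) u).mp hu
    have h0 : (cm hM (t : S) : Subgroup S).relIndex (cm hM x ⊔ cm hM y) ≠ 0 := by
      intro h
      rw [h, mul_zero] at hrelmul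
      exact absurd hrelmul.symm (by positivity)
    have h1 : (cm hM (t : S) : Subgroup S).relIndex (cm hM x ⊔ cm hM y) = 1 ∨
        (cm hM (t : S) : Subgroup S).relIndex (cm hM x ⊔ cm hM y) = 2 := by omega
    rcases h1 with h1 | h1
    · rw [Subgroup.relIndex_eq_one] at h1
      exact mul_mem (h1 hxu) (inv_mem (h1 hu))
    · have h2 := Subgroup.mul_mem_iff_of_index_two (H := (cm hM (t : S) : Subgroup S).subgroupOf (cm hM x ⊔ cm hM y))
        h1 (a := ⟨x * u * x⁻¹, hxu⟩) (b := ⟨u⁻¹, inv_mem hu⟩)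
      simp only [mem_subgroupOf] at h2
      have h3 : x * u * x⁻¹ * u⁻¹ ∈ cm hM (t : S) ↔ (x * u * x⁻¹ ∈ cm hM (t : S) ↔ u⁻¹ ∈ cm hM (t : S)) := h2
      rw [h3, inv_mem_iff]
      exact (hxN u).symm
  have hinf : cm hM x ⊓ cm hM (t : S) = cm hM x := by
    apply eq_cm_of_le hM (r := 3) (by norm_num) hx (by rw [hcx]) inf_le_left
    · intro u hu
      exact ⟨conj_mem_cm_of_comm hM (y := x) (y' := x) (by rw [commutatorElement_self]; exact one_mem _) hu.1,
        (mem_normalizer_iff.mp (hDN ⟨x, hxD⟩) u).mp hu.2⟩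
    · intro hbot
      have h1 : (cm hM x : Subgroup S) = ⊥ := by
        rw [eq_bot_iff]
        intro u hu
        rw [mem_bot]
        apply eq_one_of_commute hM (r := 3) (by decide) hx hu
        have h2 : x * u * x⁻¹ * u⁻¹ ∈ cm hM x ⊓ cm hM (t : S) :=
          ⟨comm_mem_cm hM (cm_le hM x hu), htriv u (mem_sup_left hu)⟩
        rw [hbot, mem_bot, mul_inv_eq_one] at h2
        exact h2
      rw [h1, Subgroup.card_bot] at hcx
      omega
  rw [← hinf]
  exact inf_le_right

end Cfsg.Agent.H585.Seven
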