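import Mathlib

/-!
# Field automorphisms of finite fields: numerical lemmas for the unitary case (helper585)
-/

set_option autoImplicit false
set_option linter.unusedSectionVars false

namespace Cfsg.Agent.H585.UT

section
variable {F : Type*} [Field F] [Finite F]

/-- A proper subfield of a finite field has at most the square root of the number of elements. -/
theorem sq_le_of_lt {K L : Subfield F} (h : K < L) : Nat.card K ^ 2 ≤ Nat.card L := by
  obtain ⟨hle, y, hyL, hyK⟩ := SetLike.lt_iff_le_and_exists.mp h
  have hinj : Function.Injective (fun ab : K × K =>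
      (⟨(ab.1 : F) + ab.2 * y, L.add_mem (hle ab.1.2) (L.mul_mem (hle ab.2.2) hyL)⟩ : L)) := by
    rintro ⟨a, b⟩ ⟨c, d⟩ hab
    have h1 : (a : F) + b * y = c + d * y := congrArg Subtype.val hab
    by_cases hbd : b = d
    · subst hbd
      have : (a : F) = c := by linear_combination h1
      exact Prod.ext (Subtype.ext this) rfl
    · exfalso
      have hne : (b : F) - d ≠ 0 := by
        intro h0
        exact hbd (Subtype.ext (sub_eq_zero.mp h0))
      apply hyK
      have : y = ((c : F) - a) / (b - d) := by
        field_simp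
        linear_combination h1
      rw [this]
      exact K.div_mem (K.sub_mem c.2 a.2) (K.sub_mem b.2 d.2)
  have := Nat.card_le_card_of_injective _ hinj
  rw [Nat.card_prod] at this
  rw [pow_two]
  exact this

instance finite_ringAut : Finite (RingAut F) :=
  Finite.of_injective (fun s : RingAut F => (s : F → F)) (fun _ _ h => RingEquiv.ext (congrFun h))

/-- Artin: the fixed field of a group of automorphisms. -/
theorem card_fix (M : Subgroup (RingAut F)) :
    Nat.card (FixedPoints.subfield M F) ^ Nat.card M = Nat.card F := by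
  classical
  have : Fintype M := Fintype.ofFinite M
  have : FaithfulSMul M F := ⟨by
    intro a b hab
    apply Subtype.ext
    apply RingEquiv.ext
    intro x
    exact hab x⟩
  have h1 := FixedPoints.finrank_eq_card M F
  have h2 := Module.natCard_eq_pow_finrank (K := FixedPoints.subfield M F) (V := F)
  rw [h2, h1, Nat.card_eq_fintype_card (α := M)]

theorem two_le_card (K : Subfield F) : 2 ≤ Nat.card K := by
  have : Nontrivial K := inferInstance
  exact Finite.one_lt_card_iff_nontrivial.mpr this

/-- The fixed field of one automorphism. -/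
def fixF (s : RingAut F) : Subfield F where
  carrier := {x | s x = x}
  mul_mem' := by intro a b ha hb; simp only [Set.mem_ofPred_eq] at *; rw [map_mul, ha, hb]
  one_mem' := map_one s
  add_mem' := by intro a b ha hb; simp only [Set.mem_ofPred_eq] at *; rw [map_add, ha, hb]
  zero_mem' := map_zero s
  neg_mem' := by intro a ha; simp only [Set.mem_ofPred_eq] at *; rw [map_neg, ha]
  inv_mem' := by intro a ha; simp only [Set.mem_ofPred_eq] at *; rw [map_inv₀, ha]

theorem mem_fixF {s : RingAut F} {x : F} : x ∈ fixF s ↔ s x = x := Iff.rfl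

theorem card_fixF (s : RingAut F) : Nat.card (fixF s) ^ orderOf s = Nat.card F := by
  have h := card_fix (Subgroup.zpowers s)
  rw [Nat.card_zpowers] at h
  rw [← h]
  congr 1
  apply congrArg (fun K : Subfield F => Nat.card K)
  apply le_antisymm
  · intro x hx
    rintro ⟨g, hg⟩
    obtain ⟨i, rfl⟩ := Subgroup.mem_zpowers_iff.mp hg
    have hx' : s x = x := hx
    change (s ^ i) x = x
    have hst : s ∈ MulAction.stabilizer (RingAut F) x := hx'
    exact (Subgroup.zpow_mem _ hst i)
  · intro x hx
    exact hx ⟨s, Subgroup.mem_zpowers s⟩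

theorem card_le_of_root (P : Polynomial F) (hP : P ≠ 0) (S : Set F)
    (hS : ∀ x ∈ S, P.eval x = 0) : Nat.card S ≤ P.natDegree := by
  classical
  have h1 : S ⊆ (P.roots.toFinset : Set F) := by
    intro x hx
    rw [Finset.mem_coe, Multiset.mem_toFinset, Polynomial.mem_roots hP]
    exact hS x hx
  calc Nat.card S ≤ Nat.card (P.roots.toFinset : Set F) :=
        Nat.card_mono (Finset.finite_toSet _) h1
    _ = P.roots.toFinset.card := by rw [Nat.card_coe_set_eq, Set.ncard_coe_finset]
    _ ≤ Multiset.card P.roots := Multiset.toFinset_card_le _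
    _ ≤ P.natDegree := Polynomial.card_roots' P

theorem card_root_one (n : ℕ) (hn : 0 < n) : Nat.card {x : F // x ^ n = 1} ≤ n := by
  have h := card_le_of_root (Polynomial.X ^ n - 1 : Polynomial F)
    (Polynomial.X_pow_sub_C_ne_zero hn 1) {x : F | x ^ n = 1} (by
      intro x hx
      have : x ^ n = 1 := hx
      simp [this])
  rw [show (Polynomial.X ^ n - 1 : Polynomial F).natDegree = n from
    Polynomial.natDegree_X_pow_sub_C (r := (1 : F))] at h
  exact h

end

section
variable {F : Type*} [Field F] [Finite F] {p f : ℕ} [Fact p.Prime] [CharP F p]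

/-- The subfield of the solutions of `x ^ q = x`, `q = p ^ f`. -/
def powF (F : Type*) [Field F] (p f : ℕ) [Fact p.Prime] [CharP F p] : Subfield F where
  carrier := {x | x ^ p ^ f = x}
  mul_mem' := by intro a b ha hb; simp only [Set.mem_ofPred_eq] at *; rw [mul_pow, ha, hb]
  one_mem' := one_pow _
  add_mem' := by
    intro a b ha hb; simp only [Set.mem_ofPred_eq] at *; rw [add_pow_char_pow, ha, hb]
  zero_mem' := zero_pow (pow_ne_zero _ (Fact.out : p.Prime).ne_zero)
  neg_mem' := by
    intro a ha
    simp only [Set.mem_ofPred_eq] at *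
    have h0 : (a + -a) ^ p ^ f = a ^ p ^ f + (-a) ^ p ^ f := add_pow_char_pow a (-a) p f
    rw [add_neg_cancel, zero_pow (pow_ne_zero _ (Fact.out : p.Prime).ne_zero), ha] at h0
    linear_combination -h0
  inv_mem' := by intro a ha; simp only [Set.mem_ofPred_eq] at *; rw [inv_pow, ha]

theorem mem_powF {x : F} : x ∈ powF F p f ↔ x ^ p ^ f = x := Iff.rfl

theorem card_powF (hf : 0 < f) : Nat.card (powF F p f) ≤ p ^ f := by
  have hp : p.Prime := Fact.out
  have hq : 1 < p ^ f := Nat.one_lt_pow hf.ne' hp.one_lt
  have h := card_le_of_root (Polynomial.X ^ p ^ f - Polynomial.X : Polynomial F)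
    (FiniteField.X_pow_card_sub_X_ne_zero F hq) {x : F | x ^ p ^ f = x} (by
      intro x hx
      have : x ^ p ^ f = x := hx
      simp [this])
  rw [FiniteField.X_pow_card_sub_X_natDegree_eq F hq] at h
  exact h

theorem card_powF_eq (hf : 0 < f) (hF : Nat.card F = (p ^ f) ^ 2) :
    Nat.card (powF F p f) = p ^ f := by
  have hp : p.Prime := Fact.out
  let φ : RingAut F := iterateFrobeniusEquiv F p f
  have hφ : ∀ x, φ x = x ^ p ^ f := fun x => iterateFrobeniusEquiv_apply (R := F) (p := p) (n := f) x
  have h1 : fixF φ = powF F p f := by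
    ext x
    rw [mem_fixF, mem_powF, hφ]
  have h2 : φ ^ 2 = 1 := by
    apply RingEquiv.ext
    intro x
    have : Fintype F := Fintype.ofFinite F
    change φ (φ x) = x
    rw [hφ, hφ, ← pow_mul, ← pow_two, ← hF, Nat.card_eq_fintype_card, FiniteField.pow_card]
  have h3 := card_fixF φ
  rw [h1, hF] at h3
  have h4 : orderOf φ ∣ 2 := orderOf_dvd_of_pow_eq_one h2
  have h5 := card_powF (F := F) (p := p) hf
  rcases (Nat.dvd_prime Nat.prime_two).mp h4 with h6 | h6
  · rw [h6, pow_one] at h3
    have : 0 < p ^ f := pow_pos hp.pos _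
    nlinarith
  · rw [h6] at h3
    exact Nat.pow_left_injective (by norm_num) h3

/-- An automorphism of order at least three (of a field of order `q²`). -/
theorem fix_mul_le (hf : 0 < f) (hF : Nat.card F = (p ^ f) ^ 2) (s : RingAut F)
    (hs : 3 ≤ orderOf s) :
    Nat.card (fixF s) * Nat.card ((fixF s ⊓ powF F p f : Subfield F)) ≤ p ^ f := by
  have hk := card_fixF s
  rw [hF] at hk
  set k := Nat.card (fixF s) with hkdef
  set k' := Nat.card ((fixF s ⊓ powF F p f : Subfield F)) with hk'def
  have hk2 : 2 ≤ k := two_le_card _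
  have hk'k : k' ≤ k := Nat.card_mono (Set.toFinite _) (inf_le_left : fixF s ⊓ powF F p f ≤ fixF s)
  by_cases h4 : 4 ≤ orderOf s
  · have h1 : k ^ 4 ≤ (p ^ f) ^ 2 := by
      rw [← hk]
      exact Nat.pow_le_pow_right (by omega) h4
    have h2 : k ^ 2 ≤ p ^ f := by
      have : (k ^ 2) ^ 2 ≤ (p ^ f) ^ 2 := by rw [← pow_mul]; exact h1
      exact (Nat.pow_le_pow_iff_left (by norm_num)).mp this
    nlinarith
  · have h3 : orderOf s = 3 := by omega
    rw [h3] at hk
    have hlt : fixF s ⊓ powF F p f < fixF s := by
      rcases lt_or_eq_of_le (inf_le_left : fixF s ⊓ powF F p f ≤ fixF s) with h | h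
      · exact h
      · exfalso
        have hle : fixF s ≤ powF F p f := by rw [← h]; exact inf_le_right
        have hq := card_powF (F := F) (p := p) hf
        rcases lt_or_eq_of_le hle with h5 | h5
        · have h6 := sq_le_of_lt h5
          have h7 : k ^ 2 ≤ p ^ f := le_trans h6 hq
          have h8 : (k ^ 2) ^ 2 ≤ (p ^ f) ^ 2 := Nat.pow_le_pow_left h7 2
          rw [← hk] at h8
          have h9 : k ^ 3 * k ≤ k ^ 3 * 1 := by
            calc k ^ 3 * k = (k ^ 2) ^ 2 := by ring
              _ ≤ k ^ 3 := h8
              _ = k ^ 3 * 1 := by ring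
          have := Nat.le_of_mul_le_mul_left h9 (by positivity)
          omega
        · have h6 : k ≤ p ^ f := by rw [hkdef, h5]; exact hq
          have h8 : k ^ 2 ≤ (p ^ f) ^ 2 := Nat.pow_le_pow_left h6 2
          -- `k³ = q²` and `k ≤ q`; since `k = |powF|` is the field of `q` elements
          have h10 : (fixF s : Subfield F) = powF F p f := h5
          have h7 : k = p ^ f := by rw [hkdef, h10]; exact card_powF_eq hf hF
          rw [← h7] at hk
          have h14 : 1 < k := hk2
          have := Nat.pow_lt_pow_right h14 (show 2 < 3 by norm_num)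
          omega
    have h6 := sq_le_of_lt hlt
    have h7 : (k * k') ^ 2 ≤ (p ^ f) ^ 2 := by
      calc (k * k') ^ 2 = k ^ 2 * k' ^ 2 := by ring
        _ ≤ k ^ 2 * k := Nat.mul_le_mul_left _ h6
        _ = k ^ 3 := by ring
        _ = (p ^ f) ^ 2 := hk
    exact (Nat.pow_le_pow_iff_left (by norm_num)).mp h7

/-- The automorphism of order two is `x ↦ x ^ q`. -/
theorem order_two (hf : 0 < f) (hF : Nat.card F = (p ^ f) ^ 2) (s : RingAut F)
    (hs : orderOf s = 2) (x : F) : s x = x ^ p ^ f := by
  have hk := card_fixF s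
  rw [hF, hs] at hk
  have hk' : Nat.card (fixF s) = p ^ f := Nat.pow_left_injective (by norm_num) hk
  have hle : fixF s ≤ powF F p f := by
    intro y hy
    have : Fintype (fixF s) := Fintype.ofFinite _
    have h1 := FiniteField.pow_card (⟨y, hy⟩ : fixF s)
    rw [← Nat.card_eq_fintype_card, hk'] at h1
    exact congrArg Subtype.val h1
  have heq : powF F p f ≤ fixF s := by
    have h1 : (fixF s : Set F) = (powF F p f : Set F) := by
      apply Set.eq_of_subset_of_ncard_le hle _ (Set.toFinite _)
      have h2 : Nat.card (powF F p f) = (powF F p f : Set F).ncard := Nat.card_coe_set_eq _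
      have h3 : Nat.card (fixF s) = (fixF s : Set F).ncard := Nat.card_coe_set_eq _
      rw [← h2, ← h3, hk', card_powF_eq hf hF]
    intro y hy
    have : y ∈ (powF F p f : Set F) := hy
    rw [← h1] at this
    exact this
  have hss : ∀ y, s (s y) = y := by
    intro y
    have h2 : s ^ 2 = 1 := by rw [← hs]; exact pow_orderOf_eq_one s
    calc s (s y) = (s ^ 2) y := rfl
      _ = y := by rw [h2]; rfl
  have ha : (x + s x) ^ p ^ f = x + s x := by
    apply hle
    rw [mem_fixF, map_add, hss, add_comm]
  have hb : (x * s x) ^ p ^ f = x * s x := by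
    apply hle
    rw [mem_fixF, map_mul, hss, mul_comm]
  have h1 : (x ^ p ^ f - x) * (x ^ p ^ f - s x) = 0 := by
    rw [add_pow_char_pow] at ha
    rw [mul_pow] at hb
    linear_combination (x ^ p ^ f) * ha - hb
  rcases mul_eq_zero.mp h1 with h2 | h2
  · have h3 : x ^ p ^ f = x := sub_eq_zero.mp h2
    rw [h3]
    exact heq (mem_powF.mpr h3)
  · exact (sub_eq_zero.mp h2).symm

/-- A `p'`-group of automorphisms of the field of order `q²` has at most `q - 1` elements. -/
theorem card_aut_lt (hf : 0 < f) (hF : Nat.card F = (p ^ f) ^ 2) (M : Subgroup (RingAut F))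
    (hM : ¬ p ∣ Nat.card M) : Nat.card M + 1 ≤ p ^ f := by
  have hp : p.Prime := Fact.out
  have hk := card_fix M
  rw [hF, ← pow_mul] at hk
  have hk2 : 2 ≤ Nat.card (FixedPoints.subfield M F) := two_le_card _
  have hm0 : 0 < Nat.card M := Nat.card_pos
  have hdvd : Nat.card (FixedPoints.subfield M F) ∣ p ^ (f * 2) := by
    rw [← hk]
    exact dvd_pow_self _ hm0.ne'
  obtain ⟨j, -, hj⟩ := (Nat.dvd_prime_pow hp).mp hdvd
  rw [hj, ← pow_mul] at hk
  have hjm : j * Nat.card M = f * 2 := Nat.pow_right_injective hp.two_le hk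
  have hj0 : 0 < j := by
    rcases Nat.eq_zero_or_pos j with h | h
    · rw [h, pow_zero] at hj
      omega
    · exact h
  rcases hp.eq_two_or_odd with h2 | h2
  · subst h2
    have hmf : Nat.card M ∣ f := by
      have h1 : Nat.card M ∣ f * 2 := ⟨j, by rw [← hjm, mul_comm]⟩
      exact (Nat.Coprime.dvd_of_dvd_mul_right
        ((Nat.Prime.coprime_iff_not_dvd Nat.prime_two).mpr hM).symm h1)
    have h3 := Nat.le_of_dvd hf hmf
    have h4 : f < 2 ^ f := Nat.lt_two_pow_self
    omega
  · have h3 : 3 ≤ p := by
      have := hp.two_le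
      omega
    have h4 : Nat.card M ≤ f * 2 := by
      rw [← hjm]
      exact Nat.le_mul_of_pos_left _ hj0
    have h5 : 1 + f * 2 ≤ 3 ^ f := by
      have : ∀ n : ℕ, 1 + n * 2 ≤ 3 ^ n := by
        intro n
        induction n with
        | zero => simp
        | succ n ih => rw [pow_succ]; omega
      exact this f
    have h6 : 3 ^ f ≤ p ^ f := Nat.pow_le_pow_left h3 f
    omega

end

end Cfsg.Agent.H585.UT
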