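import Cfsg.Agent.H585.UtField
import Cfsg.Agent.H616.TI.Defs

/-!
# The unitary case of the numerical criterion (S4821, goal `GoalU3`) (helper585)
-/

set_option autoImplicit false
set_option linter.unusedSectionVars false

namespace Cfsg.Agent.H585.UT

open Subgroup

universe u

/-- The data of `GoalU3`. -/
structure Dat (p f : ℕ) (F : Type) [Field F] (R : Type u) [Group R] (π τ : R → F) : Prop where
  pg : IsPGroup p R
  pimul : ∀ x y, π (x * y) = π x + π y
  surj : Function.Surjective π
  ker : ∀ x, π x = 0 ↔ x ∈ center R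
  cardZ : Nat.card (center R) = p ^ f
  tmul : ∀ x ∈ center R, ∀ y ∈ center R, τ (x * y) = τ x + τ y
  tinj : ∀ x ∈ center R, τ x = 0 → x = 1
  tq : ∀ x ∈ center R, τ x ^ p ^ f = - τ x
  comm : ∀ x y, τ (x * y * x⁻¹ * y⁻¹) = π x * π y ^ p ^ f - π x ^ p ^ f * π y

section
variable {p f : ℕ} [Fact p.Prime] {F : Type} [Field F] [Finite F] [CharP F p] {R : Type u}
  [Group R] [Finite R] {π τ : R → F}

theorem Dat.pi_one (D : Dat p f F R π τ) : π 1 = 0 := (D.ker 1).mpr (one_mem _)

theorem Dat.pi_inv (D : Dat p f F R π τ) (x : R) : π x⁻¹ = - π x := by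
  have h := D.pimul x x⁻¹
  rw [mul_inv_cancel, D.pi_one] at h
  linear_combination -h

theorem Dat.comm_mem (D : Dat p f F R π τ) (x y : R) : x * y * x⁻¹ * y⁻¹ ∈ center R := by
  rw [← D.ker, D.pimul, D.pimul, D.pimul, D.pi_inv, D.pi_inv]
  ring

theorem Dat.t_one (D : Dat p f F R π τ) : τ 1 = 0 := by
  have h := D.tmul 1 (one_mem _) 1 (one_mem _)
  rw [mul_one] at h
  linear_combination -h

theorem Dat.t_inv (D : Dat p f F R π τ) {x : R} (hx : x ∈ center R) : τ x⁻¹ = - τ x := by
  have h := D.tmul x hx x⁻¹ (inv_mem hx)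
  rw [mul_inv_cancel, D.t_one] at h
  linear_combination -h

theorem Dat.t_eq (D : Dat p f F R π τ) {x y : R} (hx : x ∈ center R) (hy : y ∈ center R)
    (h : τ x = τ y) : x = y := by
  have h1 := D.tmul x hx y⁻¹ (inv_mem hy)
  rw [D.t_inv hy, h, add_neg_cancel] at h1
  exact mul_inv_eq_one.mp (D.tinj _ (mul_mem hx (inv_mem hy)) h1)

theorem mem_center_iff_map (e : MulAut R) (x : R) : e x ∈ center R ↔ x ∈ center R :=
  MulEquivClass.apply_mem_center_iff e

theorem Dat.exists_comm (D : Dat p f F R π τ) (hf : 0 < f) (hF : Nat.card F = (p ^ f) ^ 2)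
    {z : R} (hz : z ∈ center R) : ∃ x y : R, z = x * y * x⁻¹ * y⁻¹ := by
  classical
  obtain ⟨y, hy⟩ := D.surj 1
  choose s hs using D.surj
  let c : F → center R := fun w => ⟨s w * y * (s w)⁻¹ * y⁻¹, D.comm_mem _ _⟩
  have hc : ∀ w, τ (c w) = w - w ^ p ^ f := by
    intro w
    change τ (s w * y * (s w)⁻¹ * y⁻¹) = _
    rw [D.comm, hs, hy]
    ring
  suffices hsurj : Function.Surjective c by
    obtain ⟨w, hw⟩ := hsurj ⟨z, hz⟩
    exact ⟨s w, y, (congrArg Subtype.val hw).symm⟩
  have : Fintype F := Fintype.ofFinite F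
  have : Fintype (center R) := Fintype.ofFinite _
  have h1 : (Finset.univ : Finset F).card ≤ (p ^ f) * (Finset.univ.image c).card := by
    apply Finset.card_le_mul_card_image
    intro b hb
    obtain ⟨w0, -, hw0⟩ := Finset.mem_image.mp hb
    have h2 : (Finset.univ.filter (fun w => c w = b)).card ≤ Nat.card (powF F p f) := by
      rw [Nat.card_eq_fintype_card, ← Finset.card_univ]
      apply Finset.card_le_card_of_injOn (fun w => if h : w - w0 ∈ powF F p f then ⟨w - w0, h⟩ else 0)
      · intro w _; exact Finset.mem_coe.mpr (Finset.mem_univ _)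
      · have key : ∀ w, c w = b → w - w0 ∈ powF F p f := by
          intro w hw
          have h3 : τ (c w) = τ (c w0) := by rw [hw, hw0]
          rw [hc, hc] at h3
          have h4 : (w - w0) ^ p ^ f = w ^ p ^ f - w0 ^ p ^ f := sub_pow_char_pow w w0 f
          rw [mem_powF, h4]
          linear_combination -h3
        intro w hw w' hw' hww
        simp only [Finset.coe_filter, Finset.mem_univ, true_and, Set.mem_ofPred_eq] at hw hw'
        beta_reduce at hww
        rw [dif_pos (key w hw), dif_pos (key w' hw')] at hww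
        have := congrArg Subtype.val hww
        simpa using this
    exact le_trans h2 (card_powF hf)
  rw [Finset.card_univ, ← Nat.card_eq_fintype_card, hF, pow_two] at h1
  have hpos : 0 < p ^ f := pow_pos (Fact.out : p.Prime).pos _
  have h3 := Nat.le_of_mul_le_mul_left h1 hpos
  have h4 : Finset.univ.image c = Finset.univ := by
    apply Finset.eq_univ_of_card
    apply le_antisymm (Finset.card_le_univ _)
    rw [← Nat.card_eq_fintype_card, D.cardZ]
    exact h3
  intro b
  have : b ∈ Finset.univ.image c := by rw [h4]; exact Finset.mem_univ _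
  obtain ⟨w, -, hw⟩ := Finset.mem_image.mp this
  exact ⟨w, hw⟩

theorem Dat.pi_cent (D : Dat p f F R π τ) {x y : R} (h : π x = π y) : x⁻¹ * y ∈ center R := by
  rw [← D.ker, D.pimul, D.pi_inv, h]
  ring

/-- An automorphism of order prime to `p` acting trivially modulo the centre is trivial. -/
theorem Dat.eq_one (D : Dat p f F R π τ) (hf : 0 < f) (hF : Nat.card F = (p ^ f) ^ 2)
    {e : MulAut R} (he : ¬ p ∣ orderOf e) (h : ∀ x, π (e x) = π x) : e = 1 := by
  have hz : ∀ z ∈ center R, e z = z := by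
    intro z hz
    obtain ⟨x, y, rfl⟩ := D.exists_comm hf hF hz
    apply D.t_eq ((mem_center_iff_map e _).mpr hz) hz
    rw [map_mul, map_mul, map_mul, map_inv, map_inv, D.comm, D.comm, h, h]
  apply MulEquiv.ext
  intro x
  change e x = x
  set c := x⁻¹ * e x with hc
  have hcz : c ∈ center R := D.pi_cent (h x).symm
  have hex : e x = x * c := by rw [hc]; group
  have hn : ∀ n : ℕ, (e ^ n) x = x * c ^ n := by
    intro n
    induction n with
    | zero => simp
    | succ n ih =>
      rw [pow_succ', MulAut.mul_apply, ih, map_mul, map_pow, hz c hcz, hex, pow_succ', mul_assoc]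
  have h1 : c ^ orderOf e = 1 := by
    have := hn (orderOf e)
    rw [pow_orderOf_eq_one] at this
    have h2 : x * 1 = x * c ^ orderOf e := by rw [mul_one]; exact this
    exact (mul_left_cancel h2).symm
  have h3 : orderOf c ∣ orderOf e := orderOf_dvd_of_pow_eq_one h1
  obtain ⟨k, hk⟩ := D.pg c
  have h4 : Nat.Coprime (orderOf c) (p ^ k) := by
    apply Nat.Coprime.pow_right
    rw [Nat.coprime_comm, Nat.Prime.coprime_iff_not_dvd Fact.out]
    exact fun h5 => he (dvd_trans h5 h3)
  have h5 : orderOf c = 1 := Nat.Coprime.eq_one_of_dvd h4 (orderOf_dvd_of_pow_eq_one hk)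
  rw [hex, orderOf_eq_one_iff.mp h5, mul_one]

/-- The semilinear action on the quotient by the centre. -/
def Semi (π : R → F) (e : MulAut R) (t : F) (s : RingAut F) : Prop :=
  t ≠ 0 ∧ ∀ x, π (e x) = t * s (π x)

theorem Dat.semi (D : Dat p f F R π τ) (hf : 0 < f) (hq : 2 < p ^ f)
    (hF : Nat.card F = (p ^ f) ^ 2) (A E : Subgroup (MulAut R))
    (hA : ∀ a ∈ A, ∃ t : F, ∀ x, π (a x) = t * π x) (hcard : (p ^ f) ^ 2 - 1 ≤ 3 * Nat.card A)
    (hE : ¬ p ∣ Nat.card E) (hAE : A ≤ E) (hnorm : ∀ e ∈ E, ∀ a ∈ A, e * a * e⁻¹ ∈ A)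
    {e : MulAut R} (he : e ∈ E) : ∃ (t : F) (s : RingAut F), Semi π e t s := by
  classical
  have hpe : ∀ x y, π x = π y → π (e x) = π (e y) := by
    intro x y h
    have h1 := D.pi_cent h
    have h2 : π (e (x⁻¹ * y)) = 0 := (D.ker _).mpr ((mem_center_iff_map e _).mpr h1)
    rw [map_mul, map_inv, D.pimul, D.pi_inv] at h2
    linear_combination -h2
  choose s hs using D.surj
  let g : F → F := fun v => π (e (s v))
  have hg : ∀ x, π (e x) = g (π x) := fun x => hpe _ _ (hs (π x)).symm
  have hgadd : ∀ v w, g (v + w) = g v + g w := by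
    intro v w
    have : π (e (s v * s w)) = g (π (s v * s w)) := hg _
    rw [map_mul, D.pimul, D.pimul, hs, hs] at this
    exact this.symm
  have hg0 : g 0 = 0 := by
    have := hgadd 0 0
    rw [add_zero] at this
    linear_combination -this
  have hgneg : ∀ v, g (-v) = - g v := by
    intro v
    have := hgadd v (-v)
    rw [add_neg_cancel, hg0] at this
    linear_combination -this
  have hginj : ∀ v, g v = 0 → v = 0 := by
    intro v hv
    have h1 : e (s v) ∈ center R := (D.ker _).mp hv
    rw [mem_center_iff_map, ← D.ker, hs] at h1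
    exact h1
  let S : Subfield F :=
    { carrier := {a | ∃ b : F, ∀ v, g (a * v) = b * g v}
      mul_mem' := by
        rintro a a' ⟨b, hb⟩ ⟨b', hb'⟩
        exact ⟨b * b', fun v => by rw [mul_assoc, hb, hb', mul_assoc]⟩
      one_mem' := ⟨1, fun v => by rw [one_mul, one_mul]⟩
      add_mem' := by
        rintro a a' ⟨b, hb⟩ ⟨b', hb'⟩
        exact ⟨b + b', fun v => by rw [add_mul, hgadd, hb, hb', add_mul]⟩
      zero_mem' := ⟨0, fun v => by rw [zero_mul, zero_mul, hg0]⟩
      neg_mem' := by
        rintro a ⟨b, hb⟩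
        exact ⟨-b, fun v => by rw [neg_mul, hgneg, hb, neg_mul]⟩
      inv_mem' := by
        rintro a ⟨b, hb⟩
        by_cases ha : a = 0
        · exact ⟨0, fun v => by rw [ha, inv_zero, zero_mul, zero_mul, hg0]⟩
        · have hb0 : b ≠ 0 := by
            intro hb0
            have h1 := hb 1
            rw [mul_one, hb0, zero_mul] at h1
            exact ha (hginj a h1)
          refine ⟨b⁻¹, fun v => ?_⟩
          have h1 := hb (a⁻¹ * v)
          rw [← mul_assoc, mul_inv_cancel₀ ha, one_mul] at h1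
          rw [h1, ← mul_assoc, inv_mul_cancel₀ hb0, one_mul] }
  choose! t ht using hA
  have htS : ∀ a ∈ A, t a ∈ S := by
    intro a ha
    refine ⟨t (e * a * e⁻¹), fun v => ?_⟩
    have h1 := ht _ (hnorm e he a ha) (e (s v))
    have h2 : (e * a * e⁻¹) (e (s v)) = e (a (s v)) := by
      rw [MulAut.mul_apply, MulAut.mul_apply, MulAut.inv_apply_self]
    rw [h2, hg, ht a ha, hs] at h1
    exact h1
  have ht0 : ∀ a ∈ A, t a ≠ 0 := by
    intro a ha h0
    obtain ⟨x, hx⟩ := D.surj 1
    have h1 := ht a ha (a⁻¹ x)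
    rw [MulAut.apply_inv_self, hx, h0, zero_mul] at h1
    exact one_ne_zero h1
  have htinj : ∀ a ∈ A, ∀ b ∈ A, t a = t b → a = b := by
    intro a ha b hb hab
    have h1 : ∀ x, π ((b⁻¹ * a) x) = π x := by
      intro x
      have h2 := ht b hb ((b⁻¹ * a) x)
      have h3 : b ((b⁻¹ * a) x) = a x := by
        rw [MulAut.mul_apply, MulAut.apply_inv_self]
      rw [h3, ht a ha, hab] at h2
      exact (mul_left_cancel₀ (ht0 b hb) h2).symm
    have h2 : ¬ p ∣ orderOf (b⁻¹ * a) := by
      intro h3
      apply hE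
      apply dvd_trans h3
      have hm : b⁻¹ * a ∈ E := mul_mem (inv_mem (hAE hb)) (hAE ha)
      exact Subgroup.orderOf_dvd_natCard E hm
    have h3 := D.eq_one hf hF h2 h1
    exact (inv_mul_eq_one.mp h3).symm
  have hStop : S = ⊤ := by
    by_contra hne
    have h1 := sq_le_of_lt (lt_top_iff_ne_top.mpr hne)
    have h2 : Nat.card (⊤ : Subfield F) = (p ^ f) ^ 2 := by
      rw [← hF]
      exact Nat.card_congr (Equiv.subtypeUnivEquiv (fun _ => Subfield.mem_top _))
    rw [h2] at h1
    have h3 : Nat.card S ≤ p ^ f := (Nat.pow_le_pow_iff_left (by norm_num)).mp h1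
    have h4 : Nat.card A + 1 ≤ Nat.card S := by
      have : Function.Injective (fun a : Option A => match a with
        | none => (0 : S)
        | some a => (⟨t a, htS a a.2⟩ : S)) := by
        intro a b hab
        rcases a with _ | a <;> rcases b with _ | b
        · rfl
        · exact absurd (congrArg Subtype.val hab).symm (ht0 b b.2)
        · exact absurd (congrArg Subtype.val hab) (ht0 a a.2)
        · exact congrArg some (Subtype.ext (htinj a a.2 b b.2 (congrArg Subtype.val hab)))
      have h5 := Nat.card_le_card_of_injective _ this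
      rw [Finite.card_option] at h5
      exact h5
    have h5 : (p ^ f) ^ 2 - 1 ≤ 3 * (p ^ f - 1) := by
      refine le_trans hcard ?_
      omega
    obtain ⟨m, hm⟩ : ∃ m, p ^ f = m + 3 := ⟨p ^ f - 3, by omega⟩
    rw [hm] at h5
    have h6 : (m + 3) ^ 2 = m * m + 6 * m + 9 := by ring
    rw [h6] at h5
    omega
  have hall : ∀ a : F, ∃ b : F, ∀ v, g (a * v) = b * g v := by
    intro a
    have : a ∈ S := by rw [hStop]; exact Subfield.mem_top a
    exact this
  have hg1 : g 1 ≠ 0 := fun h => one_ne_zero (hginj 1 h)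
  choose σ hσ using hall
  have hσ1 : ∀ a, g a = σ a * g 1 := by
    intro a
    have := hσ a 1
    rw [mul_one] at this
    exact this
  let σh : F →+* F :=
    { toFun := σ
      map_one' := by
        have := hσ1 1
        exact (mul_right_cancel₀ hg1 (by rw [one_mul]; exact this)).symm
      map_zero' := by
        have := hσ1 0
        rw [hg0] at this
        rcases mul_eq_zero.mp this.symm with h | h
        · exact h
        · exact absurd h hg1
      map_mul' := by
        intro a b
        apply mul_right_cancel₀ hg1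
        rw [← hσ1, hσ, hσ1 b, mul_assoc]
      map_add' := by
        intro a b
        apply mul_right_cancel₀ hg1
        rw [← hσ1, hgadd, hσ1 a, hσ1 b, add_mul] }
  have hbij : Function.Bijective σh := Finite.injective_iff_bijective.mp σh.injective
  refine ⟨g 1, RingEquiv.ofBijective σh hbij, hg1, fun x => ?_⟩
  rw [hg, hσ1, mul_comm]
  rfl

theorem Dat.semi_unique (D : Dat p f F R π τ) {e : MulAut R} {t t' : F} {s s' : RingAut F}
    (h : Semi π e t s) (h' : Semi π e t' s') : t = t' ∧ s = s' := by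
  obtain ⟨x, hx⟩ := D.surj 1
  have h1 : t = t' := by
    have h2 := h.2 x
    rw [h'.2 x, hx, map_one, map_one, mul_one, mul_one] at h2
    exact h2.symm
  refine ⟨h1, RingEquiv.ext fun v => ?_⟩
  obtain ⟨y, hy⟩ := D.surj v
  have h2 := h.2 y
  rw [h'.2 y, hy, ← h1] at h2
  exact (mul_left_cancel₀ h.1 h2).symm

theorem semi_mul {e e' : MulAut R} {t t' : F} {s s' : RingAut F}
    (h : Semi π e t s) (h' : Semi π e' t' s') : Semi π (e * e') (t * s t') (s * s') := by
  refine ⟨mul_ne_zero h.1 (fun h0 => h'.1 (s.injective (by rw [h0, map_zero]))), fun x => ?_⟩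
  rw [MulAut.mul_apply, h.2, h'.2, map_mul, ← mul_assoc]
  rfl

theorem Dat.semi_eq (D : Dat p f F R π τ) (hf : 0 < f) (hF : Nat.card F = (p ^ f) ^ 2)
    {E : Subgroup (MulAut R)} (hE : ¬ p ∣ Nat.card E) {e e' : MulAut R} (he : e ∈ E)
    (he' : e' ∈ E) {t : F} {s : RingAut F} (h : Semi π e t s) (h' : Semi π e' t s) : e = e' := by
  have h1 : ∀ x, π ((e'⁻¹ * e) x) = π x := by
    intro x
    have h2 := h'.2 ((e'⁻¹ * e) x)
    have h3 : e' ((e'⁻¹ * e) x) = e x := by rw [MulAut.mul_apply, MulAut.apply_inv_self]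
    rw [h3, h.2] at h2
    exact (s.injective (mul_left_cancel₀ h.1 h2)).symm
  have h2 : ¬ p ∣ orderOf (e'⁻¹ * e) := fun h3 =>
    hE (dvd_trans h3 (Subgroup.orderOf_dvd_natCard E (mul_mem (inv_mem he') he)))
  exact (inv_mul_eq_one.mp (D.eq_one hf hF h2 h1)).symm

theorem Dat.semi_center (D : Dat p f F R π τ) (hf : 0 < f) (hF : Nat.card F = (p ^ f) ^ 2)
    {e : MulAut R} {t : F} {s : RingAut F} (h : Semi π e t s) {w : R} (hw : w ∈ center R) :
    τ (e w) = t ^ (p ^ f + 1) * s (τ w) := by
  obtain ⟨x, y, rfl⟩ := D.exists_comm hf hF hw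
  rw [map_mul, map_mul, map_mul, map_inv, map_inv, D.comm, D.comm, h.2, h.2, map_sub, map_mul,
    map_mul, map_pow, map_pow, mul_pow, mul_pow, pow_succ]
  ring

/-- The stabiliser of a central element has order less than `q²`. -/
theorem Dat.card_stab (D : Dat p f F R π τ) (hf : 0 < f) (hq : 2 < p ^ f)
    (hF : Nat.card F = (p ^ f) ^ 2) (A E : Subgroup (MulAut R))
    (hA : ∀ a ∈ A, ∃ t : F, ∀ x, π (a x) = t * π x) (hcard : (p ^ f) ^ 2 - 1 ≤ 3 * Nat.card A)
    (hE : ¬ p ∣ Nat.card E) (hAE : A ≤ E) (hnorm : ∀ e ∈ E, ∀ a ∈ A, e * a * e⁻¹ ∈ A)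
    {z : R} (hz : z ∈ center R) (hz1 : z ≠ 1) :
    Nat.card {g : MulAut R // g ∈ E ∧ g z = z} + 1 ≤ (p ^ f) ^ 2 := by
  classical
  choose! t σ hσ using fun g (hg : g ∈ E) => D.semi hf hq hF A E hA hcard hE hAE hnorm hg
  have hτz : τ z ≠ 0 := fun h => hz1 (D.tinj z hz h)
  let Ez : Subgroup (MulAut R) :=
    { carrier := {g | g ∈ E ∧ g z = z}
      mul_mem' := by
        rintro a b ⟨ha, haz⟩ ⟨hb, hbz⟩
        exact ⟨mul_mem ha hb, by rw [MulAut.mul_apply, hbz, haz]⟩
      one_mem' := ⟨one_mem _, rfl⟩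
      inv_mem' := by
        rintro a ⟨ha, haz⟩
        refine ⟨inv_mem ha, ?_⟩
        have h1 : a⁻¹ (a z) = z := MulAut.inv_apply_self R a z
        rwa [haz] at h1 }
  have hEzE : Ez ≤ E := fun g hg => hg.1
  let Φ : Ez →* RingAut F :=
    { toFun := fun g => σ g
      map_one' := by
        have h1 : Semi π (1 : MulAut R) 1 1 := ⟨one_ne_zero, fun x => by rw [one_mul]; rfl⟩
        exact (D.semi_unique (hσ 1 (one_mem _)) h1).2
      map_mul' := by
        intro a b
        have h1 := semi_mul (hσ a (hEzE a.2)) (hσ b (hEzE b.2))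
        exact (D.semi_unique (hσ (a * b : MulAut R) (mul_mem (hEzE a.2) (hEzE b.2))) h1).2 }
  have h1 : Nat.card Ez = Nat.card Φ.ker * Nat.card Φ.range := by
    rw [← Subgroup.index_ker, Subgroup.card_mul_index]
  have h2 : Nat.card Φ.range + 1 ≤ p ^ f := by
    apply card_aut_lt hf hF
    intro h3
    apply hE
    refine dvd_trans h3 (dvd_trans ?_ (Subgroup.card_dvd_of_le hEzE))
    rw [h1]
    exact dvd_mul_left _ _
  have h3 : Nat.card Φ.ker ≤ p ^ f + 1 := by
    refine le_trans ?_ (card_root_one (F := F) (p ^ f + 1) (Nat.succ_pos _))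
    have hker : ∀ g : Φ.ker, σ (g : Ez) = 1 := fun g => g.2
    refine Nat.card_le_card_of_injective (fun g : Φ.ker => (⟨t (g : Ez), ?_⟩ :
      {x : F // x ^ (p ^ f + 1) = 1})) ?_
    · have h4 := D.semi_center hf hF (hσ (g : Ez) (hEzE g.1.2)) hz
      have h5 : ((g : Ez) : MulAut R) z = z := g.1.2.2
      rw [h5, hker g] at h4
      have h6 : (1 : RingAut F) (τ z) = τ z := rfl
      rw [h6] at h4
      exact (mul_right_cancel₀ hτz (by rw [one_mul]; exact h4)).symm
    · intro g g' hgg
      have h4 : t (g : Ez) = t (g' : Ez) := congrArg Subtype.val hgg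
      have h5 := hσ (g : Ez) (hEzE g.1.2)
      have h6 := hσ (g' : Ez) (hEzE g'.1.2)
      rw [hker g] at h5
      rw [hker g', ← h4] at h6
      apply Subtype.ext
      apply Subtype.ext
      exact D.semi_eq hf hF hE (hEzE g.1.2) (hEzE g'.1.2) h5 h6
  have h4 : Nat.card {g : MulAut R // g ∈ E ∧ g z = z} = Nat.card Ez := rfl
  rw [h4, h1]
  obtain ⟨m, hm⟩ : ∃ m, p ^ f = m + 1 := ⟨p ^ f - 1, by omega⟩
  rw [hm] at h2 h3 ⊢
  have h5 : Nat.card Φ.ker * Nat.card Φ.range ≤ (m + 1 + 1) * m :=
    Nat.mul_le_mul h3 (by omega)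
  nlinarith

/-- A nontrivial element of the stabiliser of a central element has at most `q` fixed points. -/
theorem Dat.card_fixed (D : Dat p f F R π τ) (hf : 0 < f) (hq : 2 < p ^ f)
    (hF : Nat.card F = (p ^ f) ^ 2) (A E : Subgroup (MulAut R))
    (hA : ∀ a ∈ A, ∃ t : F, ∀ x, π (a x) = t * π x) (hcard : (p ^ f) ^ 2 - 1 ≤ 3 * Nat.card A)
    (hE : ¬ p ∣ Nat.card E) (hAE : A ≤ E) (hnorm : ∀ e ∈ E, ∀ a ∈ A, e * a * e⁻¹ ∈ A)
    {z : R} (hz : z ∈ center R) (hz1 : z ≠ 1) {e : MulAut R} (he : e ∈ E) (hez : e z = z)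
    (he1 : e ≠ 1) : Nat.card {x : R // e x = x} ≤ p ^ f := by
  classical
  obtain ⟨t, s, hs⟩ := D.semi hf hq hF A E hA hcard hE hAE hnorm he
  have hτz : τ z ≠ 0 := fun h => hz1 (D.tinj z hz h)
  by_cases hx1 : ∃ x1 : F, x1 ≠ 0 ∧ t * s x1 = x1
  · obtain ⟨x1, hx10, hx1⟩ := hx1
    -- centre
    have hcz := D.semi_center hf hF hs hz
    rw [hez] at hcz
    let N := {c : F // c ∈ (fixF s ⊓ powF F p f : Subfield F)}
    let sec : F → R := fun v => if h : ∃ x, e x = x ∧ π x = v then h.choose else 1
    have hsec : ∀ x, e x = x → e (sec (π x)) = sec (π x) ∧ π (sec (π x)) = π x := by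
      intro x hx
      have h : ∃ y, e y = y ∧ π y = π x := ⟨x, hx, rfl⟩
      have h2 : sec (π x) = h.choose := dif_pos h
      rw [h2]
      exact h.choose_spec
    have hfix : ∀ v : F, t * s v = v → v / x1 ∈ fixF s := by
      intro v hv
      rw [mem_fixF, map_div₀]
      have h0 : s x1 ≠ 0 := fun h => hx10 (by rw [← hx1, h, mul_zero])
      rw [div_eq_div_iff h0 hx10]
      apply mul_left_cancel₀ hs.1
      linear_combination x1 * hv - v * hx1
    have hcen : ∀ c ∈ center R, e c = c → τ c / τ z ∈ (fixF s ⊓ powF F p f : Subfield F) := by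
      intro c hc hec
      have h1 := D.semi_center hf hF hs hc
      rw [hec] at h1
      have h0 : s (τ z) ≠ 0 := fun h => hτz (by rw [hcz, h, mul_zero])
      refine ⟨?_, ?_⟩
      · change s (τ c / τ z) = τ c / τ z
        rw [map_div₀, div_eq_div_iff h0 hτz]
        apply mul_left_cancel₀ (pow_ne_zero (p ^ f + 1) hs.1)
        linear_combination -(τ z) * h1 + (τ c) * hcz
      · change (τ c / τ z) ^ p ^ f = τ c / τ z
        rw [div_pow, D.tq c hc, D.tq z hz, neg_div_neg_eq]
    have hbound : Nat.card {x : R // e x = x} ≤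
        Nat.card (fixF s) * Nat.card ((fixF s ⊓ powF F p f : Subfield F)) := by
      rw [← Nat.card_prod]
      refine Nat.card_le_card_of_injective (fun x : {x : R // e x = x} =>
        ((⟨π x / x1, hfix _ ?_⟩ : fixF s),
          (⟨τ ((sec (π x))⁻¹ * x) / τ z, hcen _ ?_ ?_⟩ :
            ((fixF s ⊓ powF F p f : Subfield F))))) ?_
      · have := hs.2 x
        rw [x.2] at this
        exact this.symm
      · exact D.pi_cent (hsec x x.2).2
      · rw [map_mul, map_inv, (hsec x x.2).1, x.2]
      · intro x y hxy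
        have h1 : π x / x1 = π y / x1 := congrArg (fun a => (a.1 : F)) hxy
        have h2 : τ ((sec (π x))⁻¹ * x) / τ z = τ ((sec (π y))⁻¹ * y) / τ z :=
          congrArg (fun a => (a.2 : F)) hxy
        have h3 : π x = π y := by
          field_simp at h1
          exact h1
        have h4 : τ ((sec (π x))⁻¹ * x) = τ ((sec (π y))⁻¹ * y) := by
          field_simp at h2
          exact h2
        have h5 := D.t_eq (D.pi_cent (hsec x x.2).2) (D.pi_cent (hsec y y.2).2) h4
        rw [h3] at h5
        exact Subtype.ext (mul_left_cancel h5)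
    have hord : ¬ p ∣ orderOf s := by
      intro h1
      have h2 : ∀ n : ℕ, ∃ u : F, Semi π (e ^ n) u (s ^ n) := by
        intro n
        induction n with
        | zero => exact ⟨1, one_ne_zero, fun x => by rw [one_mul]; rfl⟩
        | succ n ih =>
          obtain ⟨u, hu⟩ := ih
          exact ⟨_, by rw [pow_succ', pow_succ']; exact semi_mul hs hu⟩
      obtain ⟨u, hu⟩ := h2 (orderOf e)
      rw [pow_orderOf_eq_one] at hu
      have h4 : Semi π (1 : MulAut R) 1 1 := ⟨one_ne_zero, fun x => by rw [one_mul]; rfl⟩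
      have h5 := (D.semi_unique hu h4).2
      exact hE (dvd_trans h1 (dvd_trans (orderOf_dvd_of_pow_eq_one h5)
        (Subgroup.orderOf_dvd_natCard E he)))
    by_cases h3 : 3 ≤ orderOf s
    · exact le_trans hbound (fix_mul_le hf hF s h3)
    · exfalso
      have h0 : 0 < orderOf s := orderOf_pos s
      have h12 : orderOf s = 1 ∨ orderOf s = 2 := by omega
      rcases h12 with h1 | h2
      · have hs1 : s = 1 := orderOf_eq_one_iff.mp h1
        rw [hs1] at hx1
        have ht1 : t = 1 := by
          have : t * x1 = 1 * x1 := by rw [one_mul]; exact hx1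
          exact mul_right_cancel₀ hx10 this
        rw [hs1, ht1] at hs
        have h4 : Semi π (1 : MulAut R) 1 1 := ⟨one_ne_zero, fun x => by rw [one_mul]; rfl⟩
        exact he1 (D.semi_eq hf hF hE he (one_mem _) hs h4)
      · have hp2 : p ≠ 2 := by
          rintro rfl
          exact hord (by rw [h2])
        have hsq := order_two hf hF s h2
        rw [hsq, D.tq z hz] at hcz
        have ht : t ^ (p ^ f + 1) = -1 := by
          apply mul_right_cancel₀ hτz
          linear_combination hcz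
        have h5 : s (s x1) = x1 := by
          have h6 : s ^ 2 = 1 := by rw [← h2]; exact pow_orderOf_eq_one s
          calc s (s x1) = (s ^ 2) x1 := rfl
            _ = x1 := by rw [h6]; rfl
        have h7 : s x1 = s t * x1 := by
          conv_lhs => rw [← hx1]
          rw [map_mul, h5]
        rw [h7, hsq] at hx1
        rw [pow_succ] at ht
        have h8 : x1 * 2 = 0 := by linear_combination x1 * ht - hx1
        rcases mul_eq_zero.mp h8 with h9 | h9
        · exact hx10 h9
        · have : (p : ℕ) ∣ 2 := by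
            rw [← CharP.cast_eq_zero_iff F p]
            exact_mod_cast h9
          exact hp2 ((Nat.prime_dvd_prime_iff_eq Fact.out Nat.prime_two).mp this)
  · -- no fixed points on the quotient
    push Not at hx1
    rw [← D.cardZ]
    refine Nat.card_le_card_of_injective (fun x : {x : R // e x = x} =>
      (⟨(x : R), ?_⟩ : center R)) ?_
    · rw [← D.ker]
      by_contra h0
      apply hx1 _ h0
      have := hs.2 x
      rw [x.2] at this
      exact this.symm
    · intro x y hxy
      exact Subtype.ext (congrArg (fun a : center R => (a : R)) hxy)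

theorem Dat.card_R (D : Dat p f F R π τ) (hF : Nat.card F = (p ^ f) ^ 2) :
    Nat.card R = (p ^ f) ^ 2 * p ^ f := by
  choose s hs using D.surj
  rw [← hF, ← D.cardZ, ← Nat.card_prod]
  symm
  apply Nat.card_congr
  refine Equiv.ofBijective (fun a : F × center R => s a.1 * a.2) ⟨?_, ?_⟩
  · rintro ⟨v, c⟩ ⟨w, d⟩ h
    have h1 : s v * c = s w * d := h
    have h2 : v = w := by
      have := congrArg π h1
      rw [D.pimul, D.pimul, hs, hs, (D.ker _).mpr c.2, (D.ker _).mpr d.2, add_zero, add_zero] at this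
      exact this
    subst h2
    exact Prod.ext rfl (Subtype.ext (mul_left_cancel h1))
  · intro x
    exact ⟨(π x, ⟨(s (π x))⁻¹ * x, D.pi_cent (hs _)⟩), by simp⟩

end

/-- GOAL U3 of S4821. -/
theorem goalU3 : Cfsg.Agent.H616.TI.GoalU3.{u} := by
  intro p _ q hq F _ _ hF _ R _ _ hpg π τ hmul hsurj hker hcardZ htmul htinj htq hcomm A hA hcard
  have hF' : Nat.card F = q ^ 2 := by rw [Nat.card_eq_fintype_card, hF]
  have hqp : ∃ f, q = p ^ f := by
    have h1 : ∃ n : ℕ+, Nat.card F = p ^ (n : ℕ) := by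
      obtain ⟨n, -, hn⟩ := FiniteField.card F p
      exact ⟨n, by rw [Nat.card_eq_fintype_card]; exact hn⟩
    obtain ⟨n, hn⟩ := h1
    have h2 : q ∣ p ^ (n : ℕ) := by
      rw [← hn, hF', pow_two]
      exact dvd_mul_right _ _
    obtain ⟨f, -, hf⟩ := (Nat.dvd_prime_pow Fact.out).mp h2
    exact ⟨f, hf⟩
  obtain ⟨f, rfl⟩ := hqp
  have hf : 0 < f := by
    rcases Nat.eq_zero_or_pos f with h | h
    · rw [h, pow_zero] at hq
      omega
    · exact h
  have D : Dat p f F R π τ := ⟨hpg, hmul, hsurj, hker, hcardZ, htmul, htinj, htq, hcomm⟩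
  intro E hE hAE hnorm z hz hz1 e he hez he1
  have h1 := D.card_stab hf hq hF' A E hA hcard hE hAE hnorm hz hz1
  have h2 := D.card_fixed hf hq hF' A E hA hcard hE hAE hnorm hz hz1 he hez he1
  rw [D.card_R hF']
  exact Nat.mul_le_mul h1 h2

end Cfsg.Agent.H585.UT
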